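import Mathlib
import Cfsg.Agent.Lib.helper1.Coprime
import Cfsg.Agent.Lib.helper11.Supersolvable
import Cfsg.Agent.Lib.helper66.PLengthSeries

set_option autoImplicit false

namespace Cfsg.Agent.Lib.helper90

open scoped commutatorElement

/-- PIECE C of B-G Theorem 3.6 (the Z-group case): if `⁅H, R₀⁆ ≤ V` where `V` is the largest
normal `p`-subgroup of `H`, `C_H(R₀)` is a Z-group and `⁅H, R⁆ = H`, then `H / V` is a
`p'`-group. -/
theorem zcase {G : Type*} [Group G] [Finite G] [Group.IsSolvable G] {p : ℕ} [Fact p.Prime]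
    (H R R₀ V : Subgroup G) [H.Normal] [V.Normal] (hHR : H ⊔ R = ⊤)
    (hcop : (Nat.card H).Coprime (Nat.card R)) (hR₀ : R₀ ≤ R)
    (hZ : IsZGroup ↥(H ⊓ Subgroup.centralizer (R₀ : Set G))) (hHc : ⁅H, R⁆ = H) (hVH : V ≤ H)
    (hVp : IsPGroup p V)
    (hVmax : ∀ T : Subgroup G, T ≤ H → H ≤ Subgroup.normalizer (T : Set G) → IsPGroup p T →
      T ≤ V)
    (hcomm : ⁅H, R₀⁆ ≤ V) : (V.relIndex H).Coprime p := by
  classical
  set π := QuotientGroup.mk' V with hπ
  set Hb : Subgroup (G ⧸ V) := H.map π with hHb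
  -- Step 1: every element of H is congruent mod V to an element of C_H(R₀)
  have step1 : ∀ h ∈ H, ∃ c ∈ H ⊓ Subgroup.centralizer (R₀ : Set G), c * h⁻¹ ∈ V := by
    intro h hh
    have hcop' : (Nat.card R₀).Coprime (Nat.card V) := by
      have h1 : Nat.card R₀ ∣ Nat.card R := Subgroup.card_dvd_of_le hR₀
      have h2 : Nat.card V ∣ Nat.card H := Subgroup.card_dvd_of_le hVH
      exact (hcop.symm.coprime_dvd_left h1).coprime_dvd_right h2
    obtain ⟨c, hc, hcV⟩ := Cfsg.Agent.Lib.helper1.coset_fixed R₀ V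
      (by rw [Subgroup.normalizer_eq_top]; exact le_top) hcop' (Or.inl inferInstance) h
      (by
        intro a ha
        have h1 : ⁅h, a⁆ ∈ V := hcomm (Subgroup.commutator_mem_commutator hh ha)
        have h2 : a * h * a⁻¹ * h⁻¹ = ⁅h, a⁆⁻¹ := by
          rw [commutatorElement_def]; group
        rw [h2]; exact V.inv_mem h1)
    refine ⟨c, ⟨?_, hc⟩, hcV⟩
    have : c = (c * h⁻¹) * h := by group
    rw [this]; exact H.mul_mem (hVH hcV) hh
  -- Step 2: the image of H is a Z-group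
  let φ : ↥(H ⊓ Subgroup.centralizer (R₀ : Set G)) →* ↥Hb :=
    (π.comp (Subgroup.subtype _)).codRestrict Hb (fun x => Subgroup.mem_map_of_mem π x.2.1)
  have hφ : Function.Surjective φ := by
    rintro ⟨y, hy⟩
    obtain ⟨h, hh, rfl⟩ := Subgroup.mem_map.mp hy
    obtain ⟨c, hc, hcV⟩ := step1 h hh
    refine ⟨⟨c, hc⟩, ?_⟩
    apply Subtype.ext
    show π c = π h
    have h1 : π (c * h⁻¹) = 1 := (QuotientGroup.eq_one_iff _).mpr hcV
    rwa [map_mul, map_inv, mul_inv_eq_one] at h1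
  have hZb : IsZGroup ↥Hb := IsZGroup.of_surjective hφ
  -- Step 3: the commutator subgroup of the image is cyclic
  have hcyc : IsCyclic (commutator ↥Hb) := IsZGroup.isCyclic_commutator ↥Hb
  obtain ⟨a', ha'⟩ := (Subgroup.isCyclic_iff_exists_zpowers_eq_top (commutator ↥Hb)).mp hcyc
  have hHbn : Hb.Normal := Subgroup.Normal.map inferInstance π (QuotientGroup.mk'_surjective V)
  have himg : Subgroup.zpowers (a' : G ⧸ V) = ⁅Hb, Hb⁆ := by
    have h1 : (Subgroup.zpowers a').map Hb.subtype = Subgroup.zpowers (a' : G ⧸ V) := by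
      rw [MonoidHom.map_zpowers]; rfl
    rw [← h1, ha', commutator_def, Subgroup.map_commutator, ← MonoidHom.range_eq_map,
      Subgroup.range_subtype]
  have hnorm : (Subgroup.zpowers (a' : G ⧸ V)).Normal := by
    rw [himg]; exact Subgroup.commutator_normal Hb Hb
  have hHbc : Hb ≤ commutator (G ⧸ V) := by
    have h1 : Hb = ⁅Hb, R.map π⁆ := by
      rw [hHb, ← Subgroup.map_commutator, hHc]
    rw [h1, commutator_def]
    exact Subgroup.commutator_mono le_top le_top
  have hcen : ∀ x : ↥Hb, x * a' = a' * x := by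
    intro x
    apply Subtype.ext
    exact Cfsg.Agent.Lib.helper11.commutator_commute_of_normal_zpowers (a' : G ⧸ V) hnorm x
      (hHbc x.2)
  have hnil : Group.IsNilpotent ↥Hb := by
    rw [Subgroup.isNilpotent_iff_lowerCentralSeries]
    refine ⟨2, ?_⟩
    show ⁅⁅Hb, Hb⁆, Hb⁆ = ⊥
    rw [← himg, Subgroup.commutator_eq_bot_iff_le_centralizer,
      Subgroup.zpowers_le, Subgroup.mem_centralizer_iff]
    intro x hx
    exact congrArg Subtype.val (hcen ⟨x, hx⟩)
  -- Step 4: the Sylow p-subgroup of the image is normal, hence trivial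
  rw [← Cfsg.Agent.Lib.helper66.card_map_mk'_eq_relIndex V H]
  by_contra hnc
  have hdvd : p ∣ Nat.card ↥Hb := by
    rcases (Nat.coprime_or_dvd_of_prime (Fact.out : p.Prime) (Nat.card ↥Hb)) with h | h
    · exact absurd h.symm hnc
    · exact h
  obtain ⟨P⟩ : Nonempty (Sylow p ↥Hb) := inferInstance
  have hPn : (P : Subgroup ↥Hb).Normal :=
    ((Group.isNilpotent_of_finite_tfae (G := ↥Hb)).out 0 3 rfl rfl).mp hnil p inferInstance P
  have hPne : (P : Subgroup ↥Hb) ≠ ⊥ := P.ne_bot_of_dvd_card hdvd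
  set Pb : Subgroup (G ⧸ V) := (P : Subgroup ↥Hb).map Hb.subtype with hPb
  set T : Subgroup G := Pb.comap π with hT
  have hPbH : Pb ≤ Hb := by
    rw [hPb]; exact Subgroup.map_subtype_le _
  have hconj : ∀ y ∈ Hb, ∀ z ∈ Pb, y * z * y⁻¹ ∈ Pb := by
    intro y hy z hz
    obtain ⟨w, hw, rfl⟩ := Subgroup.mem_map.mp hz
    exact Subgroup.mem_map.mpr ⟨⟨y, hy⟩ * w * ⟨y, hy⟩⁻¹, hPn.conj_mem w hw ⟨y, hy⟩, rfl⟩
  have hTH : T ≤ H := by
    intro t ht
    have h1 : π t ∈ Hb := hPbH ht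
    obtain ⟨h, hh, hht⟩ := Subgroup.mem_map.mp h1
    have h2 : h⁻¹ * t ∈ V := QuotientGroup.eq.mp hht
    have h3 : t = h * (h⁻¹ * t) := by group
    rw [h3]; exact H.mul_mem hh (hVH h2)
  have hTn : H ≤ Subgroup.normalizer (T : Set G) := by
    intro h hh
    rw [Subgroup.mem_normalizer_iff]
    intro t
    show π t ∈ Pb ↔ π (h * t * h⁻¹) ∈ Pb
    rw [map_mul, map_mul, map_inv]
    constructor
    · intro ht; exact hconj _ (Subgroup.mem_map_of_mem π hh) _ ht
    · intro ht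
      have h1 := hconj (π h)⁻¹ (Hb.inv_mem (Subgroup.mem_map_of_mem π hh)) _ ht
      simpa [mul_assoc] using h1
  have hTp : IsPGroup p T := by
    apply IsPGroup.comap_of_ker_isPGroup
    · exact P.isPGroup'.map _
    · rw [QuotientGroup.ker_mk']; exact hVp
  have hTV : T ≤ V := hVmax T hTH hTn hTp
  apply hPne
  rw [eq_bot_iff]
  intro x hx
  have hx1 : (x : G ⧸ V) ∈ Pb := Subgroup.mem_map_of_mem _ hx
  obtain ⟨g, hg⟩ := QuotientGroup.mk'_surjective V (x : G ⧸ V)
  have hgT : g ∈ T := by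
    show π g ∈ Pb
    rw [hπ, hg]; exact hx1
  have hgV : g ∈ V := hTV hgT
  have h1 : (x : G ⧸ V) = 1 := by
    rw [← hg]; exact (QuotientGroup.eq_one_iff g).mpr hgV
  rw [Subgroup.mem_bot]; exact Subtype.ext h1

end Cfsg.Agent.Lib.helper90
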