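import Mathlib
import Cfsg.Agent.Lib.helper1.Coprime
import Cfsg.Agent.Lib.helper65.MinNormal
import Cfsg.Agent.Lib.helper66.PLengthSeries

set_option autoImplicit false

namespace Cfsg.Agent.Lib.helper90

open scoped commutatorElement Pointwise

/-- PIECE E of B-G Theorem 3.6 (structure of `H` over `V`): a minimal normal subgroup `U / V` of
`G / V` inside `H / V` is a `q`-group with `q ≠ p`, `U = V ⋊ K` with `K` an `R₀`-invariant Sylow
`q`-subgroup of `U`, and `H = V N_H(K)` by the Frattini argument. -/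
theorem exists_split {G : Type*} [Group G] [Finite G] [Group.IsSolvable G] {p : ℕ}
    [Fact p.Prime] (H R₀ V : Subgroup G) [H.Normal] [V.Normal] (hVH : V ≤ H) (hVne : V ≠ H)
    (hVc : ∀ a ∈ V, ∀ b ∈ V, a * b = b * a) (hVp : IsPGroup p V)
    (hVmax : ∀ T : Subgroup G, T ≤ H → H ≤ Subgroup.normalizer (T : Set G) → IsPGroup p T →
      T ≤ V)
    (hCV : H ⊓ Subgroup.centralizer (V : Set G) ≤ V)
    (hR₀H : (Nat.card R₀).Coprime (Nat.card H)) :
    ∃ (q : ℕ) (K U : Subgroup G), q.Prime ∧ q ≠ p ∧ U.Normal ∧ V ≤ U ∧ U ≤ H ∧ IsPGroup q K ∧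
      K ≠ ⊥ ∧ V ⊔ K = U ∧ V ⊓ K = ⊥ ∧ R₀ ≤ Subgroup.normalizer (K : Set G) ∧
      V ⊔ (H ⊓ Subgroup.normalizer (K : Set G)) = H ∧
      V ⊓ Subgroup.centralizer (U : Set G) = V ⊓ Subgroup.centralizer (K : Set G) ∧
      ⁅V, U⁆ = ⁅V, K⁆ := by
  classical
  have hVnorm : V.Normal := inferInstance
  set π := QuotientGroup.mk' V with hπ
  have hπs : Function.Surjective π := QuotientGroup.mk'_surjective V
  have hker : π.ker = V := QuotientGroup.ker_mk' V
  set Hb : Subgroup (G ⧸ V) := H.map π with hHb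
  have hHbn : Hb.Normal := Subgroup.Normal.map inferInstance π hπs
  have hHbne : Hb ≠ ⊥ := by
    intro h0
    apply hVne
    apply le_antisymm hVH
    intro h hh
    have h1 : π h ∈ Hb := Subgroup.mem_map_of_mem π hh
    rw [h0, Subgroup.mem_bot] at h1
    exact (QuotientGroup.eq_one_iff h).mp h1
  -- a minimal normal subgroup of `G / V` inside `Hb`
  obtain ⟨Mb, -, hMbmin⟩ := Finite.exists_le_minimal
    (p := fun N : Subgroup (G ⧸ V) => N.Normal ∧ N ≠ ⊥ ∧ N ≤ Hb) (a := Hb)
    ⟨hHbn, hHbne, le_rfl⟩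
  obtain ⟨hMbn, hMbne, hMbH'⟩ := hMbmin.1
  have hMbmin' : ∀ K : Subgroup (G ⧸ V), K.Normal → K ≤ Mb → K = ⊥ ∨ K = Mb := by
    intro K hKn hKM
    by_cases hK : K = ⊥
    · exact Or.inl hK
    · exact Or.inr (le_antisymm hKM (hMbmin.2 ⟨hKn, hK, hKM.trans hMbH'⟩ hKM))
  obtain ⟨q, hq, -, -, hMbqg⟩ := Cfsg.Agent.Lib.helper65.minNormal_solvable_elementary Mb hMbn
    inferInstance hMbne hMbmin'
  haveI : Fact q.Prime := ⟨hq⟩
  set U : Subgroup G := Mb.comap π with hU
  have hUn : U.Normal := hMbn.comap π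
  have hVU : V ≤ U := by
    intro v hv
    show π v ∈ Mb
    have h1 : π v = 1 := (QuotientGroup.eq_one_iff v).mpr hv
    rw [h1]; exact Mb.one_mem
  have hUH : U ≤ H := by
    intro u hu
    have h1 : π u ∈ Hb := hMbH' hu
    obtain ⟨h, hh, hhu⟩ := Subgroup.mem_map.mp h1
    have h2 : h⁻¹ * u ∈ V := QuotientGroup.eq.mp hhu
    have h3 : u = h * (h⁻¹ * u) := by group
    rw [h3]; exact H.mul_mem hh (hVH h2)
  have hUmap : U.map π = Mb := Subgroup.map_comap_eq_self_of_surjective hπs Mb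
  have hqp : q ≠ p := by
    rintro rfl
    have hUp : IsPGroup q U := hMbqg.comap_of_ker_isPGroup π (by rw [hker]; exact hVp)
    have hUV : U ≤ V := hVmax U hUH (by rw [Subgroup.normalizer_eq_top]; exact le_top) hUp
    apply hMbne
    rw [← hUmap, eq_bot_iff]
    rintro _ ⟨u, hu, rfl⟩
    exact (QuotientGroup.eq_one_iff u).mpr (hUV hu)
  -- an `R₀`-invariant Sylow `q`-subgroup of `U`
  have hcopU : (Nat.card R₀).Coprime (Nat.card U) :=
    hR₀H.coprime_dvd_right (Subgroup.card_dvd_of_le hUH)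
  obtain ⟨P, hPR⟩ := Cfsg.Agent.Lib.helper1.exists_invariant_sylow (p := q) R₀ U
    (by rw [Subgroup.normalizer_eq_top]; exact le_top) hcopU (Or.inl inferInstance)
  set K : Subgroup G := (P : Subgroup U).map U.subtype with hK
  have hKU : K ≤ U := by rw [hK]; exact Subgroup.map_subtype_le _
  have hKq : IsPGroup q K := P.isPGroup'.map _
  have hdisj : V ⊓ K = ⊥ := disjoint_iff.mp (IsPGroup.disjoint_of_ne p q hqp.symm V K hVp hKq)
  have hVK : V ⊔ K = U := by
    apply le_antisymm (sup_le hVU hKU)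
    rw [← Subgroup.relIndex_eq_one]
    have hd1 : (V ⊔ K).relIndex U ∣ K.relIndex U :=
      Dvd.intro_left _ (Subgroup.relIndex_mul_relIndex K (V ⊔ K) U le_sup_right (sup_le hVU hKU))
    have hd2 : (V ⊔ K).relIndex U ∣ V.relIndex U :=
      Dvd.intro_left _ (Subgroup.relIndex_mul_relIndex V (V ⊔ K) U le_sup_left (sup_le hVU hKU))
    have h1 : K.relIndex U = (P : Subgroup U).index := by
      rw [Subgroup.relIndex, hK]
      congr 1
      exact Subgroup.comap_map_eq_self_of_injective U.subtype_injective _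
    have h2 : ¬ q ∣ K.relIndex U := by rw [h1]; exact P.not_dvd_index
    have h3 : V.relIndex U = Nat.card Mb := by
      rw [← Cfsg.Agent.Lib.helper66.card_map_mk'_eq_relIndex V U, ← hπ, hUmap]
    obtain ⟨b, hb⟩ := IsPGroup.iff_card.mp hMbqg
    rw [h3, hb] at hd2
    have hcop : ((V ⊔ K).relIndex U).Coprime (q ^ b) := by
      apply Nat.Coprime.pow_right
      exact (Nat.Coprime.coprime_dvd_left hd1 ((Nat.Prime.coprime_iff_not_dvd hq).mpr h2).symm)
    exact hcop.eq_one_of_dvd hd2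
  have hKne : K ≠ ⊥ := by
    intro h0
    rw [h0, sup_bot_eq] at hVK
    apply hMbne
    rw [← hUmap, ← hVK, eq_bot_iff]
    rintro _ ⟨u, hu, rfl⟩
    exact (QuotientGroup.eq_one_iff u).mpr hu
  -- Frattini argument
  have hfrat : V ⊔ (H ⊓ Subgroup.normalizer (K : Set G)) = H := by
    apply le_antisymm (sup_le hVH inf_le_left)
    intro h hh
    have h1 : Subgroup.normalizer (K : Set G) ⊔ U = ⊤ := Sylow.normalizer_sup_eq_top P
    have h2 : h ∈ Subgroup.normalizer (K : Set G) ⊔ U := by rw [h1]; trivial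
    rw [← SetLike.mem_coe, Subgroup.mul_normal] at h2
    obtain ⟨n, hn, u, hu, rfl⟩ := Set.mem_mul.mp h2
    have h3 : u ∈ V ⊔ K := by rw [hVK]; exact hu
    rw [← SetLike.mem_coe, Subgroup.normal_mul] at h3
    obtain ⟨v, hv, k, hk, rfl⟩ := Set.mem_mul.mp h3
    have hnv : n * v * n⁻¹ ∈ V := hVnorm.conj_mem v hv n
    have hnk : n * k ∈ Subgroup.normalizer (K : Set G) :=
      Subgroup.mul_mem _ hn (Subgroup.le_normalizer hk)
    have e : n * (v * k) = (n * v * n⁻¹) * (n * k) := by group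
    have hnkH : n * k ∈ H := by
      have e2 : n * k = (n * v * n⁻¹)⁻¹ * (n * (v * k)) := by group
      rw [e2]; exact H.mul_mem (H.inv_mem (hVH hnv)) hh
    rw [e]
    exact Subgroup.mul_mem_sup hnv ⟨hnkH, hnk⟩
  -- centralizers
  have hcent : V ⊓ Subgroup.centralizer (U : Set G) = V ⊓ Subgroup.centralizer (K : Set G) := by
    apply le_antisymm
    · exact inf_le_inf_left V (Subgroup.centralizer_le hKU)
    · rintro x ⟨hxV, hxK⟩
      refine ⟨hxV, ?_⟩
      have h1 : V ⊔ K ≤ Subgroup.centralizer ({x} : Set G) := by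
        apply sup_le
        · intro v hv
          rw [Subgroup.mem_centralizer_iff]
          rintro _ rfl
          exact hVc _ hxV v hv
        · intro k hk
          rw [Subgroup.mem_centralizer_iff]
          rintro _ rfl
          exact (Subgroup.mem_centralizer_iff.mp hxK k hk).symm
      rw [hVK] at h1
      show x ∈ Subgroup.centralizer (U : Set G)
      rw [Subgroup.mem_centralizer_iff]
      intro u hu
      exact ((Subgroup.mem_centralizer_iff.mp (h1 hu)) x rfl).symm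
  have hcomm : ⁅V, U⁆ = ⁅V, K⁆ := by
    apply le_antisymm
    · rw [Subgroup.commutator_le]
      intro v hv u hu
      have h3 : u ∈ V ⊔ K := by rw [hVK]; exact hu
      rw [← SetLike.mem_coe, Subgroup.normal_mul] at h3
      obtain ⟨v', hv', k, hk, rfl⟩ := Set.mem_mul.mp h3
      have hc : ⁅v, k⁆ ∈ V := by
        rw [commutatorElement_def]
        have h4 : k * v⁻¹ * k⁻¹ ∈ V := hVnorm.conj_mem _ (V.inv_mem hv) k
        have e : v * k * v⁻¹ * k⁻¹ = v * (k * v⁻¹ * k⁻¹) := by group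
        rw [e]; exact V.mul_mem hv h4
      have e : ⁅v, v' * k⁆ = ⁅v, k⁆ := by
        have e1 : ⁅v, v' * k⁆ = (v * v') * k * v⁻¹ * k⁻¹ * v'⁻¹ := by
          rw [commutatorElement_def]; group
        have e2 : (v' * v) * k * v⁻¹ * k⁻¹ * v'⁻¹ = v' * ⁅v, k⁆ * v'⁻¹ := by
          rw [commutatorElement_def]; group
        rw [e1, hVc v hv v' hv', e2, hVc v' hv' _ hc]; group
      rw [e]
      exact Subgroup.commutator_mem_commutator hv hk
    · exact Subgroup.commutator_mono le_rfl hKU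
  exact ⟨q, K, U, hq, hqp, hUn, hVU, hUH, hKq, hKne, hVK, hdisj, hPR, hfrat, hcent, hcomm⟩

end Cfsg.Agent.Lib.helper90
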