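import Mathlib
import Cfsg.Agent.Lib.helper90.ZgC
import Cfsg.Agent.Lib.helper90.ZgE
import Cfsg.Agent.Lib.helper3.ZgBase
import Cfsg.Agent.Lib.helper60.BG36G
import Cfsg.Agent.Lib.helper60.HallHigman
import Cfsg.Agent.Lib.helper29.PQR2
import Cfsg.Agent.Lib.helper30.ZgD
import Cfsg.Agent.Lib.helper27.Radical

set_option autoImplicit false

namespace Cfsg.Agent.Lib.helper90

open scoped commutatorElement

/-- The final configuration of B-G Theorem 3.6: `H = V ⋊ N` with `V` elementary abelian, the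
induction hypothesis `hIH` on proper quotients and the core lemma `hMC` give that `H / V` is a
`p'`-group. -/
theorem zg_final_config {G : Type*} [Group G] [Finite G] [Group.IsSolvable G] {p : ℕ}
    [Fact p.Prime]
    (H R R₀ V : Subgroup G) [H.Normal] [V.Normal] (hodd : Odd (Nat.card G)) (hHR : H ⊔ R = ⊤)
    (hcop : (Nat.card H).Coprime (Nat.card R)) (hR₀ : R₀ ≤ R) (hr : (Nat.card R₀).Prime)
    (hZ : IsZGroup ↥(H ⊓ Subgroup.centralizer (R₀ : Set G))) (hHc : ⁅H, R⁆ = H) (hVH : V ≤ H)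
    (hVne : V ≠ H)
    (hVc : ∀ a ∈ V, ∀ b ∈ V, a * b = b * a) (hVexp : ∀ a ∈ V, a ^ p = 1)
    (hVmax : ∀ T : Subgroup G, T ≤ H → H ≤ Subgroup.normalizer (T : Set G) → IsPGroup p T →
      T ≤ V)
    (hOp' : ∀ T : Subgroup G, T ≤ H → H ≤ Subgroup.normalizer (T : Set G) →
      (Nat.card T).Coprime p → T = ⊥)
    (hCV : H ⊓ Subgroup.centralizer (V : Set G) ≤ V)
    (hIH : ∀ N₀ : Subgroup G, N₀.Normal → N₀ ≤ H → N₀ ≠ ⊥ → ∃ L M : Subgroup G, N₀ ≤ L ∧ L ≤ M ∧
        M ≤ H ∧ H ≤ Subgroup.normalizer (L : Set G) ∧ H ≤ Subgroup.normalizer (M : Set G) ∧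
        (N₀.relIndex L).Coprime p ∧ (∃ m : ℕ, L.relIndex M = p ^ m) ∧ (M.relIndex H).Coprime p)
    (hMC : ∀ (q : ℕ) (Q P : Subgroup G), q.Prime → q ≠ p → IsPGroup q Q → IsPGroup p P →
      Q ≤ Subgroup.normalizer (V : Set G) → P ≤ Subgroup.normalizer (V : Set G) →
      P ≤ Subgroup.normalizer (Q : Set G) → R₀ ≤ Subgroup.normalizer (Q : Set G) →
      R₀ ≤ Subgroup.normalizer (P : Set G) → (Nat.card Q).Coprime (Nat.card R₀) →
      P ⊓ Subgroup.centralizer (R₀ : Set G) = ⊥ → Q ⊓ Subgroup.centralizer (V : Set G) = ⊥ →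
      IsCyclic ↥(Q ⊓ Subgroup.centralizer (R₀ : Set G)) → P ≤ Subgroup.centralizer (Q : Set G)) :
    (V.relIndex H).Coprime p := by
  classical
  have hp : p.Prime := Fact.out
  have hVn : V.Normal := inferInstance
  have hVp : IsPGroup p V := by
    rintro ⟨a, ha⟩
    exact ⟨1, Subtype.ext (by simpa using hVexp a ha)⟩
  have hR₀H : (Nat.card R₀).Coprime (Nat.card H) :=
    (hcop.symm).coprime_dvd_left (Subgroup.card_dvd_of_le hR₀)
  obtain ⟨q, K, U, hq, hqp, hUn, hVU, hUH, hKq, hKne, hVK, hVKd, hR₀K, hfrat, hcentU, hcommU⟩ :=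
    exists_split H R₀ V hVH hVne hVc hVp hVmax hCV hR₀H
  have hqF : Fact q.Prime := ⟨hq⟩
  have hUn' : U.Normal := hUn
  have hKU : K ≤ U := hVK ▸ le_sup_right
  have hKH : K ≤ H := hKU.trans hUH
  have hcopVK : (Nat.card V).Coprime (Nat.card K) :=
    IsPGroup.coprime_card_of_ne p q hqp.symm V K hVp hKq
  have hdisj : (V ⊓ Subgroup.centralizer (U : Set G)) ⊓ ⁅V, U⁆ = ⊥ := by
    rw [hcentU, hcommU]
    exact Cfsg.Agent.Lib.helper3.zg_inf_commutator_eq_bot V K hVc
      (by rw [Subgroup.normalizer_eq_top]; exact le_top) hcopVK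
  have hVkne : ⁅V, U⁆ ≠ ⊥ := by
    intro h0
    rw [hcommU, Subgroup.commutator_eq_bot_iff_le_centralizer] at h0
    apply hKne
    rw [eq_bot_iff, ← hVKd]
    exact le_inf ((le_inf hKH (Subgroup.le_centralizer_iff.mp h0)).trans hCV) le_rfl
  by_cases hVc0 : V ⊓ Subgroup.centralizer (U : Set G) = ⊥
  swap
  · -- two different minimal normal subgroups: subdirect product step
    have hVcn : (V ⊓ Subgroup.centralizer (U : Set G)).Normal := inferInstance
    have hVkn : (⁅V, U⁆).Normal := inferInstance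
    obtain ⟨L₁, M₁, h1⟩ := hIH _ hVcn (inf_le_left.trans hVH) hVc0
    obtain ⟨L₂, M₂, h2⟩ := hIH _ hVkn ((Subgroup.commutator_le_left V U).trans hVH) hVkne
    exact Cfsg.Agent.Lib.helper60.BG36.coprime_relIndex_of_two_chains H V _ _ L₁ M₁ L₂ M₂ hVH hVp
      hVmax hOp' (by rw [Subgroup.normalizer_eq_top]; exact le_top)
      (by rw [Subgroup.normalizer_eq_top]; exact le_top) hdisj h1 h2
  -- now `V ⊓ C(K) = ⊥`
  have hVCK : V ⊓ Subgroup.centralizer (K : Set G) = ⊥ := by rw [← hcentU]; exact hVc0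
  obtain ⟨N, hN⟩ : ∃ N : Subgroup G, N = H ⊓ Subgroup.normalizer (K : Set G) := ⟨_, rfl⟩
  rw [← hN] at hfrat
  have hNH : N ≤ H := hN ▸ inf_le_left
  have hNK : N ≤ Subgroup.normalizer (K : Set G) := hN ▸ inf_le_right
  have hVN : V ⊓ N = ⊥ := by
    rw [eq_bot_iff]
    rintro v ⟨hvV, hvN⟩
    have hvK : v ∈ Subgroup.normalizer (K : Set G) := hNK hvN
    have h0 : v ∈ V ⊓ Subgroup.centralizer (K : Set G) := by
      refine ⟨hvV, ?_⟩
      show v ∈ Subgroup.centralizer (K : Set G)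
      rw [Subgroup.mem_centralizer_iff]
      intro k hk
      have h1 : v * k * v⁻¹ * k⁻¹ ∈ V ⊓ K := by
        refine ⟨?_, ?_⟩
        · have h2 : k * v⁻¹ * k⁻¹ ∈ V := hVn.conj_mem _ (V.inv_mem hvV) k
          have e : v * k * v⁻¹ * k⁻¹ = v * (k * v⁻¹ * k⁻¹) := by group
          rw [e]; exact V.mul_mem hvV h2
        · have h2 : v * k * v⁻¹ ∈ K := (Subgroup.mem_normalizer_iff.mp hvK k).mp hk
          exact K.mul_mem h2 (K.inv_mem hk)
      rw [hVKd, Subgroup.mem_bot] at h1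
      have h3 : v * k * v⁻¹ = k := mul_inv_eq_one.mp h1
      have h4 : v * k = k * v := mul_inv_eq_iff_eq_mul.mp h3
      exact h4.symm
    rw [hVCK] at h0; exact h0
  have hNCV : N ⊓ Subgroup.centralizer (V : Set G) = ⊥ := by
    rw [eq_bot_iff, ← hVN]
    intro x hx
    exact ⟨hCV ⟨hNH hx.1, hx.2⟩, hx.1⟩
  have hNV : N ≤ Subgroup.normalizer (V : Set G) := by
    rw [Subgroup.normalizer_eq_top]; exact le_top
  -- `O_p(N) = 1`
  have hOpN : Cfsg.pCore p ↥N = ⊥ := by
    obtain ⟨T, hT⟩ : ∃ T : Subgroup G, T = (Cfsg.pCore p ↥N).map N.subtype := ⟨_, rfl⟩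
    have hTN : T ≤ N := hT ▸ Subgroup.map_subtype_le _
    have hTp : IsPGroup p T := hT ▸ Cfsg.Agent.Lib.helper27.map_pCore_isPGroup p N
    have hNT : N ≤ Subgroup.normalizer (T : Set G) :=
      hT ▸ Cfsg.Agent.Lib.helper27.le_normalizer_map_subtype_of_characteristic N _
    have hVTp : IsPGroup p ↥(V ⊔ T) := IsPGroup.to_sup_of_normal_left hVp hTp
    have hVTn : H ≤ Subgroup.normalizer ((V ⊔ T : Subgroup G) : Set G) := by
      have h1 : V ⊔ N ≤ Subgroup.normalizer ((V ⊔ T : Subgroup G) : Set G) := by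
        apply sup_le
        · exact le_sup_left.trans Subgroup.le_normalizer
        · exact Cfsg.Agent.Lib.helper27.le_normalizer_sup hNV hNT
      rwa [hfrat] at h1
    have hVT : V ⊔ T ≤ V := hVmax _ (sup_le hVH (hTN.trans hNH)) hVTn hVTp
    have hT0 : T = ⊥ := by
      rw [eq_bot_iff, ← hVN]
      exact le_inf (le_sup_right.trans hVT) hTN
    rw [hT] at hT0
    exact (Subgroup.map_eq_bot_iff_of_injective _ N.subtype_injective).mp hT0
  have hR₀N : R₀ ≤ Subgroup.normalizer (N : Set G) := by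
    rw [hN]
    exact Cfsg.Agent.Lib.helper3.zg_le_normalizer_inf
      (by rw [Subgroup.normalizer_eq_top]; exact le_top) (hR₀K.trans Subgroup.le_normalizer)
  have hcardN : V.relIndex H = Nat.card N := by
    have h1 := Cfsg.Agent.Lib.helper3.zg_card_sup V N hNV hVN
    rw [hfrat] at h1
    have h2 := Subgroup.relIndex_mul_relIndex ⊥ V H bot_le hVH
    rw [Subgroup.relIndex_bot_left, Subgroup.relIndex_bot_left, h1] at h2
    exact Nat.eq_of_mul_eq_mul_left Nat.card_pos h2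
  by_cases hV0 : V ⊓ Subgroup.centralizer (R₀ : Set G) = ⊥
  · -- the Z-group case
    have hpp : Cfsg.pPrimeCore p ↥H = ⊥ := by
      have h1 := hOp' ((Cfsg.pPrimeCore p ↥H).map H.subtype) (Subgroup.map_subtype_le _)
        (Cfsg.Agent.Lib.helper27.le_normalizer_map_subtype_of_characteristic H _)
        (Cfsg.Agent.Lib.helper27.map_pPrimeCore_coprime p H)
      exact (Subgroup.map_eq_bot_iff_of_injective _ H.subtype_injective).mp h1
    have hFp : IsPGroup p (Cfsg.fittingSubgroup ↥H) :=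
      Cfsg.Agent.Lib.helper60.isPGroup_of_nilpotent_normal p hpp _
        (Cfsg.Agent.Lib.helper28.fittingSubgroup_isNilpotent ↥H)
    have hFV : Cfsg.fittingOf H ≤ V := by
      apply hVmax _ (Cfsg.Agent.Lib.helper29.fittingOf_le H)
      · exact Cfsg.Agent.Lib.helper27.le_normalizer_map_subtype_of_characteristic H _
      · exact hFp.map _
    have hfix : Cfsg.fittingOf H ⊓ Subgroup.centralizer (R₀ : Set G) = ⊥ := by
      rw [eq_bot_iff, ← hV0]
      exact inf_le_inf_right _ hFV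
    have hoddH : Odd (Nat.card H) := Odd.of_dvd_nat hodd (Subgroup.card_subgroup_dvd_card H)
    have hcomm : ⁅H, R₀⁆ ≤ V :=
      (Cfsg.Agent.Lib.helper29.comm_le_fittingOf H R₀ inferInstance hoddH hr hR₀H hfix).trans hFV
    exact zcase H R R₀ V hHR hcop hR₀ hZ hHc hVH hVp hVmax hcomm
  · -- `C_V(R₀) ≠ 1`
    rw [hcardN]
    obtain ⟨v₀, hv₀, hv₀1⟩ : ∃ v ∈ V ⊓ Subgroup.centralizer (R₀ : Set G), v ≠ 1 := by
      by_contra hcon
      apply hV0
      rw [eq_bot_iff]
      intro v hv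
      rw [Subgroup.mem_bot]
      by_contra hv1
      exact hcon ⟨v, hv, hv1⟩
    have hv₀p : v₀ ^ p = 1 := hVexp v₀ hv₀.1
    -- `p`-elements of `N ⊓ C(R₀)` are trivial
    have hpel : ∀ x ∈ N ⊓ Subgroup.centralizer (R₀ : Set G), (∃ k : ℕ, x ^ p ^ k = 1) →
        x = 1 := by
      rintro x hx ⟨k, hk⟩
      by_contra hx1
      obtain ⟨j, -, hj⟩ := (Nat.dvd_prime_pow hp).mp (orderOf_dvd_of_pow_eq_one hk)
      have hj0 : j ≠ 0 := by
        rintro rfl
        exact hx1 (orderOf_eq_one_iff.mp (by simpa using hj))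
      obtain ⟨i, rfl⟩ := Nat.exists_eq_succ_of_ne_zero hj0
      obtain ⟨x₁, hx₁⟩ : ∃ x₁ : G, x₁ = x ^ p ^ i := ⟨_, rfl⟩
      have hx₁p : x₁ ^ p = 1 := by
        rw [hx₁, ← pow_mul, ← pow_succ, ← hj]; exact pow_orderOf_eq_one x
      have hx₁1 : x₁ ≠ 1 := by
        intro h
        rw [hx₁] at h
        have h1 := orderOf_dvd_of_pow_eq_one h
        rw [hj] at h1
        have h2 := Nat.le_of_dvd (pow_pos hp.pos i) h1
        rw [pow_succ] at h2
        exact absurd h2 (not_le.mpr (lt_mul_of_one_lt_right (pow_pos hp.pos i) hp.one_lt))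
      have hxC : Subgroup.zpowers x ≤ Subgroup.centralizer (R₀ : Set G) :=
        (Subgroup.zpowers_le).mpr hx.2
      have hxn : Subgroup.zpowers x ≤
          Subgroup.normalizer ((V ⊓ Subgroup.centralizer (R₀ : Set G) : Subgroup G) : Set G) :=
        Cfsg.Agent.Lib.helper3.zg_le_normalizer_inf
          (by rw [Subgroup.normalizer_eq_top]; exact le_top) (hxC.trans Subgroup.le_normalizer)
      have hV₀p : IsPGroup p ↥(V ⊓ Subgroup.centralizer (R₀ : Set G)) := hVp.to_le inf_le_left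
      have hzp : IsPGroup p ↥(Subgroup.zpowers x) := by
        apply IsPGroup.of_card (n := i + 1)
        rw [Nat.card_zpowers, hj]
      obtain ⟨B, hB⟩ : ∃ B : Subgroup G,
          B = (V ⊓ Subgroup.centralizer (R₀ : Set G)) ⊔ Subgroup.zpowers x := ⟨_, rfl⟩
      have hBp : IsPGroup p ↥B := hB ▸ IsPGroup.to_sup_of_normal_left' hV₀p hzp hxn
      have hBZ : B ≤ H ⊓ Subgroup.centralizer (R₀ : Set G) := by
        rw [hB]
        apply sup_le
        · exact inf_le_inf_right _ hVH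
        · rw [Subgroup.zpowers_le]; exact ⟨hNH hx.1, hx.2⟩
      have hBc : IsCyclic ↥B :=
        Cfsg.Agent.Lib.helper3.zg_isCyclic_of_isPGroup (hZ := hZ) _ B hBZ hBp
      have hv₀B : v₀ ∈ B := hB ▸ Subgroup.mem_sup_left hv₀
      have hx₁B : x₁ ∈ B := by
        rw [hB, hx₁]
        exact Subgroup.mem_sup_right (Subgroup.pow_mem _ (Subgroup.mem_zpowers x) _)
      have hmem := Cfsg.Agent.Lib.helper3.zg_mem_zpowers_of_cyclic (C := ↥B) hp
        (x := ⟨v₀, hv₀B⟩) (y := ⟨x₁, hx₁B⟩) (Subtype.ext hv₀p)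
        (fun h => hv₀1 (congrArg Subtype.val h)) (Subtype.ext hx₁p)
      obtain ⟨n, hn⟩ := Subgroup.mem_zpowers_iff.mp hmem
      have hx₁V : x₁ ∈ V := by
        have h1 : x₁ = v₀ ^ n := by
          have h2 := congrArg Subtype.val hn
          simpa using h2.symm
        rw [h1]; exact V.zpow_mem hv₀.1 n
      have hx₁N : x₁ ∈ N := by rw [hx₁]; exact N.pow_mem hx.1 _
      have h5 : x₁ ∈ V ⊓ N := ⟨hx₁V, hx₁N⟩
      rw [hVN, Subgroup.mem_bot] at h5
      exact hx₁1 h5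
    have hcopR₀N : (Nat.card R₀).Coprime (Nat.card N) :=
      hR₀H.coprime_dvd_right (Subgroup.card_dvd_of_le hNH)
    obtain ⟨P₁, hP₁R⟩ := Cfsg.Agent.Lib.helper1.exists_invariant_sylow (p := p) R₀ N hR₀N
      hcopR₀N (Or.inl inferInstance)
    obtain ⟨P, hP⟩ : ∃ P : Subgroup G, P = (P₁ : Subgroup N).map N.subtype := ⟨_, rfl⟩
    rw [← hP] at hP₁R
    have hPN : P ≤ N := hP ▸ Subgroup.map_subtype_le _
    have hPp : IsPGroup p P := hP ▸ P₁.isPGroup'.map _
    have hPfix : P ⊓ Subgroup.centralizer (R₀ : Set G) = ⊥ := by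
      rw [eq_bot_iff]
      intro x hx
      rw [Subgroup.mem_bot]
      apply hpel x ⟨hPN hx.1, hx.2⟩
      obtain ⟨k, hk⟩ := hPp ⟨x, hx.1⟩
      exact ⟨k, by simpa using congrArg Subtype.val hk⟩
    have hcent : ∀ q' : ℕ, q'.Prime → q' ≠ p → P ≤ Subgroup.centralizer
        (((Cfsg.pCore q' ↥N).map N.subtype : Subgroup G) : Set G) := by
      intro q' hq' hq'p
      have hq'F : Fact q'.Prime := ⟨hq'⟩
      obtain ⟨Q', hQ'⟩ : ∃ Q' : Subgroup G, Q' = (Cfsg.pCore q' ↥N).map N.subtype := ⟨_, rfl⟩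
      rw [← hQ']
      have hQ'N : Q' ≤ N := hQ' ▸ Subgroup.map_subtype_le _
      have hQ'q : IsPGroup q' Q' := hQ' ▸ Cfsg.Agent.Lib.helper27.map_pCore_isPGroup q' N
      have hNQ' : N ≤ Subgroup.normalizer (Q' : Set G) :=
        hQ' ▸ Cfsg.Agent.Lib.helper27.le_normalizer_map_subtype_of_characteristic N _
      have hR₀Q' : R₀ ≤ Subgroup.normalizer (Q' : Set G) :=
        hR₀N.trans
          (hQ' ▸ Cfsg.Agent.Lib.helper27.normalizer_le_normalizer_map_subtype_of_characteristic N _)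
      apply hMC q' Q' P hq' hq'p hQ'q hPp
      · rw [Subgroup.normalizer_eq_top]; exact le_top
      · rw [Subgroup.normalizer_eq_top]; exact le_top
      · exact hPN.trans hNQ'
      · exact hR₀Q'
      · exact hP₁R
      · exact (hR₀H.coprime_dvd_right (Subgroup.card_dvd_of_le (hQ'N.trans hNH))).symm
      · exact hPfix
      · rw [eq_bot_iff, ← hNCV]; exact inf_le_inf_right _ hQ'N
      · exact Cfsg.Agent.Lib.helper3.zg_isCyclic_of_isPGroup (hZ := hZ) (p := q') _ _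
          (inf_le_inf_right _ (hQ'N.trans hNH)) (hQ'q.to_le inf_le_left)
    have hP0 : P = ⊥ := Cfsg.Agent.Lib.helper30.pgroup_eq_bot_of_centralizes_pCores N P
      inferInstance hPN hPp hOpN hcent
    have hP₁0 : (P₁ : Subgroup N) = ⊥ := by
      rw [hP] at hP0
      exact (Subgroup.map_eq_bot_iff_of_injective _ N.subtype_injective).mp hP0
    rw [Nat.coprime_comm, Nat.Prime.coprime_iff_not_dvd hp]
    intro hdvd
    exact P₁.ne_bot_of_dvd_card hdvd hP₁0

end Cfsg.Agent.Lib.helper90
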