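import Mathlib
import Cfsg.Prelude.Def_OddOrderLocal
import Cfsg.Prelude.Def_OddOrder
import Cfsg.Prelude.Def_CaseTheorems
import Cfsg.Prelude.Def_Transfer

/-!
# S1428 (Bender–Glauberman 13.4): shared definitions for the split proof

See `tools/S1428_SPEC.md`.  All pieces are stated against these definitions.
-/

set_option autoImplicit false

namespace Cfsg.Agent.Lib.helper90.BG1428

open Cfsg

variable {G : Type*} [Group G]

/-- The frozen statement S1418 (B-G 12.6), as a hypothesis. -/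
def H18 (G : Type*) [Group G] : Prop :=
  ∀ (M : Subgroup G), IsCoatom M → ∀ (E : Subgroup G), Cfsg.IsComplIn E (Cfsg.sigmaCore M) M →
    ∀ (p : ℕ) [Fact p.Prime], p ∈ Cfsg.tau2 M → ∀ (A : Subgroup G),
      (A ≤ E ∧ Cfsg.IsElementaryAbelian p A ∧ Nat.card A = p ^ 2) →
    (E ≤ Subgroup.normalizer (A : Set G) ∧ ∀ X : Subgroup G, X ≤ E → Nat.card X = p → X ≤ A) ∧
      (Subgroup.centralizer (A : Set G) ≤ M ⊓ Subgroup.normalizer (A : Set G) ∧
        M ⊓ Subgroup.normalizer (A : Set G) = E ∧ ¬ Subgroup.normalizer (A : Set G) ≤ M) ∧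
      ∀ X : Subgroup G, X ≤ A → Nat.card X = p →
        Cfsg.sigmaCore M ⊓ Subgroup.centralizer (X : Set G) ≠ ⊥ →
        (Subgroup.centralizer (X : Set G) ≤ M ∧
          ∀ L : Subgroup G, IsCoatom L → Subgroup.centralizer (X : Set G) ≤ L → L = M)

/-- Clause 3 of the frozen statement S1420 (B-G 12.10-12.12), as a hypothesis: for `p ∈ σ(M)` the
normalizer of a noncyclic `p`-subgroup of `M` lies in `M`. -/
def H20 (G : Type*) [Group G] : Prop :=
  ∀ (M : Subgroup G), IsCoatom M → ∀ (p : ℕ) (P : Subgroup G), p ∈ Cfsg.sigma M → IsPGroup p P →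
    P ≤ M → ¬ IsCyclic P → Subgroup.normalizer (P : Set G) ≤ M

/-- The reduced failing configuration of B-G 13.4: `p ∈ τ₁(M)`, `P ≤ M` of order `p`,
`R ≤ M` of prime order `r ≠ p`, `r ∉ σ(M)`, centralizing `P`, and a nontrivial ABELIAN `q`-subgroup
`X` of `M_σ ∩ C(P)` normalized by `R` on which `R` acts fixed-point-freely. -/
structure Conf (M : Subgroup G) (p r q : ℕ) (P R X : Subgroup G) : Prop where
  hp : p ∈ Cfsg.tau1 M
  hP : Nat.card P = p
  hPM : P ≤ M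
  hr : r.Prime
  hrp : r ≠ p
  hrσ : r ∉ Cfsg.sigma M
  hR : Nat.card R = r
  hRM : R ≤ M
  hPR : ∀ a ∈ P, ∀ b ∈ R, a * b = b * a
  hq : q.Prime
  hXq : IsPGroup q X
  hX1 : X ≠ ⊥
  hXM : X ≤ Cfsg.sigmaCore M
  hXP : ∀ x ∈ X, ∀ a ∈ P, x * a = a * x
  hXab : ∀ x ∈ X, ∀ y ∈ X, x * y = y * x
  hRX : R ≤ Subgroup.normalizer (X : Set G)
  hfpf : ∀ e ∈ R, e ≠ 1 → ∀ x ∈ X, e * x = x * e → x = 1

/-- Piece (B1), beta-forcing, as a hypothesis. -/
def B1Hyp (G : Type*) [Group G] : Prop :=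
  ∀ (M H : Subgroup G), IsCoatom M → IsCoatom H →
    (∀ g : G, H ≠ M.map (MulAut.conj g).toMonoidHom) →
    ∀ (p : ℕ), p ∈ Cfsg.tau1 M → p ∈ Cfsg.sigma H →
    ∀ (P : Subgroup G), Nat.card P = p → P ≤ M → P ≤ H →
    ∀ (x : G), x ≠ 1 → x ∈ Cfsg.sigmaCore M → x ∈ ⁅H, H⁆ → (∀ a ∈ P, x * a = a * x) →
    p ∈ Cfsg.beta H

/-- Piece (FC), Frobenius-centralize (pure group theory), as a hypothesis on the group `G`. -/
def FCHyp (G : Type*) [Group G] : Prop :=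
  ∀ (p : ℕ), p.Prime → p ≠ 2 → ∀ (T X R : Subgroup G), IsPGroup p T →
    X ≤ Subgroup.normalizer (T : Set G) → R ≤ Subgroup.normalizer (T : Set G) →
    R ≤ Subgroup.normalizer (X : Set G) → (Nat.card R).Prime →
    (∀ e ∈ R, e ≠ 1 → ∀ x ∈ X, e * x = x * e → x = 1) →
    (Nat.card X).Coprime p → (Nat.card R).Coprime p →
    (∀ t ∈ T, t ^ p = 1 → (∀ e ∈ R, e * t = t * e) → ∀ x ∈ X, x * t = t * x) →
    X ≤ Subgroup.centralizer (T : Set G)

end Cfsg.Agent.Lib.helper90.BG1428
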