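import Mathlib
import Cfsg.Prelude.Def_OddOrderLocal
import Cfsg.Prelude.Def_OddOrder
import Cfsg.Prelude.Def_CaseTheorems
import Cfsg.Prelude.Def_Transfer
import Cfsg.Agent.Lib.helper3.BGCross
import Cfsg.Agent.Lib.helper55.BGSigmaJ
import Cfsg.Agent.Lib.helper54.BGThirteen
import Cfsg.Agent.Lib.helper13.BG11a
import Cfsg.Agent.Lib.helper25.BGTenNineC
import Cfsg.Agent.Lib.helper1.Coprime
import Cfsg.Agent.Lib.helper29.Trans

/-!
# S1428 (Bender–Glauberman 13.4): the final assembly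

The statement is reduced to four hypothesis-shaped pieces:

* `GoodHyp` : the good cases (helper54 `good_cases`);
* `JHyp`    : `p ∈ σ(H)`, a nontrivial element of `C_{M_σ}(P) ∩ H'` forces `p ∈ β(H)` (helper55);
* `KHyp`    : the `H`-side of the bad case (helper76 `bg134_hside`);
* `MsHyp`   : the `M`-side of the bad case (helper25 `bad_Mside`).

`assembly` derives B-G 13.4 from them: the bad configuration `(M; p, P; r, R)` yields, by the
`M`-side, a `P`-invariant subgroup `⟨y⟩` of prime order `t ∈ β(M)` inside `C_{M_σ}(R)` not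
centralized by `P`; the swapped configuration `(M; r, R; p, P)` is then bad as well and its
`H`-side puts `t` into `σ(H₂)`, making `M` conjugate to `H₂`, which is absurd.
-/

set_option autoImplicit false

namespace Cfsg.Agent.Lib.helper90.BG1428

open Cfsg
open scoped commutatorElement

variable {G : Type*} [Group G]

/-- helper54's `good_cases`, as a hypothesis. -/
def GoodHyp (G : Type*) [Group G] : Prop :=
  ∀ (M : Subgroup G), IsCoatom M → ∀ (E : Subgroup G), Cfsg.IsComplIn E (Cfsg.sigmaCore M) M →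
    ∀ (p : ℕ), p ∈ Cfsg.tau1 M → ∀ (P : Subgroup G), P ≤ E → Nat.card P = p →
    ∀ (R : Subgroup G), R ≤ E ⊓ Subgroup.centralizer (P : Set G) → (Nat.card R).Prime →
    ∀ (Y0 : Subgroup G), Y0 ≤ Cfsg.sigmaCore M ⊓ Subgroup.centralizer (P : Set G) →
      R ≤ Subgroup.normalizer (Y0 : Set G) →
    ∀ (H : Subgroup G), IsCoatom H → Subgroup.normalizer (P : Set G) ≤ H →
      (p ∈ Cfsg.sigma H → Nat.card R ∈ Cfsg.tau1 H → Y0 ≤ Subgroup.centralizer (R : Set G)) →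
      Y0 ≤ Subgroup.centralizer (R : Set G)

/-- helper55's `tau1_sigma_mem_beta`, as a hypothesis. -/
def JHyp (G : Type*) [Group G] : Prop :=
  ∀ (M H : Subgroup G), IsCoatom M → IsCoatom H → ∀ (p : ℕ), p ∈ Cfsg.tau1 M → p ∈ Cfsg.sigma H →
    ∀ (P : Subgroup G), P ≤ M → P ≤ H → Nat.card P = p →
    ∀ (x : G), x ≠ 1 → x ∈ Cfsg.sigmaCore M → x ∈ ⁅H, H⁆ →
      x ∈ Subgroup.centralizer (P : Set G) → p ∈ Cfsg.beta H

/-- helper76's `bg134_hside` (with the pure lemma plugged in), as a hypothesis. -/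
def KHyp (G : Type*) [Group G] : Prop :=
  ∀ (M H : Subgroup G), IsCoatom M → IsCoatom H → ∀ (p : ℕ), p ∈ Cfsg.tau1 M →
    ∀ (P : Subgroup G), P ≤ M → Nat.card P = p → Subgroup.normalizer (P : Set G) ≤ H →
    p ∈ Cfsg.alpha H →
    ∀ (R : Subgroup G), R ≤ M → R ≤ Subgroup.centralizer (P : Set G) → (Nat.card R).Prime →
    Nat.card R ∉ Cfsg.sigma M → Nat.card R ∈ Cfsg.tau1 H →
    ¬ Cfsg.sigmaCore M ⊓ Subgroup.centralizer (P : Set G) ≤ Subgroup.centralizer (R : Set G) →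
    Nat.card R ∈ Cfsg.tau1 M ∧
    (∀ m ∈ M, ∃ b ∈ Cfsg.piCoreOf (Cfsg.beta M) M, ∃ d ∈ M ⊓ H, m = b * d) ∧
    (∀ h ∈ H, ∃ b ∈ Cfsg.piCoreOf (Cfsg.beta H) H, ∃ d ∈ M ⊓ H, h = b * d) ∧
    (∀ q : ℕ, q.Prime →
      q ∣ Nat.card ↥(⁅Cfsg.sigmaCore M ⊓ Subgroup.centralizer (P : Set G), R⁆ : Subgroup G) →
      q ∈ Cfsg.sigma H) ∧
    (∀ X : Subgroup G, X ≠ ⊥ →
      X ≤ ⁅Cfsg.sigmaCore M ⊓ Subgroup.centralizer (P : Set G), R⁆ →
      Subgroup.normalizer (X : Set G) ≤ H)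

/-- The `M`-side of the bad case (helper25's `bad_Mside`, with the pure lemma plugged in),
as a hypothesis. -/
def MsHyp (G : Type*) [Group G] : Prop :=
  ∀ (M H : Subgroup G), IsCoatom M → IsCoatom H → ∀ (p : ℕ), p ∈ Cfsg.tau1 M →
    ∀ (P : Subgroup G), P ≤ M → Nat.card P = p → Subgroup.normalizer (P : Set G) ≤ H →
    p ∈ Cfsg.sigma H →
    ∀ (R : Subgroup G), R ≤ M → R ≤ Subgroup.centralizer (P : Set G) →
    Nat.card R ∈ Cfsg.tau1 M →
    (∀ m ∈ M, ∃ b ∈ Cfsg.piCoreOf (Cfsg.beta M) M, ∃ d ∈ M ⊓ H, m = b * d) →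
    (∀ q : ℕ, q.Prime →
      q ∣ Nat.card ↥(⁅Cfsg.sigmaCore M ⊓ Subgroup.centralizer (P : Set G), R⁆ : Subgroup G) →
      q ∈ Cfsg.sigma H) →
    (∀ X : Subgroup G, X ≠ ⊥ →
      X ≤ ⁅Cfsg.sigmaCore M ⊓ Subgroup.centralizer (P : Set G), R⁆ →
      Subgroup.normalizer (X : Set G) ≤ H) →
    ¬ Cfsg.sigmaCore M ⊓ Subgroup.centralizer (P : Set G) ≤ Subgroup.centralizer (R : Set G) →
    ∃ (t : ℕ) (y : G), t ∈ Cfsg.beta M ∧ orderOf y = t ∧ y ∈ Cfsg.sigmaCore M ∧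
      y ∈ Subgroup.centralizer (R : Set G) ∧ (∀ a ∈ P, a * y * a⁻¹ ∈ Subgroup.zpowers y) ∧
      ∃ a ∈ P, a * y ≠ y * a

theorem s_le_normalizer_inf {A B C : Subgroup G} (h1 : A ≤ Subgroup.normalizer (B : Set G))
    (h2 : A ≤ Subgroup.normalizer (C : Set G)) :
    A ≤ Subgroup.normalizer ((B ⊓ C : Subgroup G) : Set G) := by
  intro a ha
  rw [Subgroup.mem_normalizer_iff]
  intro h
  have e1 := (Subgroup.mem_normalizer_iff.1 (h1 ha)) h
  have e2 := (Subgroup.mem_normalizer_iff.1 (h2 ha)) h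
  simp only [Subgroup.mem_inf]
  rw [e1, e2]

theorem s_le_normalizer_of_conj_mem {A B : Subgroup G}
    (h : ∀ a ∈ A, ∀ b ∈ B, a * b * a⁻¹ ∈ B) : A ≤ Subgroup.normalizer (B : Set G) := by
  intro a ha
  rw [Subgroup.mem_normalizer_iff]
  intro b
  constructor
  · exact h a ha b
  · intro hb
    have := h a⁻¹ (inv_mem ha) _ hb
    simpa [mul_assoc] using this

theorem s_exists_coatom_normalizer_le [Finite G] (hG : IsMinSimpleOddOrder G) (P : Subgroup G)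
    (p : ℕ) (hp : p.Prime) (hP : Nat.card P = p) :
    ∃ H : Subgroup G, IsCoatom H ∧ Subgroup.normalizer (P : Set G) ≤ H := by
  have : Fact p.Prime := ⟨hp⟩
  have hPp : IsPGroup p P := IsPGroup.of_card (n := 1) (by rw [hP, pow_one])
  have hP1 : P ≠ ⊥ := by
    intro h
    rw [h] at hP
    simp at hP
    exact hp.one_lt.ne' hP.symm
  have hne := Cfsg.Agent.Lib.helper25.BGT.normalizer_ne_top_of_isPGroup hG p P hPp hP1
  rcases eq_top_or_exists_le_coatom (Subgroup.normalizer (P : Set G)) with h | ⟨H, hH, hle⟩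
  · exact absurd h hne
  · exact ⟨H, hH, hle⟩

/-- **B-G 13.4** from the four pieces. -/
theorem assembly [Finite G] (hG : IsMinSimpleOddOrder G) (hGood : GoodHyp G) (hJ : JHyp G)
    (hK : KHyp G) (hMs : MsHyp G)
    (M : Subgroup G) (hM : IsCoatom M) (E : Subgroup G)
    (hE : Cfsg.IsComplIn E (Cfsg.sigmaCore M) M) (p : ℕ) (hp : p ∈ Cfsg.tau1 M) (P : Subgroup G)
    (hPE : P ≤ E) (hP : Nat.card P = p) (R : Subgroup G)
    (hRE : R ≤ E ⊓ Subgroup.centralizer (P : Set G)) (hR : (Nat.card R).Prime) :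
    Cfsg.sigmaCore M ⊓ Subgroup.centralizer (P : Set G) ≤
      Cfsg.sigmaCore M ⊓ Subgroup.centralizer (R : Set G) := by
  classical
  by_contra hnot
  have hW : ¬ Cfsg.sigmaCore M ⊓ Subgroup.centralizer (P : Set G) ≤
      Subgroup.centralizer (R : Set G) := fun h => hnot (le_inf inf_le_left h)
  have hpp : p.Prime := hp.1
  have hEM : E ≤ M := hE.1
  have hPM : P ≤ M := hPE.trans hEM
  have hRE' : R ≤ E := hRE.trans inf_le_left
  have hRP : R ≤ Subgroup.centralizer (P : Set G) := hRE.trans inf_le_right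
  have hRM : R ≤ M := hRE'.trans hEM
  have hPR : P ≤ Subgroup.centralizer (R : Set G) := by
    intro a ha
    rw [Subgroup.mem_centralizer_iff]
    intro b hb
    exact ((Subgroup.mem_centralizer_iff.1 (hRP hb)) a ha).symm
  -- `r ∉ σ(M)`
  have hrσ : Nat.card R ∉ Cfsg.sigma M := by
    intro hr
    have hRs : R ≤ Cfsg.sigmaCore M :=
      Cfsg.Agent.Lib.helper55.BGJ.le_sigmaCore_of_le hG (Cfsg.Agent.Lib.helper13.bgx_uniq hG)
        (Cfsg.Agent.Lib.helper54.bgFusHyp hG) M hM R hRM (by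
          intro q hq hqR
          have : q = Nat.card R := (Nat.prime_dvd_prime_iff_eq hq hR).1 hqR
          rw [this]; exact hr)
    have h2 : R ≤ E ⊓ Cfsg.sigmaCore M := le_inf hRE' hRs
    rw [hE.2.2.1] at h2
    have hR1 : R = ⊥ := le_bot_iff.1 h2
    rw [hR1] at hR
    simp at hR
    exact Nat.not_prime_one hR
  -- `R` normalizes `Y`
  have hMσ : M ≤ Subgroup.normalizer ((Cfsg.sigmaCore M : Subgroup G) : Set G) :=
    Cfsg.Agent.Lib.helper29.le_normalizer_piCoreOf (Cfsg.sigma M) M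
  have hRY : R ≤ Subgroup.normalizer
      ((Cfsg.sigmaCore M ⊓ Subgroup.centralizer (P : Set G) : Subgroup G) : Set G) :=
    s_le_normalizer_inf (hRM.trans hMσ) (hRP.trans Subgroup.le_normalizer)
  -- the maximal subgroup `H ⊇ N(P)`
  obtain ⟨H, hH, hNH⟩ := s_exists_coatom_normalizer_le hG P p hpp hP
  have hbadH : p ∈ Cfsg.sigma H ∧ Nat.card R ∈ Cfsg.tau1 H := by
    by_contra hcon
    apply hW
    exact hGood M hM E hE p hp P hPE hP R hRE hR _ le_rfl hRY H hH hNH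
      (fun h1 h2 => absurd ⟨h1, h2⟩ hcon)
  obtain ⟨hpH, hrH⟩ := hbadH
  have hPH : P ≤ H := Subgroup.le_normalizer.trans hNH
  have hCPH : Subgroup.centralizer (P : Set G) ≤ H :=
    (Subgroup.centralizer_le_normalizer _).trans hNH
  have hRH : R ≤ H := hRP.trans hCPH
  have hYH : Cfsg.sigmaCore M ⊓ Subgroup.centralizer (P : Set G) ≤ H := inf_le_right.trans hCPH
  -- `W = [Y, R] ≠ 1`
  have hWne : (⁅Cfsg.sigmaCore M ⊓ Subgroup.centralizer (P : Set G), R⁆ : Subgroup G) ≠ ⊥ := by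
    intro h
    exact hW ((Subgroup.commutator_eq_bot_iff_le_centralizer).1 h)
  have hWY : (⁅Cfsg.sigmaCore M ⊓ Subgroup.centralizer (P : Set G), R⁆ : Subgroup G) ≤
      Cfsg.sigmaCore M ⊓ Subgroup.centralizer (P : Set G) :=
    Cfsg.Agent.Lib.helper1.commutator_le_of_le_normalizer hRY
  obtain ⟨x, hxW, hx1⟩ : ∃ x ∈ (⁅Cfsg.sigmaCore M ⊓ Subgroup.centralizer (P : Set G), R⁆ :
      Subgroup G), x ≠ 1 := by
    by_contra hcon
    push Not at hcon
    exact hWne ((Subgroup.eq_bot_iff_forall _).2 hcon)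
  have hxHH : x ∈ (⁅H, H⁆ : Subgroup G) := Subgroup.commutator_mono hYH hRH hxW
  have hpβ : p ∈ Cfsg.beta H :=
    hJ M H hM hH p hp hpH P hPM hPH hP x hx1 (hWY hxW).1 hxHH (hWY hxW).2
  have hpα : p ∈ Cfsg.alpha H := hpβ.1
  obtain ⟨hrM, hfac, -, hprimes, hnorm⟩ :=
    hK M H hM hH p hp P hPM hP hNH hpα R hRM hRP hR hrσ hrH hW
  obtain ⟨t, y, htβ, hyo, hyMs, hyR, hyP, a, haP, hay⟩ :=
    hMs M H hM hH p hp P hPM hP hNH hpH R hRM hRP hrM hfac hprimes hnorm hW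
  have htp : t.Prime := htβ.1.1
  -- the swapped configuration
  obtain ⟨H2, hH2, hNH2⟩ := s_exists_coatom_normalizer_le hG R (Nat.card R) hR rfl
  have hY0 : Subgroup.zpowers y ≤ Cfsg.sigmaCore M ⊓ Subgroup.centralizer (R : Set G) :=
    (Subgroup.zpowers_le).2 (Subgroup.mem_inf.2 ⟨hyMs, hyR⟩)
  have hconj : ∀ a ∈ P, ∀ b ∈ Subgroup.zpowers y, a * b * a⁻¹ ∈ Subgroup.zpowers y := by
    intro a ha b hb
    obtain ⟨k, rfl⟩ := Subgroup.mem_zpowers_iff.1 hb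
    rw [← conj_zpow]
    exact zpow_mem (hyP a ha) k
  have hPY0 : P ≤ Subgroup.normalizer ((Subgroup.zpowers y : Subgroup G) : Set G) :=
    s_le_normalizer_of_conj_mem hconj
  have hPE2 : P ≤ E ⊓ Subgroup.centralizer (R : Set G) := le_inf hPE hPR
  have hPprime : (Nat.card P).Prime := by rw [hP]; exact hpp
  have hynP : ¬ Subgroup.zpowers y ≤ Subgroup.centralizer (P : Set G) := by
    intro h
    have h1 : y ∈ Subgroup.centralizer (P : Set G) := h (Subgroup.mem_zpowers y)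
    exact hay ((Subgroup.mem_centralizer_iff.1 h1) a haP)
  have hbadH2 : Nat.card R ∈ Cfsg.sigma H2 ∧ Nat.card P ∈ Cfsg.tau1 H2 := by
    by_contra hcon
    apply hynP
    exact hGood M hM E hE (Nat.card R) hrM R hRE' rfl P hPE2 hPprime _ hY0 hPY0 H2 hH2 hNH2
      (fun h1 h2 => absurd ⟨h1, h2⟩ hcon)
  obtain ⟨hrH2, hpH2⟩ := hbadH2
  have hCRH2 : Subgroup.centralizer (R : Set G) ≤ H2 :=
    (Subgroup.centralizer_le_normalizer _).trans hNH2
  have hRH2 : R ≤ H2 := Subgroup.le_normalizer.trans hNH2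
  have haH2 : a ∈ H2 := hCRH2 (hPR haP)
  have hyH2 : y ∈ H2 := hCRH2 hyR
  -- the commutator `c = [a, y]`
  have hc1 : ⁅a, y⁆ ≠ 1 := by
    intro h
    rw [commutatorElement_eq_one_iff_mul_comm] at h
    exact hay h
  have hcz : ⁅a, y⁆ ∈ Subgroup.zpowers y := by
    rw [commutatorElement_def]
    exact mul_mem (hyP a haP) (inv_mem (Subgroup.mem_zpowers y))
  have hcHH : ⁅a, y⁆ ∈ (⁅H2, H2⁆ : Subgroup G) := Subgroup.commutator_mem_commutator haH2 hyH2
  have hrβ2 : Nat.card R ∈ Cfsg.beta H2 :=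
    hJ M H2 hM hH2 (Nat.card R) hrM hrH2 R hRM hRH2 rfl ⁅a, y⁆ hc1 (hY0 hcz).1 hcHH (hY0 hcz).2
  have hrα2 : Nat.card R ∈ Cfsg.alpha H2 := hrβ2.1
  have hpσ' : Nat.card P ∉ Cfsg.sigma M := by rw [hP]; exact hp.2.1
  have hW' : ¬ Cfsg.sigmaCore M ⊓ Subgroup.centralizer (R : Set G) ≤
      Subgroup.centralizer (P : Set G) := by
    intro h
    have h1 : y ∈ Subgroup.centralizer (P : Set G) := h (Subgroup.mem_inf.2 ⟨hyMs, hyR⟩)
    exact hay ((Subgroup.mem_centralizer_iff.1 h1) a haP)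
  obtain ⟨-, -, -, hprimes2, -⟩ :=
    hK M H2 hM hH2 (Nat.card R) hrM R hRM rfl hNH2 hrα2 P hPM hPR hPprime hpσ' hpH2 hW'
  -- `t` divides `|[C_{M_σ}(R), P]|`
  have hd : ⁅y, a⁆ ∈ (⁅Cfsg.sigmaCore M ⊓ Subgroup.centralizer (R : Set G), P⁆ : Subgroup G) :=
    Subgroup.commutator_mem_commutator (Subgroup.mem_inf.2 ⟨hyMs, hyR⟩) haP
  have hd1 : ⁅y, a⁆ ≠ 1 := by
    intro h
    rw [commutatorElement_eq_one_iff_mul_comm] at h
    exact hay h.symm
  have hdz : ⁅y, a⁆ ∈ Subgroup.zpowers y := by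
    have : ⁅y, a⁆ = ⁅a, y⁆⁻¹ := (commutatorElement_inv a y).symm
    rw [this]
    exact inv_mem hcz
  have hdo : orderOf ⁅y, a⁆ = t := by
    obtain ⟨k, hk⟩ := Subgroup.mem_zpowers_iff.1 hdz
    have hdvd : orderOf ⁅y, a⁆ ∣ t := by
      apply orderOf_dvd_of_pow_eq_one
      rw [← hk, ← zpow_natCast, ← zpow_mul, mul_comm, zpow_mul, zpow_natCast, ← hyo,
        pow_orderOf_eq_one, one_zpow]
    rcases (Nat.dvd_prime htp).1 hdvd with h | h
    · exact absurd (orderOf_eq_one_iff.1 h) hd1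
    · exact h
  have htdvd : t ∣ Nat.card ↥(⁅Cfsg.sigmaCore M ⊓ Subgroup.centralizer (R : Set G), P⁆ :
      Subgroup G) := by
    rw [← hdo]
    exact Subgroup.orderOf_dvd_natCard _ hd
  have htσ2 : t ∈ Cfsg.sigma H2 := hprimes2 t htp htdvd
  obtain ⟨g, hg⟩ := Cfsg.Agent.Lib.helper3.conj_of_beta_mem_sigma hG H2 M hH2 hM htβ htσ2
  have hσeq : Cfsg.sigma M = Cfsg.sigma H2 := by
    rw [hg]; exact Cfsg.Agent.Lib.helper3.sigma_map_conj H2 g
  exact hrσ (hσeq ▸ hrH2)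

end Cfsg.Agent.Lib.helper90.BG1428
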