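import Mathlib
import Cfsg.Agent.Lib.helper90.BG1428S
import Cfsg.Agent.Lib.helper25.BG1428B2M
import Cfsg.Agent.Lib.helper76.BG134K
import Cfsg.Agent.Lib.helper54.BG1428Good
import Cfsg.Agent.Lib.helper55.BGTau1

/-!
# S1428 (Bender–Glauberman 13.4) modulo the pure lemma "LEMMA X"

`s1428_of_lemmaX` is the frozen statement S1428 with one extra hypothesis `hLX`, the pure
group-theoretic lemma (helper98's LEMMA X): it wires the four landed pieces
(helper54 `good_cases`, helper55 `tau1_sigma_mem_beta`, helper76 `bg134_hside`,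
helper25 `bad_Mside`) into `assembly`.
-/

set_option autoImplicit false

namespace Cfsg.Agent.Lib.helper90.BG1428

open Cfsg

variable {G : Type*} [Group G]

/-- The pure lemma (LEMMA X), as a hypothesis: the shape used by helper76 `bg134_hside` and
helper25 `bad_Mside`. -/
def LXHyp (G : Type*) [Group G] : Prop :=
  ∀ (S Y R : Subgroup G) (p : ℕ), p.Prime → IsPGroup p S → (Nat.card R).Prime → Nat.card R ≠ p →
    (Nat.card Y).Coprime p → (Nat.card Y).Coprime (Nat.card R) →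
    R ≤ Subgroup.normalizer (Y : Set G) →
    Y ≤ Subgroup.normalizer (S : Set G) → R ≤ Subgroup.normalizer (S : Set G) →
    IsCyclic ↥(S ⊓ Subgroup.centralizer (R : Set G)) →
    (∀ x ∈ S ⊓ Subgroup.centralizer (R : Set G), x ^ p = 1 →
      x ∈ Subgroup.centralizer ((⁅Y, R⁆ : Subgroup G) : Set G)) →
    ⁅Y, R⁆ ≤ Subgroup.centralizer (S : Set G)

theorem goodHyp [Finite G] (hG : IsMinSimpleOddOrder G) : GoodHyp G :=
  fun M hM E hE p hp P hPE hP R hRE hR Y0 hY0 hRY H hH hNH hbad =>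
    Cfsg.Agent.Lib.helper54.Good.good_cases hG M hM E hE p hp P hPE hP R hRE hR Y0 hY0 hRY H hH
      hNH hbad

theorem jHyp [Finite G] (hG : IsMinSimpleOddOrder G) : JHyp G :=
  fun _ _ hM hH _ hpM hpH _ hPM hPH hPc _ hx1 hxM hxH hxP =>
    Cfsg.Agent.Lib.helper55.BGJ.tau1_sigma_mem_beta hG hM hH hpM hpH hPM hPH hPc hx1 hxM hxH hxP

theorem kHyp [Finite G] (hG : IsMinSimpleOddOrder G) (hLX : LXHyp G) : KHyp G :=
  fun M H hM hH p hp P hPM hP hNH hpH R hRM hRP hR hrM hrH hW =>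
    Cfsg.Agent.Lib.helper76.bg134_hside hG hLX M H hM hH p hp P hPM hP hNH hpH R hRM hRP hR hrM
      hrH hW

theorem msHyp [Finite G] (hG : IsMinSimpleOddOrder G) (hLX : LXHyp G) : MsHyp G :=
  fun M H hM hH p hp P hPM hP hNH hpH R hRM hRP hrM hfac hprimes hnorm hW =>
    Cfsg.Agent.Lib.helper25.BG1428.bad_Mside hG hLX M H hM hH p hp P hPM hP hNH hpH R hRM hRP hrM
      hfac hprimes hnorm hW

/-- **B-G 13.4 (the frozen statement S1428) modulo LEMMA X.** -/
theorem s1428_of_lemmaX [Finite G] (hG : Cfsg.IsMinSimpleOddOrder G) (hLX : LXHyp G)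
    (M : Subgroup G) (hM : IsCoatom M) (E : Subgroup G)
    (hE : Cfsg.IsComplIn E (Cfsg.sigmaCore M) M) (p : ℕ) (hp : p ∈ Cfsg.tau1 M) (P : Subgroup G)
    (hPE : P ≤ E) (hP : Nat.card P = p) (R : Subgroup G)
    (hRE : R ≤ E ⊓ Subgroup.centralizer (P : Set G)) (hR : (Nat.card R).Prime) :
    Cfsg.sigmaCore M ⊓ Subgroup.centralizer (P : Set G) ≤
      Cfsg.sigmaCore M ⊓ Subgroup.centralizer (R : Set G) :=
  assembly hG (goodHyp hG) (jHyp hG) (kHyp hG hLX) (msHyp hG hLX) M hM E hE p hp P hPE hP R hRE hR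

end Cfsg.Agent.Lib.helper90.BG1428
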