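/-
Bender-Glauberman, towards Theorem 13.10 / Corollary 13.11 (the hypothesis `T3Hyp` of S1430).

KEY LEMMA `kl_cent_trivial`.  Let `M`, `L` be distinct maximal subgroups, `E` a complement of
`M_σ` in `M`, `P ≤ E` of order `p ∈ τ₁(M)`, and `Q` an `r`-subgroup of `M` (`r ∈ τ₃(M)`) normalized by `P`
with `C_Q(P) = 1` and `N_G(Q) ≤ L`.  If `E` centralizes
`D := C_{M_σ}(Q)`, then `D = 1`.

Proof.  `Q = [Q,P] ≤ M'` and `M_σ = [M_σ,E] ≤ M'`; as `M'M_α/M_α` is nilpotent (S1405), `Q`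
centralizes `M_σ/M_α`, so `M_σ = M_α D` (coprime action).  `D ∩ M_α = 1`: an element `y` of
prime order `t` of `D ∩ M_α` lies in a `QP`-invariant Sylow `t`-subgroup `T` of `M_α`; `C_T(P)`
is cyclic (S1406, S1409), so all its elements of order `t` lie in `⟨y⟩ ≤ C(Q)`, and Lemma X gives
`[T,Q] = 1`, `T ≤ N(Q) ≤ L`, against the uniqueness theorem (`T` has rank at least 3).  Finally
`D ≤ C_{M_σ}(E) ≤ [M_σ,M_σ] ≤ M_α [D,D]` (S1426), so `D = [D,D]` and `D = 1`.
-/
import Mathlib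
import Cfsg.Agent.S1405
import Cfsg.Agent.S1406
import Cfsg.Agent.S1409
import Cfsg.Agent.S1426
import Cfsg.Agent.Lib.helper1.Coprime
import Cfsg.Agent.Lib.helper13.BG11a
import Cfsg.Agent.Lib.helper25.BG1428B2M
import Cfsg.Agent.Lib.helper54.BG1428Good
import Cfsg.Agent.Lib.helper76.BG134K
import Cfsg.Agent.Lib.helper98.BGLemmaX
import Cfsg.Agent.Lib.helper71.BGTwelveFour
import Cfsg.Agent.Lib.helper71.BGTenA
import Cfsg.Agent.Lib.helper29.Trans
import Cfsg.Agent.Lib.helper29.Basic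
import Cfsg.Agent.Lib.helper28.PConn
import Cfsg.Agent.Lib.helper27.Radical
import Cfsg.Agent.Lib.helper8.BGTen1

set_option autoImplicit false
open Cfsg

namespace Cfsg.Agent.Lib.helper90.BGKL

variable {G : Type*} [Group G]

theorem kl_cent_trivial [Finite G] (hG : IsMinSimpleOddOrder G) (M L : Subgroup G)
    (hM : IsCoatom M) (hL : IsCoatom L) (hLM : L ≠ M) (E : Subgroup G)
    (hE : IsComplIn E (sigmaCore M) M) (p : ℕ) (hp : p ∈ tau1 M) (P : Subgroup G) (hPE : P ≤ E)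
    (hP : Nat.card P = p) (r : ℕ) (hr3 : r ∈ tau3 M) (Q : Subgroup G)
    (hQ : IsPGroup r Q) (hQM : Q ≤ M)
    (hPQ : P ≤ Subgroup.normalizer (Q : Set G))
    (hQP : Q ⊓ Subgroup.centralizer (P : Set G) = ⊥)
    (hNQ : Subgroup.normalizer (Q : Set G) ≤ L)
    (hC : sigmaCore M ⊓ Subgroup.centralizer (Q : Set G) ≤ Subgroup.centralizer (E : Set G)) :
    sigmaCore M ⊓ Subgroup.centralizer (Q : Set G) = ⊥ := by
  classical
  have hU := Cfsg.Agent.Lib.helper13.bgx_uniq hG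
  have hodd : Odd (Nat.card G) := hG.1
  have hpp : p.Prime := hp.1
  have hpσ : p ∉ sigma M := hp.2.1
  have hr : r.Prime := hr3.1
  have hrσ : r ∉ sigma M := hr3.2.1
  have hFp : Fact p.Prime := ⟨hpp⟩
  have hFr : Fact r.Prime := ⟨hr⟩
  have hrp : r ≠ p := fun h => hp.2.2.2.1 (h ▸ hr3.2.2.1)
  have hPM : P ≤ M := hPE.trans hE.1
  have hMsM : sigmaCore M ≤ M := Cfsg.Agent.Lib.helper29.piCoreOf_le (sigma M) M
  have hMsprime : ∀ s : ℕ, s.Prime → s ∣ Nat.card (sigmaCore M) → s ∈ sigma M :=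
    Cfsg.Agent.Lib.helper29.prime_mem_of_dvd_card_piCoreOf (sigma M) M
  have hMαM : alphaCore M ≤ M := Cfsg.Agent.Lib.helper29.piCoreOf_le (alpha M) M
  have hMαprime : ∀ s : ℕ, s.Prime → s ∣ Nat.card (alphaCore M) → s ∈ alpha M :=
    Cfsg.Agent.Lib.helper29.prime_mem_of_dvd_card_piCoreOf (alpha M) M
  have hMnα : M ≤ Subgroup.normalizer ((alphaCore M : Subgroup G) : Set G) :=
    Cfsg.Agent.Lib.helper29.le_normalizer_piCoreOf (alpha M) M
  have h1405 := Cfsg.Agent.S1405.result hG M hM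
  have hMασ : alphaCore M ≤ sigmaCore M := h1405.2.2.1
  have hnil := h1405.2.2.2.2
  have hασ : ∀ s, s ∈ alpha M → s ∈ sigma M := fun s hs =>
    Cfsg.Agent.Lib.helper8.bg_alpha_sub_sigma hG hU M hM hs
  have hrα : r ∉ alpha M := fun h => hrσ (hασ r h)
  have hpα : p ∉ alpha M := fun h => hpσ (hασ p h)
  have hP1 : P ≠ ⊥ := by
    intro h
    have h1 := hpp.one_lt
    rw [← hP, h, Subgroup.card_bot] at h1
    exact lt_irrefl _ h1
  obtain ⟨n, hn⟩ := IsPGroup.iff_card.mp hQ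
  have hcopPQ : (Nat.card P).Coprime (Nat.card Q) := by
    rw [hP, hn]
    exact Nat.Coprime.pow_right n ((Nat.coprime_primes hpp hr).mpr (Ne.symm hrp))
  -- `Q = ⁅Q, P⁆`
  have hsolvP : Group.IsSolvable P := hG.2.2.2 P (ne_top_of_le_ne_top hM.1 hPM)
  have hQcomm : ⁅Q, P⁆ = Q := by
    have h := Cfsg.Agent.Lib.helper1.commutator_sup_fixed P Q hPQ hcopPQ (Or.inl hsolvP)
    rw [hQP, sup_bot_eq] at h
    exact h
  have hQM' : Q ≤ ⁅M, M⁆ := by
    rw [← hQcomm]
    exact Subgroup.commutator_mono hQM hPM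
  have h1426 := Cfsg.Agent.S1426.result hG M hM E hE
  have hMsM' : sigmaCore M ≤ ⁅M, M⁆ := by
    calc sigmaCore M = ⁅sigmaCore M, E⁆ := h1426.2.1.symm
      _ ≤ ⁅M, M⁆ := Subgroup.commutator_mono hMsM hE.1
  set D : Subgroup G := sigmaCore M ⊓ Subgroup.centralizer (Q : Set G) with hDdef
  have hDMs : D ≤ sigmaCore M := inf_le_left
  -- factorization `M_σ = M_α D`
  have hQnα : Q ≤ Subgroup.normalizer ((alphaCore M : Subgroup G) : Set G) := hQM.trans hMnα
  have hcopQα : (Nat.card Q).Coprime (Nat.card (alphaCore M)) := by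
    rw [hn]
    apply Nat.Coprime.pow_left
    rw [Nat.Prime.coprime_iff_not_dvd hr]
    exact fun h => hrα (hMαprime r hr h)
  have hsolvα : Group.IsSolvable (alphaCore M) :=
    hG.2.2.2 _ (ne_top_of_le_ne_top hM.1 hMαM)
  have hfac : ∀ x ∈ sigmaCore M, ∃ b ∈ alphaCore M, ∃ d ∈ D, x = b * d := by
    intro x hx
    have hg : ∀ a ∈ Q, a * x * a⁻¹ * x⁻¹ ∈ alphaCore M := by
      intro a ha
      apply Cfsg.Agent.Lib.helper54.Good.comm_mem_alphaCore M hnil (hQM' ha) (hMsM' hx)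
      have h1 : orderOf a ∣ r ^ n := hn ▸ Subgroup.orderOf_dvd_natCard _ ha
      have h2 : orderOf x ∣ Nat.card (sigmaCore M) := Subgroup.orderOf_dvd_natCard _ hx
      refine Nat.Coprime.coprime_dvd_left h1 (Nat.Coprime.coprime_dvd_right h2 ?_)
      apply Nat.Coprime.pow_left
      rw [Nat.Prime.coprime_iff_not_dvd hr]
      exact fun h => hrσ (hMsprime r hr h)
    obtain ⟨c, hc, hcx⟩ := Cfsg.Agent.Lib.helper1.coset_fixed Q (alphaCore M) hQnα hcopQα
      (Or.inr hsolvα) x hg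
    have hcMs : c ∈ sigmaCore M := by
      have h3 : c = (c * x⁻¹) * x := by group
      rw [h3]
      exact Subgroup.mul_mem _ (hMασ hcx) hx
    exact ⟨(c * x⁻¹)⁻¹, Subgroup.inv_mem _ hcx, c, ⟨hcMs, hc⟩, by group⟩
  -- `D ⊓ M_α = ⊥`
  have hDα : D ⊓ alphaCore M = ⊥ := by
    by_contra hne
    have hcard1 : Nat.card ↥(D ⊓ alphaCore M) ≠ 1 := fun h => hne (Subgroup.card_eq_one.mp h)
    obtain ⟨t, ht, htdvd⟩ := Nat.exists_prime_and_dvd hcard1
    have hFt : Fact t.Prime := ⟨ht⟩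
    obtain ⟨y', hy'⟩ := exists_prime_orderOf_dvd_card' (G := ↥(D ⊓ alphaCore M)) t htdvd
    obtain ⟨y, hydef⟩ : ∃ y : G, y = (y' : G) := ⟨_, rfl⟩
    have hyord : orderOf y = t := by rw [hydef, Subgroup.orderOf_coe, hy']
    have hyD : y ∈ D := hydef ▸ (Subgroup.mem_inf.mp y'.2).1
    have hyα : y ∈ alphaCore M := hydef ▸ (Subgroup.mem_inf.mp y'.2).2
    have htα : t ∈ alpha M :=
      hMαprime t ht (htdvd.trans (Subgroup.card_dvd_of_le inf_le_right))
    have htσ : t ∈ sigma M := hασ t htα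
    have hrt : r ≠ t := fun h => hrσ (h ▸ htσ)
    have hpt : p ≠ t := fun h => hpσ (h ▸ htσ)
    have hyQ : y ∈ Subgroup.centralizer (Q : Set G) := (Subgroup.mem_inf.mp hyD).2
    have hyE : y ∈ Subgroup.centralizer (E : Set G) := hC hyD
    have hyP : y ∈ Subgroup.centralizer (P : Set G) :=
      Subgroup.centralizer_le (SetLike.coe_subset_coe.mpr hPE) hyE
    obtain ⟨Y, hYdef⟩ : ∃ Y : Subgroup G, Y = Subgroup.zpowers y := ⟨_, rfl⟩
    have hYα : Y ≤ alphaCore M := by rw [hYdef, Subgroup.zpowers_le]; exact hyα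
    have hYt : IsPGroup t Y := by
      have h1 : Nat.card Y = t := by rw [hYdef, Nat.card_zpowers, hyord]
      exact IsPGroup.of_card (n := 1) (by rw [pow_one, h1])
    have hYcQ : Y ≤ Subgroup.centralizer (Q : Set G) := by
      rw [hYdef, Subgroup.zpowers_le]; exact hyQ
    have hYcP : Y ≤ Subgroup.centralizer (P : Set G) := by
      rw [hYdef, Subgroup.zpowers_le]; exact hyP
    obtain ⟨Γ, hΓdef⟩ : ∃ Γ : Subgroup G, Γ = P ⊔ Q := ⟨_, rfl⟩
    have hΓM : Γ ≤ M := hΓdef ▸ sup_le hPM hQM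
    have hΓN : Γ ≤ Subgroup.normalizer ((alphaCore M : Subgroup G) : Set G) := hΓM.trans hMnα
    have hΓdvd : Nat.card Γ ∣ Nat.card P * Nat.card Q :=
      hΓdef ▸ Cfsg.Agent.Lib.helper27.card_sup_dvd_mul_of_le_normalizer P Q hPQ
    have hcopΓ : (Nat.card Γ).Coprime (Nat.card (alphaCore M)) := by
      apply Nat.coprime_of_dvd
      intro s hs hsΓ hsα
      have hsα' : s ∈ alpha M := hMαprime s hs hsα
      rcases (Nat.Prime.dvd_mul hs).mp (hsΓ.trans hΓdvd) with h | h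
      · rw [hP] at h
        have h4 : s = p := (Nat.prime_dvd_prime_iff_eq hs hpp).mp h
        exact hpα (h4 ▸ hsα')
      · rw [hn] at h
        have h4 : s = r := (Nat.prime_dvd_prime_iff_eq hs hr).mp (hs.dvd_of_dvd_pow h)
        exact hrα (h4 ▸ hsα')
    have hΓY : Γ ≤ Subgroup.normalizer (Y : Set G) := by
      have hPcY : P ≤ Subgroup.centralizer (Y : Set G) := by
        intro a ha
        rw [Subgroup.mem_centralizer_iff]
        intro z hz
        exact ((Subgroup.mem_centralizer_iff.mp (hYcP hz)) a ha).symm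
      have hQcY : Q ≤ Subgroup.centralizer (Y : Set G) := by
        intro a ha
        rw [Subgroup.mem_centralizer_iff]
        intro z hz
        exact ((Subgroup.mem_centralizer_iff.mp (hYcQ hz)) a ha).symm
      rw [hΓdef]
      exact (sup_le hPcY hQcY).trans (Subgroup.centralizer_le_normalizer _)
    obtain ⟨Pt, hYPt, hPt⟩ := Cfsg.Agent.Lib.helper1.exists_invariant_sylow_ge (p := t) Γ
      (alphaCore M) hΓN hcopΓ (Or.inr hsolvα) Y hYα hYt hΓY
    obtain ⟨T, hTdef⟩ : ∃ T : Subgroup G,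
      T = (Pt : Subgroup (alphaCore M)).map (alphaCore M).subtype := ⟨_, rfl⟩
    rw [← hTdef] at hYPt hPt
    have hTα : T ≤ alphaCore M := hTdef ▸ Subgroup.map_subtype_le _
    have hTp : IsPGroup t T := hTdef ▸ Pt.isPGroup'.map _
    have hQN : Q ≤ Subgroup.normalizer (T : Set G) := (hΓdef ▸ le_sup_right : Q ≤ Γ).trans hPt
    have hPN : P ≤ Subgroup.normalizer (T : Set G) := (hΓdef ▸ le_sup_left : P ≤ Γ).trans hPt
    have hyT : y ∈ T := hYPt (hYdef ▸ Subgroup.mem_zpowers y)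
    -- `T` has rank at least 3
    have hHall := h1405.1
    have hidx : ¬ t ∣ (piCore (alpha M) ↥M).index := by
      have h := hHall.2.2 t ht htα
      rwa [show alphaCore M = (piCore (alpha M) ↥M).map M.subtype from rfl,
        Cfsg.Agent.Lib.helper71.BGA.relIndex_map_subtype] at h
    have hr2 : ¬ PRankLE t 2 ↥T := by
      obtain ⟨B, hBM, hBe, hBcard⟩ :=
        (Cfsg.Agent.Lib.helper28.not_pRankLE_subgroup_iff t 2 M).mp htα.2
      have hBp : IsPGroup t B := by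
        intro b
        refine ⟨1, ?_⟩
        rw [pow_one]
        exact Subtype.ext (by simpa using hBe.2 b b.2)
      have hBMα : B ≤ alphaCore M :=
        Cfsg.Agent.Lib.helper71.BGA.le_map_of_isPGroup (piCore (alpha M) ↥M) hidx hBM hBp
      rw [hTdef]
      exact Cfsg.Agent.Lib.helper71.BGA.not_prankLE_sylow_map Pt hBMα hBe hBcard
    -- `T` is not contained in `L`
    have hTL : ¬ T ≤ L := by
      intro hTL
      obtain ⟨B, hBT, hBe, hBcard⟩ :=
        (Cfsg.Agent.Lib.helper28.not_pRankLE_subgroup_iff t 2 T).mp hr2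
      have hBM : B ≤ M := hBT.trans (hTα.trans hMαM)
      have hu := Cfsg.Agent.Lib.helper71.BG12.inUniqueMaximal_of_elemAb hU ht hM hBM hBe hBcard
      exact hLM (hu.unique ⟨hL, hBT.trans hTL⟩ ⟨hM, hBM⟩)
    -- `C_T(P)` is cyclic
    have hcyc : IsCyclic ↥(T ⊓ Subgroup.centralizer (P : Set G)) := by
      apply Cfsg.Agent.Lib.helper25.BG1428.isCyclic_inf_centralizer hG hM hTp hTα hPM
      · intro s hs hsd
        rw [hP] at hsd
        have hsp : s = p := (Nat.prime_dvd_prime_iff_eq hs hpp).mp hsd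
        rw [hsp]
        exact hpα
      · intro hu
        have hNM : Subgroup.normalizer (P : Set G) ≤ M :=
          Cfsg.Agent.Lib.helper76.k_normalizer_le hG hM hPM hP1 hu
        have h9 := Cfsg.Agent.S1409.result hG M hM p hpσ P hP hNM
        exact h9.1.2 hp.2.2.2.2
    -- Lemma X
    have hfix : ∀ x ∈ T ⊓ Subgroup.centralizer (P : Set G), x ^ t = 1 →
        x ∈ Subgroup.centralizer ((⁅Q, P⁆ : Subgroup G) : Set G) := by
      intro x hx hxt
      have hyC : y ∈ T ⊓ Subgroup.centralizer (P : Set G) := Subgroup.mem_inf.mpr ⟨hyT, hyP⟩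
      have hxz : x ∈ Subgroup.zpowers y :=
        Cfsg.Agent.Lib.helper25.BG1428.mem_zpowers_of_isCyclic hcyc hyC hx
          (by rw [hyord]; exact hxt)
      rw [hQcomm]
      exact hYcQ (hYdef ▸ hxz)
    have hX := Cfsg.Agent.Lib.helper98.bgx_comm_centralizes hodd T Q P t ht hTp
      (by rw [hP]; exact hpp) (by rw [hP]; exact hpt)
      (by rw [hn]; exact Nat.Coprime.pow_left n ((Nat.coprime_primes hr ht).mpr hrt))
      hcopPQ.symm hPQ hQN hPN hcyc hfix
    rw [hQcomm] at hX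
    apply hTL
    intro z hz
    apply hNQ
    apply Subgroup.centralizer_le_normalizer
    rw [Subgroup.mem_centralizer_iff]
    intro x hx
    exact ((Subgroup.mem_centralizer_iff.mp (hX hx)) z hz).symm
  -- `D ≤ ⁅M_σ, M_σ⁆ ≤ M_α ⊔ ⁅D, D⁆`
  have hD1 : D ≤ ⁅sigmaCore M, sigmaCore M⁆ := fun d hd => h1426.1 ⟨hDMs hd, hC hd⟩
  have hMsnα : sigmaCore M ≤ Subgroup.normalizer ((alphaCore M : Subgroup G) : Set G) :=
    hMsM.trans hMnα
  have hD2 : ⁅sigmaCore M, sigmaCore M⁆ ≤ alphaCore M ⊔ ⁅D, D⁆ :=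
    Cfsg.Agent.Lib.helper76.k_comm_le hMsnα hDMs hfac
  have hDDle : ⁅D, D⁆ ≤ D :=
    Cfsg.Agent.Lib.helper1.commutator_le_of_le_normalizer Subgroup.le_normalizer
  have hDD : D ≤ ⁅D, D⁆ := by
    intro d hd
    have h1 : d ∈ alphaCore M ⊔ ⁅D, D⁆ := hD2 (hD1 hd)
    obtain ⟨a, ha, b, hb, hab⟩ := Cfsg.Agent.Lib.helper29.exists_mul_of_mem_sup_of_le_normalizer
      (hDDle.trans (hDMs.trans hMsnα)) h1
    have haD : a ∈ D := by
      have h2 : a = d * b⁻¹ := by rw [hab]; group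
      rw [h2]
      exact D.mul_mem hd (D.inv_mem (hDDle hb))
    have ha1 : a ∈ D ⊓ alphaCore M := ⟨haD, ha⟩
    rw [hDα, Subgroup.mem_bot] at ha1
    rw [hab, ha1, one_mul]
    exact hb
  -- `D` is solvable and perfect, hence trivial
  by_contra hD
  have hsolvD : Group.IsSolvable D :=
    hG.2.2.2 D (ne_top_of_le_ne_top hM.1 (hDMs.trans hMsM))
  have hnt : Nontrivial ↥D := (Subgroup.nontrivial_iff_ne_bot D).mpr hD
  have hlt : commutator ↥D < ⊤ := Group.IsSolvable.commutator_lt_top_of_nontrivial ↥D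
  have hmap : (commutator ↥D).map D.subtype = ⁅D, D⁆ := Subgroup.map_subtype_commutator D
  apply hlt.ne
  rw [eq_top_iff]
  intro d _
  have h1 : (d : G) ∈ ⁅D, D⁆ := hDD d.2
  rw [← hmap] at h1
  obtain ⟨d', hd', hdd⟩ := h1
  have h2 : d' = d := Subtype.ext (by simpa using hdd)
  exact h2 ▸ hd'

end Cfsg.Agent.Lib.helper90.BGKL
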