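import Mathlib
import Cfsg.Agent.Lib.helper68.HallPet

/-!
S5238 block G, sub-block J (architect helper52), piece J1 (racing copy, prefixed name):
greedy generators modulo a subgroup in a finite `p`-group.
-/

set_option autoImplicit false

namespace Cfsg.Agent.Lib.helper52.PearlJ

open Cfsg.Agent.Lib.helper68

/-- J1 (M), racing copy. -/
theorem h90_jp_greedy {G : Type*} [Group G] [Finite G] (p : ℕ) [Fact p.Prime] (hGp : IsPGroup p G)
    (k : ℕ) (H L : Subgroup G) (hL : L ≤ H) (hidx : Nat.card H ≤ p ^ k * Nat.card L) :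
    ∃ T : Finset G, T.card ≤ k ∧ Subgroup.closure (T : Set G) ⊔ L = H := by
  classical
  have hp : p.Prime := Fact.out
  induction k generalizing L with
  | zero =>
    refine ⟨∅, le_refl _, ?_⟩
    rw [pow_zero, one_mul] at hidx
    have hLH : L = H := Subgroup.eq_of_le_of_card_ge hL hidx
    simp [hLH]
  | succ k ih =>
    by_cases hLH : L = H
    · exact ⟨∅, Nat.zero_le _, by simp [hLH]⟩
    · obtain ⟨h, hhH, hhL⟩ := SetLike.exists_of_lt (lt_of_le_of_ne hL hLH)
      have hL' : Subgroup.closure ({h} : Set G) ⊔ L ≤ H :=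
        sup_le ((Subgroup.closure_le H).mpr (by simpa using hhH)) hL
      have hLL' : L ≤ Subgroup.closure ({h} : Set G) ⊔ L := le_sup_right
      have hhL' : h ∈ Subgroup.closure ({h} : Set G) ⊔ L :=
        (le_sup_left : Subgroup.closure ({h} : Set G) ≤ _) (Subgroup.subset_closure rfl)
      obtain ⟨m, hm⟩ := Subgroup.card_dvd_of_le hLL'
      obtain ⟨n, hn⟩ := IsPGroup.iff_card.mp hGp
      have hLpos : 0 < Nat.card L := Nat.card_pos
      have hm1 : m ≠ 1 := by
        rintro rfl
        rw [mul_one] at hm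
        have : L = Subgroup.closure ({h} : Set G) ⊔ L := Subgroup.eq_of_le_of_card_ge hLL' hm.le
        exact hhL (this ▸ hhL')
      have hmd : m ∣ p ^ n := by
        rw [← hn]
        exact dvd_trans ⟨Nat.card L, by rw [hm]; ring⟩ (Subgroup.card_subgroup_dvd_card _)
      obtain ⟨j, -, hj⟩ := (Nat.dvd_prime_pow hp).mp hmd
      have hpm : p ≤ m := by
        rw [hj]
        have hj0 : j ≠ 0 := by
          rintro rfl
          exact hm1 (by rw [hj, pow_zero])
        exact Nat.le_self_pow hj0 p
      have hidx' : Nat.card H ≤ p ^ k * Nat.card ↥(Subgroup.closure ({h} : Set G) ⊔ L) := by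
        rw [hm]
        calc Nat.card H ≤ p ^ (k + 1) * Nat.card L := hidx
          _ = p ^ k * (Nat.card L * p) := by ring
          _ ≤ p ^ k * (Nat.card L * m) := Nat.mul_le_mul_left _ (Nat.mul_le_mul_left _ hpm)
      obtain ⟨T', hT'c, hT'⟩ := ih (Subgroup.closure ({h} : Set G) ⊔ L) hL' hidx'
      refine ⟨insert h T', le_trans (Finset.card_insert_le _ _) (by omega), ?_⟩
      rw [Finset.coe_insert, Set.insert_eq, Subgroup.closure_union, ← hT',
        sup_comm (Subgroup.closure ({h} : Set G)), sup_assoc]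

end Cfsg.Agent.Lib.helper52.PearlJ
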