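import Mathlib
import Cfsg.Agent.Lib.helper44.SL3Defs

/-!
# S2287 piece C1d (helper90): `core1_biadd`

Central commutators are bi-additive.
-/

set_option autoImplicit false

namespace Cfsg.Agent.Lib.helper44.SL3

/-- `cm (X X') Y = X (cm X' Y) X⁻¹ (cm X Y)` -/
theorem h90_cm_mul_left {G : Type*} [Group G] (X X' Y : G) :
    cm (X * X') Y = X * cm X' Y * X⁻¹ * cm X Y := by
  unfold cm
  group

/-- `cm X (Y Y') = (cm X Y) Y (cm X Y') Y⁻¹` -/
theorem h90_cm_mul_right {G : Type*} [Group G] (X Y Y' : G) :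
    cm X (Y * Y') = cm X Y * (Y * cm X Y' * Y⁻¹) := by
  unfold cm
  group

-- C1d
theorem core1_biadd {G : Type*} [Group G] {F : Type*} [Field F] (x y : F → G)
    (x_add : ∀ a b, x (a + b) = x a * x b) (y_add : ∀ a b, y (a + b) = y a * y b)
    (hcen : ∀ a b a', Commute (x a') (cm (x a) (y b)) ∧ Commute (y a') (cm (x a) (y b))) :
    (∀ a a' b, cm (x (a + a')) (y b) = cm (x a) (y b) * cm (x a') (y b)) ∧
    (∀ a b b', cm (x a) (y (b + b')) = cm (x a) (y b) * cm (x a) (y b')) := by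
  constructor
  · intro a a' b
    rw [add_comm a a', x_add, h90_cm_mul_left]
    have h1 : x a' * cm (x a) (y b) * (x a')⁻¹ = cm (x a) (y b) := by
      rw [(hcen a b a').1.eq, mul_inv_cancel_right]
    rw [h1]
  · intro a b b'
    rw [y_add, h90_cm_mul_right]
    have h1 : y b * cm (x a) (y b') * (y b)⁻¹ = cm (x a) (y b') := by
      rw [(hcen a b' b).2.eq, mul_inv_cancel_right]
    rw [h1]

end Cfsg.Agent.Lib.helper44.SL3
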