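import Mathlib
import Cfsg.Agent.S0799
import Cfsg.Agent.Lib.helper81.CTsl2
import Cfsg.Agent.Lib.helper7.CardSL
import Cfsg.Agent.Lib.helper16.Sharp3

/-!
# S4073 piece DICKSON (helper90)

The non-abelian subgroups of `PSL₂(2ⁿ)`, `2ⁿ − 1` prime, from Dickson's list (`S0799`).
-/

set_option autoImplicit false

namespace Cfsg.Agent.Lib.helper90.SNG

universe u

/-- **[DICKSON]** (from `Cfsg.Agent.S0799.result`) -/
theorem psl2_subgroup_types {G : Type u} [Group G] [Finite G] {n : ℕ} (hn : 2 ≤ n)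
    (hp : (2 ^ n - 1).Prime)
    (e : G ≃* Matrix.ProjectiveSpecialLinearGroup (Fin 2) (GaloisField 2 n))
    (K : Subgroup G) (hK : ¬ IsMulCommutative K) :
    (∃ k : ℕ, Odd k ∧ Nonempty (K ≃* DihedralGroup k)) ∨
    (∃ (P : Sylow 2 G) (K' : Subgroup G),
        K' ≤ Subgroup.normalizer ((P : Subgroup G) : Set G) ∧ Nonempty (K ≃* K')) ∨
    Nonempty (K ≃* alternatingGroup (Fin 4)) ∨ Nonempty (K ≃* Equiv.Perm (Fin 4)) ∨
    Nonempty (K ≃* alternatingGroup (Fin 5)) ∨ Nat.card K = 6 ∨ K = ⊤ := by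
  classical
  have : Fact (Nat.Prime 2) := ⟨Nat.prime_two⟩
  have hn0 : n ≠ 0 := by omega
  have hfinF : Finite (GaloisField 2 n) := by
    apply Nat.finite_of_card_ne_zero
    rw [GaloisField.card 2 n hn0]
    positivity
  let _ : Fintype (GaloisField 2 n) := Fintype.ofFinite _
  have hF : Fintype.card (GaloisField 2 n) = 2 ^ n := by
    rw [← Nat.card_eq_fintype_card]
    exact GaloisField.card 2 n hn0
  have hfin : Finite (Matrix.ProjectiveSpecialLinearGroup (Fin 2) (GaloisField 2 n)) :=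
    Finite.of_equiv G e.toEquiv
  have hnprime : n.Prime := (Nat.prime_of_pow_sub_one_prime (by omega) hp).2
  have heven : Even (2 ^ n) := Nat.even_pow.mpr ⟨even_two, hn0⟩
  have hpos : 0 < 2 ^ n := by positivity
  have hq4 : 4 ≤ 2 ^ n := by
    calc 4 = 2 ^ 2 := by norm_num
      _ ≤ 2 ^ n := Nat.pow_le_pow_right (by norm_num) hn
  have hodd1 : Odd (2 ^ n - 1) := Nat.Even.sub_odd (by omega) heven odd_one
  have hodd2 : Odd (2 ^ n + 1) := heven.add_one
  have hgcd : Nat.gcd 2 (2 ^ n - 1) = 1 := by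
    have : Nat.Coprime 2 (2 ^ n - 1) := by
      rw [Nat.Prime.coprime_iff_not_dvd Nat.prime_two]
      intro hd
      exact (Nat.not_even_iff_odd.mpr hodd1) (even_iff_two_dvd.mpr hd)
    exact this
  -- the image of `K`
  let eK : K ≃* K.map e.toMonoidHom := e.subgroupMap K
  rcases Cfsg.Agent.S0799.result hF 2 (K.map e.toMonoidHom) with
    ⟨k, hk, hcd⟩ | ⟨P, K₁, hK₁, ⟨f⟩⟩ | ⟨⟨f⟩⟩ | ⟨⟨f⟩⟩ | ⟨⟨f⟩⟩ | ⟨K', instK, instKf, m, hcard, hiso⟩
  · -- cyclic or dihedral
    rw [hgcd, Nat.div_one, Nat.div_one] at hk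
    have hkodd : Odd k := by
      rcases hk with hk | hk
      · exact Odd.of_dvd_nat hodd2 hk
      · exact Odd.of_dvd_nat hodd1 hk
    rcases hcd with ⟨hcyc, -⟩ | ⟨⟨f⟩⟩
    · exfalso
      apply hK
      obtain ⟨g, hg⟩ := hcyc.exists_generator
      refine ⟨⟨fun a b => ?_⟩⟩
      obtain ⟨i, hi⟩ := Subgroup.mem_zpowers_iff.mp (hg (eK a))
      obtain ⟨j, hj⟩ := Subgroup.mem_zpowers_iff.mp (hg (eK b))
      apply eK.injective
      rw [map_mul, map_mul, ← hi, ← hj]
      exact zpow_mul_comm g i j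
    · left
      exact ⟨k, hkodd, ⟨eK.trans f⟩⟩
  · -- inside the normalizer of a Sylow 2-subgroup
    right; left
    refine ⟨P.mapSurjective (f := e.symm.toMonoidHom) e.symm.surjective,
      K₁.map e.symm.toMonoidHom, ?_, ⟨eK.trans (f.trans (e.symm.subgroupMap K₁))⟩⟩
    rintro y ⟨x, hx, rfl⟩
    have hxN := hK₁ hx
    rw [Subgroup.mem_normalizer_iff] at hxN ⊢
    intro g
    have h1 : ∀ z : G, z ∈ ((P.mapSurjective (f := e.symm.toMonoidHom) e.symm.surjective :
        Sylow 2 G) : Subgroup G) ↔ e z ∈ (P : Subgroup _) := by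
      intro z
      show z ∈ (P : Subgroup _).map e.symm.toMonoidHom ↔ _
      rw [Subgroup.mem_map_equiv]
      simp
    rw [h1, h1]
    have := hxN (e g)
    simpa using this
  · right; right; left
    exact ⟨eK.trans f⟩
  · right; right; right; left
    exact ⟨eK.trans f⟩
  · right; right; right; right; left
    exact ⟨eK.trans f⟩
  · -- subfield subgroups
    right; right; right; right; right
    obtain ⟨p, hpchar⟩ := CharP.exists K'
    obtain ⟨a, hpprime, hca⟩ := FiniteField.card K' p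
    have hm0 : m ≠ 0 := by
      rintro rfl
      rw [pow_zero] at hcard
      omega
    have hp2 : p = 2 := by
      have h1 : p ∣ 2 ^ n := by
        rw [← hcard, hca]
        exact dvd_pow (dvd_pow_self p a.ne_zero) hm0
      exact (Nat.prime_dvd_prime_iff_eq hpprime Nat.prime_two).mp (hpprime.dvd_of_dvd_pow h1)
    subst hp2
    have ham : (a : ℕ) * m = n := by
      rw [hca, ← pow_mul] at hcard
      exact Nat.pow_right_injective (le_refl 2) hcard
    have h2 : (2 : K') = 0 := by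
      have := CharP.cast_eq_zero K' 2
      exact_mod_cast this
    -- `K.map e` is isomorphic to `SL₂(K')`
    have hSL : Nonempty (K.map e.toMonoidHom ≃* Matrix.SpecialLinearGroup (Fin 2) K') := by
      rcases hiso with ⟨⟨f⟩⟩ | ⟨⟨f⟩⟩
      · exact ⟨f.trans (Cfsg.Agent.Lib.helper81.h81_sl2_equiv_psl2 h2).symm⟩
      · obtain ⟨g⟩ := Cfsg.Agent.Lib.helper16.sl2_mulEquiv_pgl2 K'
        exact ⟨f.trans g.symm⟩
    obtain ⟨f⟩ := hSL
    have hcK : Nat.card K = 2 ^ (a : ℕ) * ((2 ^ (a : ℕ)) ^ 2 - 1) := by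
      rw [Nat.card_congr (eK.trans f).toEquiv]
      exact Cfsg.Agent.Lib.helper7.card_SL2 hca
    have ha : (a : ℕ) = 1 ∨ (a : ℕ) = n := by
      have hdvd : (a : ℕ) ∣ n := ⟨m, ham.symm⟩
      exact (Nat.dvd_prime hnprime).mp hdvd
    rcases ha with ha | ha
    · left
      rw [hcK, ha]
      norm_num
    · right
      rw [ha] at hcK
      have hcG : Nat.card G = 2 ^ n * ((2 ^ n) ^ 2 - 1) := by
        have h2' : (2 : GaloisField 2 n) = 0 := by
          have := CharP.cast_eq_zero (GaloisField 2 n) 2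
          exact_mod_cast this
        rw [Nat.card_congr (e.trans (Cfsg.Agent.Lib.helper81.h81_sl2_equiv_psl2 h2').symm).toEquiv]
        exact Cfsg.Agent.Lib.helper7.card_SL2 hF
      exact (Subgroup.card_eq_iff_eq_top K).mp (hcK.trans hcG.symm)

end Cfsg.Agent.Lib.helper90.SNG
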