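import Mathlib
import Cfsg.Agent.Lib.helper69.SNDefs

/-!
# S4073 piece P2N-NONSOLV (helper90)

A non-solvable `SN`-group whose simple non-abelian quotients all have abelian Sylow
2-subgroups has abelian Sylow 2-subgroups.
-/

set_option autoImplicit false

namespace Cfsg.Agent.Lib.helper90.SNG

open Cfsg.Agent.Lib.helper69.SNG

universe u

/-- **[P2N-NONSOLV]** -/
theorem sn_nonsolvable_sylow {K : Type u} [Group K] [Finite K] (h : SN K)
    (hs : ¬ Group.IsSolvable K) (S : Sylow 2 K) (hS : ¬ IsMulCommutative S)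
    (hind : ∀ (N : Subgroup K) [N.Normal], IsSimpleGroup (K ⧸ N) → ¬ IsMulCommutative (K ⧸ N) →
      ∀ Q : Sylow 2 (K ⧸ N), IsMulCommutative Q) : False := by
  classical
  -- `K` is nontrivial
  have hnt : (⊥ : Subgroup K) ≠ ⊤ := by
    intro hbt
    apply hs
    apply Group.isSolvable_of_comm
    intro a b
    have ha : a ∈ (⊥ : Subgroup K) := hbt ▸ Subgroup.mem_top a
    have hb : b ∈ (⊥ : Subgroup K) := hbt ▸ Subgroup.mem_top b
    rw [Subgroup.mem_bot] at ha hb
    rw [ha, hb]
  -- a proper normal subgroup of maximal order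
  have : Nonempty {R : Subgroup K // R.Normal ∧ R ≠ ⊤} := ⟨⟨⊥, inferInstance, hnt⟩⟩
  obtain ⟨⟨R, hRn, hRt⟩, hmax⟩ :=
    Finite.exists_max (fun R : {R : Subgroup K // R.Normal ∧ R ≠ ⊤} => Nat.card (R.1 : Subgroup K))
  have := hRn
  have hRle : ∀ r ∈ R, QuotientGroup.mk' R r = 1 := by
    intro r hr
    rw [QuotientGroup.mk'_apply, QuotientGroup.eq_one_iff]; exact hr
  -- the quotient is simple
  have hsimple : IsSimpleGroup (K ⧸ R) := by
    have : Nontrivial (K ⧸ R) := by
      by_contra hc
      rw [not_nontrivial_iff_subsingleton] at hc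
      exact hRt (QuotientGroup.subgroup_eq_top_of_subsingleton R hc)
    refine ⟨fun N hN => ?_⟩
    by_cases hc : N.comap (QuotientGroup.mk' R) = ⊤
    · right
      rw [eq_top_iff]
      intro x _
      obtain ⟨x', rfl⟩ := QuotientGroup.mk'_surjective R x
      have : x' ∈ N.comap (QuotientGroup.mk' R) := hc ▸ Subgroup.mem_top x'
      exact this
    · left
      have : (N.comap (QuotientGroup.mk' R)).Normal := hN.comap _
      have h1 := hmax ⟨N.comap (QuotientGroup.mk' R), inferInstance, hc⟩
      have h2 : R ≤ N.comap (QuotientGroup.mk' R) := by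
        intro r hr
        rw [Subgroup.mem_comap, hRle r hr]
        exact N.one_mem
      have h3 : R = N.comap (QuotientGroup.mk' R) := Subgroup.eq_of_le_of_card_ge h2 h1
      rw [eq_bot_iff]
      intro x hx
      obtain ⟨x', rfl⟩ := QuotientGroup.mk'_surjective R x
      have : x' ∈ R := by rw [h3]; exact hx
      rw [Subgroup.mem_bot]
      exact hRle x' this
  -- `R` is abelian
  have hRc : IsMulCommutative R := h.normal_comm R hRt
  -- the quotient is non-abelian
  have hna : ¬ IsMulCommutative (K ⧸ R) := by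
    intro hc
    apply hs
    have : Group.IsSolvable R := Group.isSolvable_of_comm (fun a b => hRc.is_comm.comm a b)
    have : Group.IsSolvable (K ⧸ R) := Group.isSolvable_of_comm (fun a b => hc.is_comm.comm a b)
    refine Group.isSolvable_of_ker_le_range R.subtype (QuotientGroup.mk' R) ?_
    rw [QuotientGroup.ker_mk', Subgroup.range_subtype]
  -- the image of `S`
  set Q : Sylow 2 (K ⧸ R) := S.mapSurjective (QuotientGroup.mk'_surjective R) with hQdef
  have hQc : IsMulCommutative Q := hind R hsimple hna Q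
  have hQmap : (Q : Subgroup (K ⧸ R)) = (S : Subgroup K).map (QuotientGroup.mk' R) := rfl
  have hQc' : ∀ a ∈ (Q : Subgroup (K ⧸ R)), ∀ b ∈ (Q : Subgroup (K ⧸ R)), a * b = b * a :=
    (comm_iff _).mp hQc
  -- `Q` is nontrivial
  have hQbot : (Q : Subgroup (K ⧸ R)) ≠ ⊥ := by
    intro hb
    apply hS
    rw [comm_iff]
    intro a ha b hb'
    have haR : a ∈ R := by
      have : QuotientGroup.mk' R a ∈ (Q : Subgroup (K ⧸ R)) := by
        rw [hQmap]; exact Subgroup.mem_map_of_mem _ ha
      rw [hb, Subgroup.mem_bot, QuotientGroup.mk'_apply, QuotientGroup.eq_one_iff] at this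
      exact this
    have hbR : b ∈ R := by
      have : QuotientGroup.mk' R b ∈ (Q : Subgroup (K ⧸ R)) := by
        rw [hQmap]; exact Subgroup.mem_map_of_mem _ hb'
      rw [hb, Subgroup.mem_bot, QuotientGroup.mk'_apply, QuotientGroup.eq_one_iff] at this
      exact this
    exact (comm_iff _).mp hRc a haR b hbR
  -- Burnside: the normalizer of `Q` is not contained in its centralizer
  have hNC : ¬ (Subgroup.normalizer ((Q : Subgroup (K ⧸ R)) : Set (K ⧸ R))
      ≤ Subgroup.centralizer ((Q : Subgroup (K ⧸ R)) : Set (K ⧸ R))) := by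
    intro hle
    have hcompl := MonoidHom.ker_transferSylow_isComplement' Q hle
    have hcard := hcompl.card_mul_card
    rcases hsimple.eq_bot_or_eq_top_of_normal _
      (MonoidHom.normal_ker (MonoidHom.transferSylow Q hle)) with hk | hk
    · -- kernel trivial: `Q = ⊤`, so the quotient is abelian
      rw [hk, Subgroup.card_bot, one_mul] at hcard
      have hQtop : (Q : Subgroup (K ⧸ R)) = ⊤ := Subgroup.card_eq_iff_eq_top _ |>.mp hcard
      apply hna
      rw [comm_iff_top]
      intro a b
      exact hQc' a (hQtop ▸ Subgroup.mem_top a) b (hQtop ▸ Subgroup.mem_top b)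
    · -- kernel everything: `Q = ⊥`
      rw [hk, Subgroup.card_top] at hcard
      have h1 : Nat.card (Q : Subgroup (K ⧸ R)) = 1 := by
        have hpos : 0 < Nat.card (K ⧸ R) := Nat.card_pos
        exact Nat.eq_of_mul_eq_mul_left hpos (by rw [hcard, mul_one])
      exact hQbot ((Subgroup.card_eq_one).mp h1)
  -- an element normalizing `Q` outside `Q`
  obtain ⟨x, hxN, hxC⟩ := SetLike.not_le_iff_exists.mp hNC
  have hxQ : x ∉ (Q : Subgroup (K ⧸ R)) := by
    intro hxQ
    apply hxC
    rw [Subgroup.mem_centralizer_iff]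
    intro y hy
    exact hQc' y hy x hxQ
  obtain ⟨x', rfl⟩ := QuotientGroup.mk'_surjective R x
  -- the preimage of `Q` is non-abelian, hence self-normalizing
  have hSE : (S : Subgroup K) ≤ (Q : Subgroup (K ⧸ R)).comap (QuotientGroup.mk' R) := by
    intro s hs'
    rw [Subgroup.mem_comap, hQmap]
    exact Subgroup.mem_map_of_mem _ hs'
  have hE : ¬ IsMulCommutative ((Q : Subgroup (K ⧸ R)).comap (QuotientGroup.mk' R)) := by
    intro hc
    apply hS
    rw [comm_iff] at hc ⊢
    intro a ha b hb
    exact hc a (hSE ha) b (hSE hb)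
  have h1 := h _ hE
  have hx' : x' ∈ Subgroup.normalizer
      (((Q : Subgroup (K ⧸ R)).comap (QuotientGroup.mk' R) : Subgroup K) : Set K) := by
    rw [Subgroup.mem_normalizer_iff]
    intro g
    rw [Subgroup.mem_normalizer_iff] at hxN
    have := hxN (QuotientGroup.mk' R g)
    simpa [Subgroup.mem_comap] using this
  rw [h1] at hx'
  exact hxQ hx'

end Cfsg.Agent.Lib.helper90.SNG
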