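import Mathlib
import Cfsg.Prelude.Def_FusionSystem
import Cfsg.Prelude.Def_FusionComponents
import Cfsg.Agent.Lib.helper87.Factor
import Cfsg.Agent.Lib.helper87.Morph1
import Cfsg.Agent.Lib.helper88.FusionBasic
import Cfsg.Agent.Lib.helper88.Solvable
import Cfsg.Agent.Lib.helper88.Residual
import Cfsg.Agent.Lib.helper89.FusionSat

/-!
Isomorphisms of fusion systems in relational form (helper90).

An isomorphism `e : R ≃* R'` between subgroups of two ambient groups puts the subgroups of `R` in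
correspondence with those of `R'` (`SubCorr`), the homomorphisms between subgroups of `R` with those
between subgroups of `R'` (`MapCorr`), and fusion systems over subgroups of `R` with fusion systems
over subgroups of `R'` (`SysCorr`).  All three relations are symmetric in `e` and `e.symm`.
-/

set_option autoImplicit false

namespace Cfsg.Agent.Lib.helper90

open Cfsg Cfsg.FusionSystem

section corr

variable {Ω : Type*} [Group Ω] {Ω' : Type*} [Group Ω'] {R : Subgroup Ω} {R' : Subgroup Ω'}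

/-- `P ≤ R` and `P' ≤ R'` correspond under `e : R ≃* R'`. -/
def SubCorr (e : R ≃* R') (P : Subgroup Ω) (P' : Subgroup Ω') : Prop :=
  P ≤ R ∧ P' ≤ R' ∧ ∀ x : R, (x : Ω) ∈ P ↔ ((e x : R') : Ω') ∈ P'

theorem SubCorr.symm {e : R ≃* R'} {P : Subgroup Ω} {P' : Subgroup Ω'} (h : SubCorr e P P') :
    SubCorr e.symm P' P := by
  refine ⟨h.2.1, h.1, fun y => ?_⟩
  have h1 := h.2.2 (e.symm y)
  rw [e.apply_symm_apply] at h1
  exact h1.symm

theorem SubCorr.of_symm {e : R ≃* R'} {P : Subgroup Ω} {P' : Subgroup Ω'}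
    (h : SubCorr e.symm P' P) : SubCorr e P P' := by
  have h1 := h.symm
  rwa [MulEquiv.symm_symm] at h1

/-- The image of `P` under `e`. -/
def imgSub (e : R ≃* R') (P : Subgroup Ω) : Subgroup Ω' :=
  ((P.subgroupOf R).map e.toMonoidHom).map R'.subtype

theorem mem_imgSub (e : R ≃* R') (P : Subgroup Ω) (y : Ω') :
    y ∈ imgSub e P ↔ ∃ x : R, (x : Ω) ∈ P ∧ ((e x : R') : Ω') = y := by
  unfold imgSub
  constructor
  · rintro ⟨_, ⟨x, hx, rfl⟩, rfl⟩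
    exact ⟨x, Subgroup.mem_subgroupOf.mp hx, rfl⟩
  · rintro ⟨x, hx, rfl⟩
    exact ⟨e x, ⟨x, Subgroup.mem_subgroupOf.mpr hx, rfl⟩, rfl⟩

theorem subCorr_imgSub (e : R ≃* R') {P : Subgroup Ω} (hP : P ≤ R) : SubCorr e P (imgSub e P) := by
  refine ⟨hP, ?_, fun x => ?_⟩
  · intro y hy
    obtain ⟨x, -, rfl⟩ := (mem_imgSub e P y).mp hy
    exact (e x).2
  · rw [mem_imgSub]
    constructor
    · intro hx
      exact ⟨x, hx, rfl⟩
    · rintro ⟨x', hx', h⟩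
      have h1 : x' = x := e.injective (Subtype.ext h)
      rw [← h1]
      exact hx'

theorem SubCorr.eq_imgSub {e : R ≃* R'} {P : Subgroup Ω} {P' : Subgroup Ω'} (h : SubCorr e P P') :
    P' = imgSub e P := by
  ext y
  rw [mem_imgSub]
  constructor
  · intro hy
    refine ⟨e.symm ⟨y, h.2.1 hy⟩, ?_, ?_⟩
    · rw [h.2.2, e.apply_symm_apply]
      exact hy
    · rw [e.apply_symm_apply]
  · rintro ⟨x, hx, rfl⟩
    exact (h.2.2 x).mp hx

theorem SubCorr.unique {e : R ≃* R'} {P : Subgroup Ω} {P₁ P₂ : Subgroup Ω'}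
    (h₁ : SubCorr e P P₁) (h₂ : SubCorr e P P₂) : P₁ = P₂ := by
  rw [h₁.eq_imgSub, h₂.eq_imgSub]

theorem SubCorr.unique_left {e : R ≃* R'} {P₁ P₂ : Subgroup Ω} {P' : Subgroup Ω'}
    (h₁ : SubCorr e P₁ P') (h₂ : SubCorr e P₂ P') : P₁ = P₂ :=
  SubCorr.unique h₁.symm h₂.symm

/-- Every subgroup of `R'` corresponds to a subgroup of `R`. -/
theorem exists_subCorr (e : R ≃* R') {P' : Subgroup Ω'} (hP' : P' ≤ R') :
    SubCorr e (imgSub e.symm P') P' :=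
  (subCorr_imgSub e.symm hP').of_symm

theorem SubCorr.mem_symm {e : R ≃* R'} {P : Subgroup Ω} {P' : Subgroup Ω'} (h : SubCorr e P P')
    (y : R') : (y : Ω') ∈ P' ↔ ((e.symm y : R) : Ω) ∈ P := h.symm.2.2 y

theorem SubCorr.le_imp {e : R ≃* R'} {P Q : Subgroup Ω} {P' Q' : Subgroup Ω'}
    (hP : SubCorr e P P') (hQ : SubCorr e Q Q') (h : P ≤ Q) : P' ≤ Q' := by
  intro y hy
  have h1 := (hP.mem_symm ⟨y, hP.2.1 hy⟩).mp hy
  exact (hQ.mem_symm ⟨y, hP.2.1 hy⟩).mpr (h h1)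

theorem SubCorr.le_iff {e : R ≃* R'} {P Q : Subgroup Ω} {P' Q' : Subgroup Ω'}
    (hP : SubCorr e P P') (hQ : SubCorr e Q Q') : P ≤ Q ↔ P' ≤ Q' :=
  ⟨hP.le_imp hQ, hP.symm.le_imp hQ.symm⟩

theorem SubCorr.sup {e : R ≃* R'} {P Q : Subgroup Ω} {P' Q' : Subgroup Ω'}
    (hP : SubCorr e P P') (hQ : SubCorr e Q Q') : SubCorr e (P ⊔ Q) (P' ⊔ Q') := by
  have h1 : imgSub e (P ⊔ Q) = imgSub e P ⊔ imgSub e Q := by
    unfold imgSub
    rw [Subgroup.subgroupOf_sup hP.1 hQ.1, Subgroup.map_sup, Subgroup.map_sup]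
  have h2 := subCorr_imgSub e (sup_le hP.1 hQ.1)
  rw [h1, ← hP.eq_imgSub, ← hQ.eq_imgSub] at h2
  exact h2

theorem subCorr_bot (e : R ≃* R') : SubCorr e ⊥ ⊥ := by
  refine ⟨bot_le, bot_le, fun x => ?_⟩
  rw [Subgroup.mem_bot, Subgroup.mem_bot]
  constructor
  · intro h
    have h1 : x = 1 := Subtype.ext h
    rw [h1, map_one]
    rfl
  · intro h
    have h1 : e x = 1 := Subtype.ext h
    have h2 : x = 1 := by
      apply e.injective
      rw [h1, map_one]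
    rw [h2]
    rfl

theorem subCorr_self (e : R ≃* R') : SubCorr e R R' :=
  ⟨le_rfl, le_rfl, fun x => ⟨fun _ => (e x).2, fun _ => x.2⟩⟩

/-- Centralizers correspond. -/
theorem SubCorr.centralizerIn {e : R ≃* R'} {S T : Subgroup Ω} {S' T' : Subgroup Ω'}
    (hS : SubCorr e S S') (hT : SubCorr e T T') :
    SubCorr e (FusionSystem.centralizerIn S T) (FusionSystem.centralizerIn S' T') := by
  refine ⟨inf_le_left.trans hS.1, inf_le_left.trans hS.2.1, fun x => ?_⟩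
  unfold FusionSystem.centralizerIn
  rw [Subgroup.mem_inf, Subgroup.mem_inf, hS.2.2 x]
  refine and_congr Iff.rfl ?_
  rw [Subgroup.mem_centralizer_iff, Subgroup.mem_centralizer_iff]
  constructor
  · intro h y hy
    have hy' := (hT.mem_symm ⟨y, hT.2.1 hy⟩).mp hy
    have h1 := h _ hy'
    have h2 : e.symm ⟨y, hT.2.1 hy⟩ * x = x * e.symm ⟨y, hT.2.1 hy⟩ := Subtype.ext h1
    have h3 := congrArg e h2
    rw [map_mul, map_mul, e.apply_symm_apply] at h3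
    exact congrArg Subtype.val h3
  · intro h t ht
    have ht' := (hT.2.2 ⟨t, hT.1 ht⟩).mp ht
    have h1 := h _ ht'
    have h2 : e ⟨t, hT.1 ht⟩ * e x = e x * e ⟨t, hT.1 ht⟩ := Subtype.ext h1
    rw [← map_mul, ← map_mul] at h2
    exact congrArg Subtype.val (e.injective h2)

/-- The isomorphism between corresponding subgroups. -/
def subEquiv {e : R ≃* R'} {P : Subgroup Ω} {P' : Subgroup Ω'} (h : SubCorr e P P') : P ≃* P' where
  toFun x := ⟨e ⟨x, h.1 x.2⟩, (h.2.2 ⟨x, h.1 x.2⟩).mp x.2⟩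
  invFun y := ⟨e.symm ⟨y, h.2.1 y.2⟩, (h.mem_symm ⟨y, h.2.1 y.2⟩).mp y.2⟩
  left_inv x := by
    apply Subtype.ext
    show ((e.symm ⟨(e ⟨x, h.1 x.2⟩ : R'), _⟩ : R) : Ω) = x
    rw [Subtype.coe_eta, e.symm_apply_apply]
  right_inv y := by
    apply Subtype.ext
    show ((e ⟨(e.symm ⟨y, h.2.1 y.2⟩ : R), _⟩ : R') : Ω') = y
    rw [Subtype.coe_eta, e.apply_symm_apply]
  map_mul' x y := by
    apply Subtype.ext
    show ((e ⟨(x * y : P), _⟩ : R') : Ω') = (e ⟨x, _⟩ : R') * (e ⟨y, _⟩ : R')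
    rw [← Subgroup.coe_mul, ← map_mul]
    rfl

theorem subEquiv_coe {e : R ≃* R'} {P : Subgroup Ω} {P' : Subgroup Ω'} (h : SubCorr e P P')
    (x : P) : ((subEquiv h x : P') : Ω') = ((e ⟨x, h.1 x.2⟩ : R') : Ω') := rfl

theorem subEquiv_symm_coe {e : R ≃* R'} {P : Subgroup Ω} {P' : Subgroup Ω'} (h : SubCorr e P P')
    (y : P') : (((subEquiv h).symm y : P) : Ω) = ((e.symm ⟨y, h.2.1 y.2⟩ : R) : Ω) := rfl

theorem subEquiv_symm_apply_mk {e : R ≃* R'} {P : Subgroup Ω} {P' : Subgroup Ω'}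
    (h : SubCorr e P P') (x : R) (hx : (x : Ω) ∈ P) (hx' : ((e x : R') : Ω') ∈ P') :
    (subEquiv h).symm ⟨e x, hx'⟩ = ⟨x, hx⟩ := by
  apply Subtype.ext
  rw [subEquiv_symm_coe]
  show ((e.symm ⟨((e x : R') : Ω'), _⟩ : R) : Ω) = x
  rw [Subtype.coe_eta, e.symm_apply_apply]

/-- Corresponding homomorphisms. -/
def MapCorr (e : R ≃* R') {P : Subgroup Ω} (φ : P →* Ω) {P' : Subgroup Ω'} (φ' : P' →* Ω') : Prop :=
  SubCorr e P P' ∧ ∀ (x : R) (hx : (x : Ω) ∈ P) (hx' : ((e x : R') : Ω') ∈ P'),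
    ∃ y : R, φ ⟨x, hx⟩ = (y : Ω) ∧ φ' ⟨e x, hx'⟩ = ((e y : R') : Ω')

theorem MapCorr.symm {e : R ≃* R'} {P : Subgroup Ω} {φ : P →* Ω} {P' : Subgroup Ω'}
    {φ' : P' →* Ω'} (h : MapCorr e φ φ') : MapCorr e.symm φ' φ := by
  refine ⟨h.1.symm, fun y hy hx => ?_⟩
  have hx' : ((e (e.symm y) : R') : Ω') ∈ P' := by rw [e.apply_symm_apply]; exact hy
  obtain ⟨z, hz1, hz2⟩ := h.2 (e.symm y) hx hx'
  refine ⟨e z, ?_, ?_⟩
  · rw [← hz2]
    congr 1
    apply Subtype.ext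
    show (y : Ω') = ((e (e.symm y) : R') : Ω')
    rw [e.apply_symm_apply]
  · rw [hz1, e.symm_apply_apply]

theorem MapCorr.of_symm {e : R ≃* R'} {P : Subgroup Ω} {φ : P →* Ω} {P' : Subgroup Ω'}
    {φ' : P' →* Ω'} (h : MapCorr e.symm φ' φ) : MapCorr e φ φ' := by
  have h1 := h.symm
  rwa [MulEquiv.symm_symm] at h1

theorem MapCorr.val_mem {e : R ≃* R'} {P : Subgroup Ω} {φ : P →* Ω} {P' : Subgroup Ω'}
    {φ' : P' →* Ω'} (h : MapCorr e φ φ') (x : P) : φ x ∈ R := by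
  obtain ⟨y, hy, -⟩ := h.2 ⟨x, h.1.1 x.2⟩ x.2 ((h.1.2.2 ⟨x, h.1.1 x.2⟩).mp x.2)
  have h1 : φ x = (y : Ω) := hy
  rw [h1]
  exact y.2

theorem MapCorr.apply {e : R ≃* R'} {P : Subgroup Ω} {φ : P →* Ω} {P' : Subgroup Ω'}
    {φ' : P' →* Ω'} (h : MapCorr e φ φ') (x : P) :
    φ' (subEquiv h.1 x) = ((e ⟨φ x, h.val_mem x⟩ : R') : Ω') := by
  obtain ⟨y, hy, hy'⟩ := h.2 ⟨x, h.1.1 x.2⟩ x.2 ((h.1.2.2 ⟨x, h.1.1 x.2⟩).mp x.2)
  have h1 : φ x = (y : Ω) := hy
  have h2 : (⟨φ x, h.val_mem x⟩ : R) = y := Subtype.ext h1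
  rw [h2]
  exact hy'

/-- A homomorphism with values in `R` transported to a corresponding source. -/
def pushMap {e : R ≃* R'} {P : Subgroup Ω} {P' : Subgroup Ω'} (h : SubCorr e P P') (φ : P →* Ω)
    (hφ : ∀ x : P, φ x ∈ R) : P' →* Ω' :=
  (R'.subtype.comp e.toMonoidHom).comp ((φ.codRestrict R hφ).comp (subEquiv h).symm.toMonoidHom)

theorem pushMap_corr {e : R ≃* R'} {P : Subgroup Ω} {P' : Subgroup Ω'} (h : SubCorr e P P')
    (φ : P →* Ω) (hφ : ∀ x : P, φ x ∈ R) : MapCorr e φ (pushMap h φ hφ) := by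
  refine ⟨h, fun x hx hx' => ⟨⟨φ ⟨x, hx⟩, hφ _⟩, rfl, ?_⟩⟩
  show ((e (φ.codRestrict R hφ ((subEquiv h).symm ⟨e x, hx'⟩)) : R') : Ω') = _
  rw [subEquiv_symm_apply_mk h x hx hx']
  rfl

/-- Every homomorphism between subgroups of `R'` corresponds to one between subgroups of `R`. -/
theorem exists_mapCorr (e : R ≃* R') {P' : Subgroup Ω'} (φ' : P' →* Ω')
    (hφ' : ∀ y : P', φ' y ∈ R') {P : Subgroup Ω} (h : SubCorr e P P') :
    ∃ φ : P →* Ω, MapCorr e φ φ' :=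
  ⟨pushMap h.symm φ' hφ', (pushMap_corr h.symm φ' hφ').of_symm⟩

theorem MapCorr.unique {e : R ≃* R'} {P : Subgroup Ω} {φ : P →* Ω} {P' : Subgroup Ω'}
    {φ₁ φ₂ : P' →* Ω'} (h₁ : MapCorr e φ φ₁) (h₂ : MapCorr e φ φ₂) : φ₁ = φ₂ := by
  ext y
  have h3 := h₁.apply ((subEquiv h₁.1).symm y)
  have h4 := h₂.apply ((subEquiv h₁.1).symm y)
  have h5 : subEquiv h₂.1 ((subEquiv h₁.1).symm y) = y := (subEquiv h₁.1).apply_symm_apply y
  rw [(subEquiv h₁.1).apply_symm_apply] at h3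
  rw [h5] at h4
  rw [h3, h4]

theorem MapCorr.unique_left {e : R ≃* R'} {P : Subgroup Ω} {φ₁ φ₂ : P →* Ω} {P' : Subgroup Ω'}
    {φ' : P' →* Ω'} (h₁ : MapCorr e φ₁ φ') (h₂ : MapCorr e φ₂ φ') : φ₁ = φ₂ :=
  MapCorr.unique h₁.symm h₂.symm

/-- Corresponding fusion systems. -/
def SysCorr (e : R ≃* R') {T : Subgroup Ω} (X : FusionSystem T) {T' : Subgroup Ω'}
    (X' : FusionSystem T') : Prop :=
  SubCorr e T T' ∧
    (∀ (P : Subgroup Ω) (φ : P →* Ω), φ ∈ X.Hom P → ∀ (P' : Subgroup Ω') (φ' : P' →* Ω'),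
      MapCorr e φ φ' → φ' ∈ X'.Hom P') ∧
    (∀ (P' : Subgroup Ω') (φ' : P' →* Ω'), φ' ∈ X'.Hom P' → ∀ (P : Subgroup Ω) (φ : P →* Ω),
      MapCorr e φ φ' → φ ∈ X.Hom P)

theorem SysCorr.symm {e : R ≃* R'} {T : Subgroup Ω} {X : FusionSystem T} {T' : Subgroup Ω'}
    {X' : FusionSystem T'} (h : SysCorr e X X') : SysCorr e.symm X' X :=
  ⟨h.1.symm, fun P' φ' hφ' P φ hc => h.2.2 P' φ' hφ' P φ hc.of_symm,
    fun P φ hφ P' φ' hc => h.2.1 P φ hφ P' φ' hc.of_symm⟩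

theorem SysCorr.push {e : R ≃* R'} {T : Subgroup Ω} {X : FusionSystem T} {T' : Subgroup Ω'}
    {X' : FusionSystem T'} (h : SysCorr e X X') {P : Subgroup Ω} {φ : P →* Ω} (hφ : φ ∈ X.Hom P)
    {P' : Subgroup Ω'} {φ' : P' →* Ω'} (hc : MapCorr e φ φ') : φ' ∈ X'.Hom P' :=
  h.2.1 P φ hφ P' φ' hc

theorem SysCorr.pull {e : R ≃* R'} {T : Subgroup Ω} {X : FusionSystem T} {T' : Subgroup Ω'}
    {X' : FusionSystem T'} (h : SysCorr e X X') {P' : Subgroup Ω'} {φ' : P' →* Ω'}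
    (hφ' : φ' ∈ X'.Hom P') {P : Subgroup Ω} {φ : P →* Ω} (hc : MapCorr e φ φ') : φ ∈ X.Hom P :=
  h.2.2 P' φ' hφ' P φ hc

/-- A map of `X'` comes from a map of `X`. -/
theorem SysCorr.exists_pull {e : R ≃* R'} {T : Subgroup Ω} {X : FusionSystem T} {T' : Subgroup Ω'}
    {X' : FusionSystem T'} (h : SysCorr e X X') {P' : Subgroup Ω'} {φ' : P' →* Ω'}
    (hφ' : φ' ∈ X'.Hom P') :
    ∃ (P : Subgroup Ω) (φ : P →* Ω), φ ∈ X.Hom P ∧ MapCorr e φ φ' := by
  have hP' : P' ≤ R' := (X'.le_of_mem hφ').1.trans h.1.2.1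
  have hval : ∀ y : P', φ' y ∈ R' := fun y => h.1.2.1 ((X'.le_of_mem hφ').2 y)
  obtain ⟨φ, hc⟩ := exists_mapCorr e φ' hval (exists_subCorr e hP')
  exact ⟨_, φ, h.pull hφ' hc, hc⟩

/-- Two systems corresponding to the same system have the same maps. -/
theorem SysCorr.hom_eq {e : R ≃* R'} {T : Subgroup Ω} {X : FusionSystem T} {T₁ T₂ : Subgroup Ω'}
    {X₁ : FusionSystem T₁} {X₂ : FusionSystem T₂} (h₁ : SysCorr e X X₁) (h₂ : SysCorr e X X₂)
    (P' : Subgroup Ω') : X₁.Hom P' = X₂.Hom P' := by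
  ext φ'
  constructor
  · intro hφ'
    obtain ⟨P, φ, hφ, hc⟩ := h₁.exists_pull hφ'
    exact h₂.push hφ hc
  · intro hφ'
    obtain ⟨P, φ, hφ, hc⟩ := h₂.exists_pull hφ'
    exact h₁.push hφ hc

/-- The automorphism groups of corresponding subgroups correspond. -/
theorem SysCorr.mem_autGroup_iff {e : R ≃* R'} {T : Subgroup Ω} {X : FusionSystem T}
    {T' : Subgroup Ω'} {X' : FusionSystem T'} (hX : SysCorr e X X') {Q : Subgroup Ω}
    {Q' : Subgroup Ω'} (h : SubCorr e Q Q') (hQT : Q ≤ T) (β : MulAut Q) :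
    β ∈ X.autGroup Q ↔ MulAut.congr (subEquiv h) β ∈ X'.autGroup Q' := by
  have hQ'T' : Q' ≤ T' := h.le_imp hX.1 hQT
  rw [Cfsg.Agent.Lib.helper89.mem_autGroup_iff X hQT,
    Cfsg.Agent.Lib.helper89.mem_autGroup_iff X' hQ'T']
  have hmc : MapCorr e (Q.subtype.comp β.toMonoidHom)
      (Q'.subtype.comp (MulAut.congr (subEquiv h) β).toMonoidHom) := by
    refine ⟨h, fun x hx hx' => ⟨⟨β ⟨x, hx⟩, h.1 (β ⟨x, hx⟩).2⟩, rfl, ?_⟩⟩
    show ((subEquiv h (β ((subEquiv h).symm ⟨e x, hx'⟩)) : Q') : Ω') = _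
    rw [subEquiv_symm_apply_mk h x hx hx']
    rfl
  exact ⟨fun hb => hX.push hb hmc, fun hb => hX.pull hb hmc⟩

theorem autCongr_apply {e : R ≃* R'} {Q : Subgroup Ω} {Q' : Subgroup Ω'} (h : SubCorr e Q Q')
    (β : MulAut Q) (x : Q) : MulAut.congr (subEquiv h) β (subEquiv h x) = subEquiv h (β x) := by
  show subEquiv h (β ((subEquiv h).symm (subEquiv h x))) = _
  rw [(subEquiv h).symm_apply_apply]

/-! ### Bridges to factor systems modulo the trivial subgroup -/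

/-- The homomorphism `T →* Ω'` given by `e` on a subgroup `T ≤ R`. -/
def resHom (e : R ≃* R') {T : Subgroup Ω} (hTR : T ≤ R) : T →* Ω' :=
  (R'.subtype.comp e.toMonoidHom).comp (Subgroup.inclusion hTR)

theorem resHom_apply (e : R ≃* R') {T : Subgroup Ω} (hTR : T ≤ R) (x : T) :
    resHom e hTR x = ((e ⟨x, hTR x.2⟩ : R') : Ω') := rfl

theorem resHom_eq_one_iff (e : R ≃* R') {T : Subgroup Ω} (hTR : T ≤ R) (s : T) :
    resHom e hTR s = 1 ↔ (s : Ω) ∈ (⊥ : Subgroup Ω) := by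
  rw [Subgroup.mem_bot, resHom_apply]
  constructor
  · intro h1
    have h2 : e ⟨s, hTR s.2⟩ = 1 := Subtype.ext h1
    have h3 : (⟨s, hTR s.2⟩ : R) = 1 := by
      apply e.injective
      rw [h2, map_one]
    exact congrArg Subtype.val h3
  · intro h1
    have h3 : (⟨s, hTR s.2⟩ : R) = 1 := Subtype.ext h1
    rw [h3, map_one]
    rfl

theorem resHom_range {e : R ≃* R'} {T : Subgroup Ω} {T' : Subgroup Ω'} (hT : SubCorr e T T') :
    (resHom e hT.1).range = T' := by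
  ext y
  constructor
  · rintro ⟨s, rfl⟩
    exact (hT.2.2 ⟨s, hT.1 s.2⟩).mp s.2
  · intro hy
    have h1 := (hT.mem_symm ⟨y, hT.2.1 hy⟩).mp hy
    refine ⟨⟨e.symm ⟨y, hT.2.1 hy⟩, h1⟩, ?_⟩
    rw [resHom_apply]
    show ((e ⟨((e.symm ⟨y, _⟩ : R) : Ω), _⟩ : R') : Ω') = y
    rw [Subtype.coe_eta, e.apply_symm_apply]

theorem subCorr_preimageAlong {e : R ≃* R'} {T : Subgroup Ω} {T' : Subgroup Ω'}
    (hT : SubCorr e T T') {P' : Subgroup Ω'} (hP' : P' ≤ T') :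
    SubCorr e (preimageAlong (resHom e hT.1) P') P' := by
  refine ⟨(Cfsg.Agent.Lib.helper87.preimageAlong_le _ _).trans hT.1, hP'.trans hT.2.1, fun x => ?_⟩
  rw [Cfsg.Agent.Lib.helper87.mem_preimageAlong]
  constructor
  · rintro ⟨h, hx⟩
    exact hx
  · intro hx
    exact ⟨(hT.2.2 x).mpr (hP' hx), hx⟩

theorem SysCorr.isFactorSystem {e : R ≃* R'} {T : Subgroup Ω} {X : FusionSystem T}
    {T' : Subgroup Ω'} {X' : FusionSystem T'} (h : SysCorr e X X') :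
    X.IsFactorSystem ⊥ (resHom e h.1.1) X' := by
  have hT := h.1
  refine ⟨bot_le, fun s => resHom_eq_one_iff e hT.1 s, resHom_range hT, fun P' φ' => ?_⟩
  constructor
  · intro hφ'
    have hP' : P' ≤ T' := (X'.le_of_mem hφ').1
    refine ⟨hP', ?_⟩
    have hc := subCorr_preimageAlong hT hP'
    obtain ⟨φ, hmc⟩ := exists_mapCorr e φ' (fun y => hT.2.1 ((X'.le_of_mem hφ').2 y)) hc
    have hφ := h.pull hφ' hmc
    refine ⟨φ, hφ, (X.le_of_mem hφ).1, (X.le_of_mem hφ).2, fun x => ?_, fun x => ?_⟩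
    · exact (hc.2.2 ⟨x, hc.1 x.2⟩).mp x.2
    · exact hmc.apply x
  · rintro ⟨hP', φ, hφ, hP, hφT, hP'', hind⟩
    have hc := subCorr_preimageAlong hT hP'
    refine h.push hφ ⟨hc, fun x hx hx' => ⟨⟨φ ⟨x, hx⟩, hT.1 (hφT _)⟩, rfl, ?_⟩⟩
    exact hind ⟨x, hx⟩

theorem sysCorr_of_isFactorSystem (e : R ≃* R') {T : Subgroup Ω} (hTR : T ≤ R)
    {X : FusionSystem T} {T' : Subgroup Ω'} {X' : FusionSystem T'}
    (h : X.IsFactorSystem ⊥ (resHom e hTR) X') : SysCorr e X X' := by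
  obtain ⟨-, hker, hrange, hiff⟩ := h
  have hT : SubCorr e T T' := by
    refine ⟨hTR, ?_, fun x => ?_⟩
    · rw [← hrange]
      rintro _ ⟨s, rfl⟩
      exact (e _).2
    · rw [← hrange]
      constructor
      · intro hx
        exact ⟨⟨x, hx⟩, rfl⟩
      · rintro ⟨s, hs⟩
        have h1 : e ⟨s, hTR s.2⟩ = e x := Subtype.ext hs
        have h2 := e.injective h1
        rw [← h2]
        exact s.2
  have hpre : ∀ (P : Subgroup Ω) (P' : Subgroup Ω'), SubCorr e P P' → P ≤ T →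
      P = preimageAlong (resHom e hTR) P' := by
    intro P P' hc hPT
    have hP'T' : P' ≤ T' := hc.le_imp hT hPT
    exact SubCorr.unique_left hc (subCorr_preimageAlong hT hP'T')
  refine ⟨hT, ?_, ?_⟩
  · intro P φ hφ P' φ' hmc
    have hPT := (X.le_of_mem hφ).1
    have hP := hpre P P' hmc.1 hPT
    subst hP
    rw [hiff]
    exact ⟨hmc.1.le_imp hT hPT, φ, hφ, hPT, (X.le_of_mem hφ).2,
      fun x => (hmc.1.2.2 ⟨x, hmc.1.1 x.2⟩).mp x.2, fun x => hmc.apply x⟩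
  · intro P' φ' hφ' P φ hmc
    obtain ⟨hP', φ₀, hφ₀, hP₀, hφ₀T, hP'', hind⟩ := (hiff P' φ').mp hφ'
    have hPT : P ≤ T := hmc.1.symm.le_imp hT.symm hP'
    have hP := hpre P P' hmc.1 hPT
    subst hP
    have h5 : φ = φ₀ := by
      ext x
      have h1 := hmc.apply x
      have h2 := hind x
      have h3 : ((e ⟨φ x, hmc.val_mem x⟩ : R') : Ω') = ((e ⟨φ₀ x, hTR (hφ₀T x)⟩ : R') : Ω') :=
        h1.symm.trans h2
      have h4 := e.injective (Subtype.ext h3)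
      exact congrArg Subtype.val h4
    rw [h5]
    exact hφ₀

theorem SubCorr.finite {e : R ≃* R'} {T : Subgroup Ω} {T' : Subgroup Ω'} (h : SubCorr e T T')
    [Finite T] : Finite T' := Finite.of_equiv T (subEquiv h).toEquiv

theorem SubCorr.isPGroup {e : R ≃* R'} {T : Subgroup Ω} {T' : Subgroup Ω'} (h : SubCorr e T T')
    {p : ℕ} (hT : IsPGroup p T) : IsPGroup p T' := hT.of_equiv (subEquiv h)

theorem SysCorr.isSaturated {p : ℕ} [Fact p.Prime] {e : R ≃* R'} {T : Subgroup Ω}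
    {X : FusionSystem T} {T' : Subgroup Ω'} {X' : FusionSystem T'} (h : SysCorr e X X') [Finite T]
    (hT : IsPGroup p T) (hX : X.IsSaturated p) : X'.IsSaturated p :=
  Cfsg.Agent.Lib.helper88.factorSystem_saturated hT X hX
    (Cfsg.Agent.Lib.helper88.stronglyClosed_bot X) _ X' h.isFactorSystem

/-- Every fusion system over a finite subgroup of `R` has a corresponding system. -/
theorem exists_sysCorr (e : R ≃* R') {T : Subgroup Ω} [Finite T] (hTR : T ≤ R)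
    (X : FusionSystem T) : ∃ X' : FusionSystem (imgSub e T), SysCorr e X X' := by
  have hT := subCorr_imgSub e hTR
  obtain ⟨X', hX'⟩ := Cfsg.Agent.Lib.helper87.exists_factorSystem X ⊥
    (Cfsg.Agent.Lib.helper88.stronglyClosed_bot X) (resHom e hTR)
    (fun s => resHom_eq_one_iff e hTR s) (imgSub e T) (resHom_range hT)
  exact ⟨X', sysCorr_of_isFactorSystem e hTR hX'⟩

theorem SysCorr.stronglyClosed {e : R ≃* R'} {S : Subgroup Ω} {F : FusionSystem S}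
    {S' : Subgroup Ω'} {F' : FusionSystem S'} (h : SysCorr e F F') {T : Subgroup Ω}
    {T' : Subgroup Ω'} (hT : SubCorr e T T') (hsc : F.StronglyClosed T) :
    F'.StronglyClosed T' := by
  refine ⟨hT.le_imp h.1 hsc.1, fun P' hP' φ' hφ' x' => ?_⟩
  obtain ⟨P, φ, hφ, hmc⟩ := h.exists_pull hφ'
  have hPT : P ≤ T := hmc.1.symm.le_imp hT.symm hP'
  have hx := hsc.2 P hPT φ hφ ((subEquiv hmc.1).symm x')
  have h1 := hmc.apply ((subEquiv hmc.1).symm x')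
  rw [(subEquiv hmc.1).apply_symm_apply] at h1
  rw [h1]
  exact (hT.2.2 _).mp hx

theorem SysCorr.isSubsystemOf {e : R ≃* R'} {S : Subgroup Ω} {F : FusionSystem S}
    {S' : Subgroup Ω'} {F' : FusionSystem S'} (h : SysCorr e F F') {T : Subgroup Ω}
    {E : FusionSystem T} {T' : Subgroup Ω'} {E' : FusionSystem T'} (hE : SysCorr e E E')
    (hsub : E.IsSubsystemOf F) : E'.IsSubsystemOf F' := by
  intro P' φ' hφ'
  obtain ⟨P, φ, hφ, hmc⟩ := hE.exists_pull hφ'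
  exact h.push (hsub P hφ) hmc

/-- A morphism given by a group isomorphism carries maps to corresponding maps. -/
theorem mem_of_isMorphism_of_mapCorr {S : Subgroup Ω} {S' : Subgroup Ω'} (e : S ≃* S')
    {F : FusionSystem S} {F' : FusionSystem S'}
    (hmor : F.IsMorphism F' (S'.subtype.comp e.toMonoidHom)) {P : Subgroup Ω} {φ : P →* Ω}
    (hφ : φ ∈ F.Hom P) {P' : Subgroup Ω'} {φ' : P' →* Ω'} (hc : MapCorr e φ φ') :
    φ' ∈ F'.Hom P' := by
  obtain ⟨φ₁, hφ₁, hP, hφS, hP₁, hind⟩ := hmor.2 P φ hφ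
  have h1 : P' = imageAlong (S'.subtype.comp e.toMonoidHom) P := by
    rw [hc.1.eq_imgSub]
    unfold imgSub imageAlong
    rw [Subgroup.map_map]
  subst h1
  have h5 : φ' = φ₁ := by
    ext y
    have h2 := hc.apply ((subEquiv hc.1).symm y)
    rw [(subEquiv hc.1).apply_symm_apply] at h2
    have h3 := hind ((subEquiv hc.1).symm y)
    rw [h2]
    refine Eq.trans ?_ (h3.symm.trans ?_)
    · rfl
    · congr 1
      apply Subtype.ext
      show ((e ⟨(((subEquiv hc.1).symm y : P) : Ω), _⟩ : S') : Ω') = y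
      have h4 := congrArg Subtype.val ((subEquiv hc.1).apply_symm_apply y)
      rw [subEquiv_coe] at h4
      exact h4
  rw [h5]
  exact hφ₁

end corr

end Cfsg.Agent.Lib.helper90
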