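import Mathlib
import Cfsg.Prelude.Def_FusionSystem
import Cfsg.Prelude.Def_FusionComponents
import Cfsg.Agent.Lib.helper90.FusIsoA

/-!
Normal and subnormal subsystems are carried to normal and subnormal subsystems by isomorphisms of
fusion systems (helper90).
-/

set_option autoImplicit false

namespace Cfsg.Agent.Lib.helper90

open Cfsg Cfsg.FusionSystem

section normal

variable {Ω : Type*} [Group Ω] {Ω' : Type*} [Group Ω'] {R : Subgroup Ω} {R' : Subgroup Ω'}

theorem autCongr_coe_of_eq {e : R ≃* R'} {T : Subgroup Ω} {T' : Subgroup Ω'} (hTc : SubCorr e T T')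
    (α : MulAut T) (t' : T') (t : T) (h : t' = subEquiv hTc t) :
    ((MulAut.congr (subEquiv hTc) α t' : T') : Ω') = ((e ⟨α t, hTc.1 (α t).2⟩ : R') : Ω') := by
  subst h
  rw [autCongr_apply]
  rfl

theorem exists_autCongr_eq {e : R ≃* R'} {T : Subgroup Ω} {T' : Subgroup Ω'} (hTc : SubCorr e T T')
    (α' : MulAut T') : ∃ α : MulAut T, MulAut.congr (subEquiv hTc) α = α' :=
  ⟨(MulAut.congr (subEquiv hTc)).symm α', MulEquiv.apply_symm_apply _ _⟩

theorem exists_subEquiv_eq {e : R ≃* R'} {P : Subgroup Ω} {P' : Subgroup Ω'} (hPc : SubCorr e P P')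
    (x' : P') : ∃ x : P, subEquiv hPc x = x' :=
  ⟨_, (subEquiv hPc).apply_symm_apply x'⟩

/-- The image of a subgroup of `T` under an automorphism of `T` corresponds to the image of the
corresponding subgroup under the corresponding automorphism. -/
theorem subCorr_map_aut {e : R ≃* R'} {T : Subgroup Ω} {T' : Subgroup Ω'} (hTc : SubCorr e T T')
    {P : Subgroup Ω} {P' : Subgroup Ω'} (hPc : SubCorr e P P') (α : MulAut T) :
    SubCorr e ((P.subgroupOf T).map (T.subtype.comp α.toMonoidHom))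
      ((P'.subgroupOf T').map (T'.subtype.comp (MulAut.congr (subEquiv hTc) α).toMonoidHom)) := by
  refine ⟨?_, ?_, fun x => ?_⟩
  · rintro _ ⟨t, -, rfl⟩
    exact hTc.1 (α t).2
  · rintro _ ⟨t', -, rfl⟩
    exact hTc.2.1 (MulAut.congr (subEquiv hTc) α t').2
  · constructor
    · rintro ⟨t, ht, htx⟩
      have ht0 : (t : Ω) ∈ P := Subgroup.mem_subgroupOf.mp ht
      refine ⟨subEquiv hTc t, Subgroup.mem_subgroupOf.mpr ?_, ?_⟩
      · rw [subEquiv_coe]
        exact (hPc.2.2 ⟨t, hTc.1 t.2⟩).mp ht0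
      · show ((MulAut.congr (subEquiv hTc) α (subEquiv hTc t) : T') : Ω') = e x
        rw [autCongr_apply, subEquiv_coe]
        have h1 : (⟨α t, hTc.1 (α t).2⟩ : R) = x := Subtype.ext htx
        rw [h1]
    · rintro ⟨t', ht', htx⟩
      have ht0' : (t' : Ω') ∈ P' := Subgroup.mem_subgroupOf.mp ht'
      refine ⟨(subEquiv hTc).symm t', Subgroup.mem_subgroupOf.mpr ?_, ?_⟩
      · rw [subEquiv_symm_coe]
        exact (hPc.mem_symm ⟨t', hTc.2.1 t'.2⟩).mp ht0'
      · have h1 := autCongr_apply hTc α ((subEquiv hTc).symm t')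
        rw [(subEquiv hTc).apply_symm_apply] at h1
        have h2 : ((subEquiv hTc (α ((subEquiv hTc).symm t')) : T') : Ω') = e x := by
          rw [← h1]
          exact htx
        rw [subEquiv_coe] at h2
        have h3 := e.injective (Subtype.ext h2)
        exact congrArg Subtype.val h3

/-- **Normal subsystems correspond to normal subsystems.** -/
theorem SysCorr.isNormalIn {p : ℕ} [Fact p.Prime] {e : R ≃* R'} {S : Subgroup Ω}
    {F : FusionSystem S} {S' : Subgroup Ω'} {F' : FusionSystem S'} (hF : SysCorr e F F')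
    {T : Subgroup Ω} {E : FusionSystem T} {T' : Subgroup Ω'} {E' : FusionSystem T'}
    (hE : SysCorr e E E') [Finite S] (hS : IsPGroup p S) (hn : E.IsNormalIn F p) :
    E'.IsNormalIn F' p := by
  obtain ⟨⟨hEsat, hFsat, hsub, hsc, hinv, hfr⟩, hext⟩ := hn
  have hSc := hF.1
  have hTc := hE.1
  have hTS : T ≤ S := hsc.1
  have hfinT : Finite T :=
    Finite.of_injective (Subgroup.inclusion hTS) (Subgroup.inclusion_injective hTS)
  have hT : IsPGroup p T := hS.to_le hTS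
  refine ⟨⟨hE.isSaturated hT hEsat, hF.isSaturated hS hFsat, hF.isSubsystemOf hE hsub,
    hF.stronglyClosed hTc hsc, ?_, ?_⟩, ?_⟩
  · -- invariance
    intro P' hP'T' φ' hφ' α' hα'
    obtain ⟨P, φ, hφ, hmc⟩ := hE.exists_pull hφ'
    have hPc := hmc.1
    have hPT : P ≤ T := hPc.symm.le_imp hTc.symm hP'T'
    obtain ⟨α, rfl⟩ := exists_autCongr_eq hTc α'
    have hα : α ∈ F.autGroup T := (hF.mem_autGroup_iff hTc hTS α).mpr hα'
    obtain ⟨χ, hχ, hχeq⟩ := hinv P hPT φ hφ α hα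
    have hQc := subCorr_map_aut hTc hPc α
    have hχR : ∀ y, χ y ∈ R := fun y => hTc.1 ((E.le_of_mem hχ).2 y)
    have hχc := pushMap_corr hQc χ hχR
    refine ⟨pushMap hQc χ hχR, hE.push hχ hχc, ?_⟩
    intro x' hφx' hαx'
    obtain ⟨x, rfl⟩ := exists_subEquiv_eq hPc x'
    have hmem : ((α ⟨x, hPT x.2⟩ : T) : Ω) ∈
        (P.subgroupOf T).map (T.subtype.comp α.toMonoidHom) :=
      ⟨⟨x, hPT x.2⟩, Subgroup.mem_subgroupOf.mpr x.2, rfl⟩
    have hφxT : φ x ∈ T := (E.le_of_mem hφ).2 x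
    have e1 : (⟨((MulAut.congr (subEquiv hTc) α
        ⟨((subEquiv hPc x : P') : Ω'), hP'T' (subEquiv hPc x).2⟩ : T') : Ω'), hαx'⟩ :
        ↥((P'.subgroupOf T').map (T'.subtype.comp (MulAut.congr (subEquiv hTc) α).toMonoidHom))) =
        subEquiv hQc ⟨α ⟨x, hPT x.2⟩, hmem⟩ := by
      apply Subtype.ext
      exact autCongr_coe_of_eq hTc α _ ⟨x, hPT x.2⟩ (Subtype.ext rfl)
    rw [e1, hχc.apply, autCongr_coe_of_eq hTc α _ ⟨φ x, hφxT⟩ (Subtype.ext (hmc.apply x))]
    have h9 : (⟨χ ⟨α ⟨x, hPT x.2⟩, hmem⟩, hχc.val_mem _⟩ : R) =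
        ⟨α ⟨φ x, hφxT⟩, hTc.1 (α ⟨φ x, hφxT⟩).2⟩ := Subtype.ext (hχeq x hφxT hmem)
    rw [h9]
  · -- Frattini
    intro P' hP'T' φ' hφ'
    obtain ⟨P, φ, hφ, hmc⟩ := hF.exists_pull hφ'
    have hPc := hmc.1
    have hPT : P ≤ T := hPc.symm.le_imp hTc.symm hP'T'
    obtain ⟨α, hα, φ₀, hφ₀, heq⟩ := hfr P hPT φ hφ
    have hφ₀R : ∀ y : P, φ₀ y ∈ R := fun y => hTc.1 ((E.le_of_mem hφ₀).2 y)
    have hc₀ := pushMap_corr hPc φ₀ hφ₀R
    refine ⟨MulAut.congr (subEquiv hTc) α, (hF.mem_autGroup_iff hTc hTS α).mp hα,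
      pushMap hPc φ₀ hφ₀R, hE.push hφ₀ hc₀, ?_⟩
    intro x' hx'
    obtain ⟨x, rfl⟩ := exists_subEquiv_eq hPc x'
    have hφ₀T : φ₀ x ∈ T := (E.le_of_mem hφ₀).2 x
    rw [hmc.apply x, autCongr_coe_of_eq hTc α _ ⟨φ₀ x, hφ₀T⟩ (Subtype.ext (hc₀.apply x))]
    have h9 : (⟨φ x, hmc.val_mem x⟩ : R) = ⟨α ⟨φ₀ x, hφ₀T⟩, hTc.1 (α ⟨φ₀ x, hφ₀T⟩).2⟩ :=
      Subtype.ext (heq x hφ₀T)
    rw [h9]
  · -- extension condition
    intro α' hα'
    obtain ⟨α, rfl⟩ := exists_autCongr_eq hTc α'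
    have hα : α ∈ E.autGroup T := (hE.mem_autGroup_iff hTc le_rfl α).mpr hα'
    obtain ⟨β, hβ, hβ1, hβ2⟩ := hext α hα
    have hCc := SubCorr.centralizerIn hSc hTc
    have hWc := hTc.sup hCc
    have hWS : T ⊔ centralizerIn S T ≤ S := sup_le hTS inf_le_left
    refine ⟨MulAut.congr (subEquiv hWc) β, (hF.mem_autGroup_iff hWc hWS β).mp hβ, ?_, ?_⟩
    · intro x'
      obtain ⟨x, rfl⟩ := exists_subEquiv_eq hTc x'
      have h1 : Subgroup.inclusion le_sup_left (subEquiv hTc x) =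
          subEquiv hWc (Subgroup.inclusion le_sup_left x) := Subtype.ext rfl
      rw [h1, autCongr_apply, autCongr_apply, subEquiv_coe, subEquiv_coe]
      have h2 : (⟨β (Subgroup.inclusion le_sup_left x),
          hWc.1 (β (Subgroup.inclusion le_sup_left x)).2⟩ : R) = ⟨α x, hTc.1 (α x).2⟩ :=
        Subtype.ext (hβ1 x)
      rw [h2]
    · intro c' hc'
      obtain ⟨c, rfl⟩ := exists_subEquiv_eq hWc c'
      have hc : (c : Ω) ∈ centralizerIn S T := (hCc.2.2 ⟨c, hWc.1 c.2⟩).mpr hc'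
      have h3 := hβ2 c hc
      have hZc : SubCorr e (T ⊓ Subgroup.centralizer (T : Set Ω))
          (T' ⊓ Subgroup.centralizer (T' : Set Ω')) := SubCorr.centralizerIn hTc hTc
      rw [autCongr_apply]
      have h4 := (hZc.2.2 ⟨(c : Ω)⁻¹ * β c, hZc.1 h3⟩).mp h3
      have h5 : ((subEquiv hWc c : _) : Ω')⁻¹ * ((subEquiv hWc (β c) : _) : Ω') =
          ((e ⟨(c : Ω)⁻¹ * β c, hZc.1 h3⟩ : R') : Ω') := by
        rw [subEquiv_coe, subEquiv_coe, ← Subgroup.coe_inv, ← Subgroup.coe_mul, ← map_inv,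
          ← map_mul]
        rfl
      rw [h5]
      exact h4

/-- **Subnormal subsystems correspond to subnormal subsystems.** -/
theorem isSubnormalIn_of_sysCorr {p : ℕ} {e : R ≃* R'} {T S : Subgroup Ω} {X : FusionSystem T}
    {F : FusionSystem S} (h : X.IsSubnormalIn F p) :
    ∀ [Fact p.Prime] [Finite S], IsPGroup p S → ∀ {T' S' : Subgroup Ω'} (X' : FusionSystem T')
      (F' : FusionSystem S'), SysCorr e X X' → SysCorr e F F' → X'.IsSubnormalIn F' p := by
  induction h with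
  | refl F p =>
    intro _ _ hS T' S' X' F' hX hF
    exact Cfsg.Agent.Lib.helper88.transport F' X' (hF.hom_eq hX)
      (fun U Y => Y.IsSubnormalIn F' p) (IsSubnormalIn.refl F' p)
  | step hED hDF ih =>
    intro _ _ hS T' S' X' F' hX hF
    have hUS := hDF.1.2.2.2.1.1
    haveI := Finite.of_injective (Subgroup.inclusion hUS) (Subgroup.inclusion_injective hUS)
    obtain ⟨D', hD'⟩ := exists_sysCorr e (hUS.trans hF.1.1) _
    exact IsSubnormalIn.step (ih (hS.to_le hUS) X' D' hX hD') (hF.isNormalIn hD' hS hDF)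

theorem SysCorr.isSubnormalIn {p : ℕ} [Fact p.Prime] {e : R ≃* R'} {S : Subgroup Ω}
    {F : FusionSystem S} {S' : Subgroup Ω'} {F' : FusionSystem S'} (hF : SysCorr e F F')
    {T : Subgroup Ω} {X : FusionSystem T} {T' : Subgroup Ω'} {X' : FusionSystem T'}
    (hX : SysCorr e X X') [Finite S] (hS : IsPGroup p S) (hn : X.IsSubnormalIn F p) :
    X'.IsSubnormalIn F' p :=
  isSubnormalIn_of_sysCorr hn hS X' F' hX hF

/-- The base group of a subnormal subsystem lies in the base group. -/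
theorem le_of_isSubnormalIn {p : ℕ} {T S : Subgroup Ω} {X : FusionSystem T}
    {F : FusionSystem S} (h : X.IsSubnormalIn F p) : T ≤ S := by
  induction h with
  | refl F p => exact le_rfl
  | step hED hDF ih => exact ih.trans hDF.1.2.2.2.1.1

end normal

end Cfsg.Agent.Lib.helper90
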