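import Mathlib
import Cfsg.Prelude.Def_FusionSystem
import Cfsg.Prelude.Def_FusionComponents
import Cfsg.Agent.Lib.helper90.FusIsoA
import Cfsg.Agent.Lib.helper88.AbelianSimple
import Cfsg.Agent.Lib.helper90.FusIsoB

/-!
Hyperfocal subgroups, centres, simple and quasisimple systems and components are carried along
isomorphisms of fusion systems (helper90).
-/

set_option autoImplicit false

namespace Cfsg.Agent.Lib.helper90

open Cfsg Cfsg.FusionSystem

section invariants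

variable {Ω : Type*} [Group Ω] {Ω' : Type*} [Group Ω'] {R : Subgroup Ω} {R' : Subgroup Ω'}

theorem SysCorr.of_symm {e : R ≃* R'} {T : Subgroup Ω} {X : FusionSystem T} {T' : Subgroup Ω'}
    {X' : FusionSystem T'} (h : SysCorr e.symm X' X) : SysCorr e X X' :=
  ⟨h.1.of_symm, fun P φ hφ P' φ' hc => h.2.2 P φ hφ P' φ' hc.symm,
    fun P' φ' hφ' P φ hc => h.2.1 P' φ' hφ' P φ hc.symm⟩

/-- Corresponding systems of systems with the same maps have the same maps. -/
theorem SysCorr.hom_eq_of_hom_eq {e : R ≃* R'} {T₁ T₂ : Subgroup Ω} {X₁ : FusionSystem T₁}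
    {X₂ : FusionSystem T₂} {T₁' T₂' : Subgroup Ω'} {X₁' : FusionSystem T₁'}
    {X₂' : FusionSystem T₂'} (h₁ : SysCorr e X₁ X₁') (h₂ : SysCorr e X₂ X₂')
    (h : ∀ P, X₁.Hom P = X₂.Hom P) (P' : Subgroup Ω') : X₁'.Hom P' = X₂'.Hom P' := by
  ext φ'
  constructor
  · intro hφ'
    obtain ⟨P, φ, hφ, hc⟩ := h₁.exists_pull hφ'
    rw [h P] at hφ
    exact h₂.push hφ hc
  · intro hφ'
    obtain ⟨P, φ, hφ, hc⟩ := h₂.exists_pull hφ'
    rw [← h P] at hφ
    exact h₁.push hφ hc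

/-! ### The hyperfocal subgroup -/

theorem map_mem_pResidual {G H : Type*} [Group G] [Group H] (p : ℕ) (f : G →* H) {g : G}
    (hg : g ∈ pResidual p G) : f g ∈ pResidual p H := by
  unfold pResidual at hg ⊢
  induction hg using Subgroup.closure_induction with
  | mem x hx =>
    apply Subgroup.subset_closure
    exact Nat.Coprime.coprime_dvd_left (orderOf_map_dvd f x) hx
  | one => rw [map_one]; exact Subgroup.one_mem _
  | mul x y _ _ hx hy => rw [map_mul]; exact Subgroup.mul_mem _ hx hy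
  | inv x _ hx => rw [map_inv]; exact Subgroup.inv_mem _ hx

/-- The map on automorphism groups given by an isomorphism of systems. -/
def autHom {e : R ≃* R'} {T : Subgroup Ω} {X : FusionSystem T} {T' : Subgroup Ω'}
    {X' : FusionSystem T'} (hX : SysCorr e X X') {P : Subgroup Ω} {P' : Subgroup Ω'}
    (hP : SubCorr e P P') (hPT : P ≤ T) : X.autGroup P →* X'.autGroup P' :=
  ((MulAut.congr (subEquiv hP)).toMonoidHom.comp (X.autGroup P).subtype).codRestrict
    (X'.autGroup P') (fun a => (hX.mem_autGroup_iff hP hPT a.1).mp a.2)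

theorem hyperfocal_push {p : ℕ} {e : R ≃* R'} {T : Subgroup Ω} {X : FusionSystem T}
    {T' : Subgroup Ω'} {X' : FusionSystem T'} (hX : SysCorr e X X') (y : Ω)
    (hy : y ∈ X.hyperfocalSubgroup p) :
    ∃ hyR : y ∈ R, ((e ⟨y, hyR⟩ : R') : Ω') ∈ X'.hyperfocalSubgroup p := by
  unfold hyperfocalSubgroup at hy
  induction hy using Subgroup.closure_induction with
  | mem y hy =>
    obtain ⟨P, α, x, hPT, hα, rfl⟩ := hy
    have hPR : P ≤ R := hPT.trans hX.1.1
    have hPc := subCorr_imgSub e hPR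
    have hyR : (x : Ω)⁻¹ * ((α : MulAut P) x : P) ∈ R :=
      R.mul_mem (R.inv_mem (hPR x.2)) (hPR (((α : MulAut P) x : P)).2)
    refine ⟨hyR, ?_⟩
    unfold hyperfocalSubgroup
    apply Subgroup.subset_closure
    refine ⟨imgSub e P, autHom hX hPc hPT α, subEquiv hPc x, hPc.le_imp hX.1 hPT,
      map_mem_pResidual p _ hα, ?_⟩
    have h1 : ((autHom hX hPc hPT α : MulAut (imgSub e P)) (subEquiv hPc x)) =
        subEquiv hPc ((α : MulAut P) x) := autCongr_apply hPc (α : MulAut P) x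
    rw [h1, subEquiv_coe, subEquiv_coe]
    have h2 : (⟨(x : Ω)⁻¹ * ((α : MulAut P) x : P), hyR⟩ : R) =
        (⟨x, hPR x.2⟩ : R)⁻¹ * ⟨((α : MulAut P) x : P), hPR (((α : MulAut P) x : P)).2⟩ := rfl
    rw [h2, map_mul, map_inv]
    rfl
  | one =>
    refine ⟨R.one_mem, ?_⟩
    have h1 : (⟨(1 : Ω), R.one_mem⟩ : R) = 1 := rfl
    rw [h1, map_one]
    exact Subgroup.one_mem _
  | mul x y _ _ hx hy =>
    obtain ⟨hxR, hx'⟩ := hx
    obtain ⟨hyR, hy'⟩ := hy
    refine ⟨R.mul_mem hxR hyR, ?_⟩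
    have h1 : (⟨x * y, R.mul_mem hxR hyR⟩ : R) = ⟨x, hxR⟩ * ⟨y, hyR⟩ := rfl
    rw [h1, map_mul]
    exact Subgroup.mul_mem _ hx' hy'
  | inv x _ hx =>
    obtain ⟨hxR, hx'⟩ := hx
    refine ⟨R.inv_mem hxR, ?_⟩
    have h1 : (⟨x⁻¹, R.inv_mem hxR⟩ : R) = ⟨x, hxR⟩⁻¹ := rfl
    rw [h1, map_inv]
    exact Subgroup.inv_mem _ hx'

/-- **The hyperfocal subgroups of corresponding systems correspond.** -/
theorem SysCorr.hyperfocal {e : R ≃* R'} {T : Subgroup Ω} {X : FusionSystem T}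
    {T' : Subgroup Ω'} {X' : FusionSystem T'} (hX : SysCorr e X X') (p : ℕ) :
    SubCorr e (X.hyperfocalSubgroup p) (X'.hyperfocalSubgroup p) := by
  refine ⟨(Cfsg.Agent.Lib.helper88.hyperfocal_le X p).trans hX.1.1,
    (Cfsg.Agent.Lib.helper88.hyperfocal_le X' p).trans hX.1.2.1, fun x => ⟨fun hx => ?_, fun hx => ?_⟩⟩
  · obtain ⟨_, h⟩ := hyperfocal_push (p := p) hX (x : Ω) hx
    exact h
  · obtain ⟨_, h⟩ := hyperfocal_push (p := p) hX.symm ((e x : R') : Ω') hx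
    have h1 : (⟨((e x : R') : Ω'), (e x).2⟩ : R') = e x := rfl
    rw [h1, e.symm_apply_apply] at h
    exact h

/-! ### The centre -/

theorem SysCorr.isCentral {e : R ≃* R'} {T : Subgroup Ω} {X : FusionSystem T}
    {T' : Subgroup Ω'} {X' : FusionSystem T'} (hX : SysCorr e X X') {Q : Subgroup Ω}
    {Q' : Subgroup Ω'} (hQc : SubCorr e Q Q') (hQ : X.IsCentral Q) : X'.IsCentral Q' := by
  refine ⟨hQc.le_imp hX.1 hQ.1, fun P' φ' hφ' => ?_⟩
  obtain ⟨P, φ, hφ, hmc⟩ := hX.exists_pull hφ'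
  have hPc := hmc.1
  obtain ⟨ψ, hψ, hψ1, hψ2⟩ := hQ.2 P φ hφ
  have hWc := hPc.sup hQc
  have hψR : ∀ y, ψ y ∈ R := fun y => hX.1.1 ((X.le_of_mem hψ).2 y)
  have hψc := pushMap_corr hWc ψ hψR
  refine ⟨pushMap hWc ψ hψR, hX.push hψ hψc, ?_, ?_⟩
  · intro x'
    obtain ⟨x, rfl⟩ := exists_subEquiv_eq hPc x'
    have h1 : Subgroup.inclusion le_sup_left (subEquiv hPc x) =
        subEquiv hWc (Subgroup.inclusion le_sup_left x) := Subtype.ext rfl
    rw [h1, hψc.apply, hmc.apply]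
    have h2 : (⟨ψ (Subgroup.inclusion le_sup_left x), hψc.val_mem _⟩ : R) =
        ⟨φ x, hmc.val_mem x⟩ := Subtype.ext (hψ1 x)
    rw [h2]
  · intro x'
    obtain ⟨x, rfl⟩ := exists_subEquiv_eq hQc x'
    have h1 : Subgroup.inclusion le_sup_right (subEquiv hQc x) =
        subEquiv hWc (Subgroup.inclusion le_sup_right x) := Subtype.ext rfl
    rw [h1, hψc.apply, subEquiv_coe]
    have h2 : (⟨ψ (Subgroup.inclusion le_sup_right x), hψc.val_mem _⟩ : R) =
        ⟨x, hQc.1 x.2⟩ := Subtype.ext (hψ2 x)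
    rw [h2]

theorem center_push {e : R ≃* R'} {T : Subgroup Ω} {X : FusionSystem T}
    {T' : Subgroup Ω'} {X' : FusionSystem T'} (hX : SysCorr e X X') [Finite T] :
    imgSub e X.center ≤ X'.center := by
  have hZ := Cfsg.Agent.Lib.helper88.isCentral_center X
  have hZR : X.center ≤ R := hZ.1.trans hX.1.1
  exact le_sSup (hX.isCentral (subCorr_imgSub e hZR) hZ)

/-- **The centres of corresponding systems correspond.** -/
theorem SysCorr.center {e : R ≃* R'} {T : Subgroup Ω} {X : FusionSystem T}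
    {T' : Subgroup Ω'} {X' : FusionSystem T'} (hX : SysCorr e X X') [Finite T] :
    SubCorr e X.center X'.center := by
  have : Finite T' := hX.1.finite
  have hZ := Cfsg.Agent.Lib.helper88.isCentral_center X
  have hZ' := Cfsg.Agent.Lib.helper88.isCentral_center X'
  refine ⟨hZ.1.trans hX.1.1, hZ'.1.trans hX.1.2.1, fun x => ⟨fun hx => ?_, fun hx => ?_⟩⟩
  · exact center_push hX ((mem_imgSub e _ _).mpr ⟨x, hx, rfl⟩)
  · have h := center_push hX.symm ((mem_imgSub e.symm _ _).mpr ⟨e x, hx, rfl⟩)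
    rw [e.symm_apply_apply] at h
    exact h

/-! ### Factor systems of corresponding systems -/

theorem exists_mulEquiv_of_surjective {G H K : Type*} [Group G] [Group H] [Group K] (f : G →* H)
    (g : G →* K) (hf : Function.Surjective f) (hg : Function.Surjective g)
    (hk : ∀ x, f x = 1 ↔ g x = 1) : ∃ ē : H ≃* K, ∀ x, ē (f x) = g x := by
  have hker : f.ker = g.ker := by
    ext x
    rw [MonoidHom.mem_ker, MonoidHom.mem_ker]
    exact hk x
  refine ⟨(QuotientGroup.quotientKerEquivOfSurjective f hf).symm.trans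
    ((QuotientGroup.quotientMulEquivOfEq hker).trans
      (QuotientGroup.quotientKerEquivOfSurjective g hg)), fun x => ?_⟩
  have h1 : (QuotientGroup.quotientKerEquivOfSurjective f hf).symm (f x) = (x : G ⧸ f.ker) := by
    rw [MulEquiv.symm_apply_eq]
    rfl
  show (QuotientGroup.quotientKerEquivOfSurjective g hg) (QuotientGroup.quotientMulEquivOfEq hker
    ((QuotientGroup.quotientKerEquivOfSurjective f hf).symm (f x))) = g x
  rw [h1]
  rfl

variable {Ω₁ : Type*} [Group Ω₁] {Ω₁' : Type*} [Group Ω₁']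

/-- Factor systems of corresponding systems modulo corresponding subgroups: maps are pushed
forward along an isomorphism of the base groups compatible with the two quotient maps. -/
theorem factor_push {e : R ≃* R'} {T : Subgroup Ω} {X : FusionSystem T} {T' : Subgroup Ω'}
    {X' : FusionSystem T'} (hX : SysCorr e X X') {Z : Subgroup Ω} {Z' : Subgroup Ω'}
    {T₁ : Subgroup Ω₁} {T₁' : Subgroup Ω₁'} {θ : T →* Ω₁} {θ' : T' →* Ω₁'}
    {E : FusionSystem T₁} {E' : FusionSystem T₁'} (hE : X.IsFactorSystem Z θ E)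
    (hE' : X'.IsFactorSystem Z' θ' E') (ē : T₁ ≃* T₁')
    (hē : ∀ (x : T) (hx : θ x ∈ T₁), ((ē ⟨θ x, hx⟩ : T₁') : Ω₁') = θ' (subEquiv hX.1 x))
    {P₁ : Subgroup Ω₁} {φ₁ : P₁ →* Ω₁} (hφ₁ : φ₁ ∈ E.Hom P₁) {P₁' : Subgroup Ω₁'}
    {φ₁' : P₁' →* Ω₁'} (hmc : MapCorr ē φ₁ φ₁') : φ₁' ∈ E'.Hom P₁' := by
  have hP₁c := hmc.1
  have hTc := hX.1
  rw [hE.2.2.2] at hφ₁
  obtain ⟨hP₁T₁, φ, hφ, hPT, hφT, hPP₁, hindeq⟩ := hφ₁
  rw [hE'.2.2.2]
  refine ⟨hP₁c.2.1, ?_⟩
  have hmemT₁ : ∀ x : T, θ x ∈ T₁ := fun x => by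
    rw [← hE.2.2.1]
    exact ⟨x, rfl⟩
  have hPc : SubCorr e (preimageAlong θ P₁) (preimageAlong θ' P₁') := by
    refine ⟨(Cfsg.Agent.Lib.helper87.preimageAlong_le θ P₁).trans hTc.1,
      (Cfsg.Agent.Lib.helper87.preimageAlong_le θ' P₁').trans hTc.2.1, fun x => ?_⟩
    rw [Cfsg.Agent.Lib.helper87.mem_preimageAlong, Cfsg.Agent.Lib.helper87.mem_preimageAlong]
    constructor
    · rintro ⟨hxT, hx⟩
      have hxT' : ((e x : R') : Ω') ∈ T' := (hTc.2.2 x).mp hxT
      refine ⟨hxT', ?_⟩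
      have h1 := hē ⟨x, hxT⟩ (hmemT₁ _)
      have h2 : subEquiv hTc ⟨x, hxT⟩ = ⟨((e x : R') : Ω'), hxT'⟩ := Subtype.ext rfl
      rw [h2] at h1
      rw [← h1]
      exact (hP₁c.2.2 ⟨θ ⟨x, hxT⟩, hmemT₁ _⟩).mp hx
    · rintro ⟨hxT', hx⟩
      have hxT : (x : Ω) ∈ T := (hTc.2.2 x).mpr hxT'
      refine ⟨hxT, ?_⟩
      have h1 := hē ⟨x, hxT⟩ (hmemT₁ _)
      have h2 : subEquiv hTc ⟨x, hxT⟩ = ⟨((e x : R') : Ω'), hxT'⟩ := Subtype.ext rfl
      rw [h2] at h1
      rw [← h1] at hx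
      exact (hP₁c.2.2 ⟨θ ⟨x, hxT⟩, hmemT₁ _⟩).mpr hx
  have hφR : ∀ y, φ y ∈ R := fun y => hTc.1 (hφT y)
  have hφc := pushMap_corr hPc φ hφR
  have hval : ∀ x' : ↥(preimageAlong θ' P₁'), pushMap hPc φ hφR x' ∈ T' := by
    intro x'
    obtain ⟨x, rfl⟩ := exists_subEquiv_eq hPc x'
    rw [hφc.apply]
    exact (hTc.2.2 _).mp (hφT x)
  refine ⟨pushMap hPc φ hφR, hX.push hφ hφc, Cfsg.Agent.Lib.helper87.preimageAlong_le θ' P₁',
    hval, Cfsg.Agent.Lib.helper87.preimageAlong_map_mem θ' P₁', ?_⟩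
  intro x'
  obtain ⟨x, rfl⟩ := exists_subEquiv_eq hPc x'
  have e1 : (⟨θ' ⟨((subEquiv hPc x : ↥(preimageAlong θ' P₁')) : Ω'),
      Cfsg.Agent.Lib.helper87.preimageAlong_le θ' P₁' (subEquiv hPc x).2⟩,
      Cfsg.Agent.Lib.helper87.preimageAlong_map_mem θ' P₁' (subEquiv hPc x)⟩ : P₁') =
      subEquiv hP₁c ⟨θ ⟨x, hPT x.2⟩, hPP₁ x⟩ := by
    apply Subtype.ext
    have h1 := hē ⟨x, hPT x.2⟩ (hmemT₁ _)
    have h0 : ((subEquiv hP₁c ⟨θ ⟨x, hPT x.2⟩, hPP₁ x⟩ : P₁') : Ω₁') =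
        ((ē ⟨θ ⟨x, hPT x.2⟩, hmemT₁ _⟩ : T₁') : Ω₁') := subEquiv_coe _ _
    rw [h0, h1]
    show θ' _ = θ' _
    congr 1
  rw [e1, hmc.apply]
  have e2 : (⟨pushMap hPc φ hφR (subEquiv hPc x), hval (subEquiv hPc x)⟩ : T') =
      subEquiv hTc ⟨φ x, hφT x⟩ := by
    apply Subtype.ext
    rw [subEquiv_coe]
    exact hφc.apply x
  rw [e2, ← hē ⟨φ x, hφT x⟩ (hmemT₁ _)]
  have e3 : (⟨φ₁ ⟨θ ⟨x, hPT x.2⟩, hPP₁ x⟩, hmc.val_mem _⟩ : T₁) =
      ⟨θ ⟨φ x, hφT x⟩, hmemT₁ _⟩ := Subtype.ext (hindeq x)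
  rw [e3]

theorem subEquiv_symm_symm_apply {e : R ≃* R'} {T : Subgroup Ω} {T' : Subgroup Ω'}
    (hTc : SubCorr e T T') (x' : T') : subEquiv hTc (subEquiv hTc.symm x') = x' := by
  apply Subtype.ext
  rw [subEquiv_coe]
  have h1 : (⟨((subEquiv hTc.symm x' : T) : Ω), hTc.1 (subEquiv hTc.symm x').2⟩ : R) =
      e.symm ⟨x', hTc.2.1 x'.2⟩ := Subtype.ext (subEquiv_coe hTc.symm x')
  rw [h1, e.apply_symm_apply]

/-- **Factor systems of corresponding systems modulo corresponding subgroups correspond.** -/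
theorem exists_factor_sysCorr {e : R ≃* R'} {T : Subgroup Ω} {X : FusionSystem T}
    {T' : Subgroup Ω'} {X' : FusionSystem T'} (hX : SysCorr e X X') {Z : Subgroup Ω}
    {Z' : Subgroup Ω'} (hZc : SubCorr e Z Z')
    {T₁ : Subgroup Ω₁} {T₁' : Subgroup Ω₁'} {θ : T →* Ω₁} {θ' : T' →* Ω₁'}
    {E : FusionSystem T₁} {E' : FusionSystem T₁'} (hE : X.IsFactorSystem Z θ E)
    (hE' : X'.IsFactorSystem Z' θ' E') : ∃ ē : T₁ ≃* T₁', SysCorr ē E E' := by
  have hTc := hX.1
  have hmemT₁ : ∀ x : T, θ x ∈ T₁ := fun x => by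
    rw [← hE.2.2.1]
    exact ⟨x, rfl⟩
  have hmemT₁' : ∀ x : T', θ' x ∈ T₁' := fun x => by
    rw [← hE'.2.2.1]
    exact ⟨x, rfl⟩
  obtain ⟨ē, hē0⟩ := exists_mulEquiv_of_surjective (θ.codRestrict T₁ hmemT₁)
    ((θ'.codRestrict T₁' hmemT₁').comp (subEquiv hTc).toMonoidHom)
    (by
      intro y
      have hy : (y : Ω₁) ∈ θ.range := by rw [hE.2.2.1]; exact y.2
      obtain ⟨x, hx⟩ := hy
      exact ⟨x, Subtype.ext hx⟩)
    (by
      intro y
      have hy : (y : Ω₁') ∈ θ'.range := by rw [hE'.2.2.1]; exact y.2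
      obtain ⟨x', hx'⟩ := hy
      refine ⟨subEquiv hTc.symm x', Subtype.ext ?_⟩
      show θ' (subEquiv hTc (subEquiv hTc.symm x')) = y
      rw [subEquiv_symm_symm_apply hTc x']
      exact hx')
    (by
      intro x
      have h1 : (θ.codRestrict T₁ hmemT₁ x = 1) ↔ θ x = 1 := by
        constructor
        · intro h; exact congrArg Subtype.val h
        · intro h; exact Subtype.ext h
      have h2 : (((θ'.codRestrict T₁' hmemT₁').comp (subEquiv hTc).toMonoidHom) x = 1) ↔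
          θ' (subEquiv hTc x) = 1 := by
        constructor
        · intro h; exact congrArg Subtype.val h
        · intro h; exact Subtype.ext h
      rw [h1, h2, hE.2.1 x, hE'.2.1 (subEquiv hTc x), subEquiv_coe]
      exact hZc.2.2 ⟨x, hTc.1 x.2⟩)
  have hē : ∀ (x : T) (hx : θ x ∈ T₁), ((ē ⟨θ x, hx⟩ : T₁') : Ω₁') = θ' (subEquiv hTc x) :=
    fun x hx => congrArg Subtype.val (hē0 x)
  have hē' : ∀ (x' : T') (hx' : θ' x' ∈ T₁'),
      ((ē.symm ⟨θ' x', hx'⟩ : T₁) : Ω₁) = θ (subEquiv hX.symm.1 x') := by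
    intro x' hx'
    have h1 := hē0 (subEquiv hTc.symm x')
    have h2 : ((θ'.codRestrict T₁' hmemT₁').comp (subEquiv hTc).toMonoidHom)
        (subEquiv hTc.symm x') = ⟨θ' x', hx'⟩ := by
      apply Subtype.ext
      show θ' (subEquiv hTc (subEquiv hTc.symm x')) = θ' x'
      rw [subEquiv_symm_symm_apply hTc x']
    rw [h2] at h1
    rw [← h1, ē.symm_apply_apply]
    rfl
  refine ⟨ē, subCorr_self ē, fun P₁ φ₁ hφ₁ P₁' φ₁' hmc => factor_push hX hE hE' ē hē hφ₁ hmc,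
    fun P₁' φ₁' hφ₁' P₁ φ₁ hmc => factor_push hX.symm hE' hE ē.symm hē' hφ₁' hmc.symm⟩

end invariants

section simple

variable {Ω : Type*} [Group Ω] {Ω' : Type*} [Group Ω'] {R : Subgroup Ω} {R' : Subgroup Ω'}

/-- **Simple systems correspond to simple systems.** -/
theorem SysCorr.isSimple {p : ℕ} [Fact p.Prime] {e : R ≃* R'} {S : Subgroup Ω}
    {F : FusionSystem S} {S' : Subgroup Ω'} {F' : FusionSystem S'} (hF : SysCorr e F F')
    [Finite S] (hS : IsPGroup p S) (hs : F.IsSimple p) : F'.IsSimple p := by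
  obtain ⟨hsat, hne, hmin⟩ := hs
  have hSc := hF.1
  have hfin' : Finite S' := hSc.finite
  have hS' : IsPGroup p S' := hSc.isPGroup hS
  refine ⟨hF.isSaturated hS hsat, ?_, ?_⟩
  · intro h
    apply hne
    have h1 : SubCorr e S ⊥ := by
      have h0 := hSc
      rwa [h] at h0
    exact SubCorr.unique_left h1 (subCorr_bot e)
  · intro T' N' hn'
    have hT'S' : T' ≤ S' := hn'.1.2.2.2.1.1
    have hfinT' : Finite T' :=
      Finite.of_injective (Subgroup.inclusion hT'S') (Subgroup.inclusion_injective hT'S')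
    obtain ⟨N, hN⟩ := exists_sysCorr e.symm (hT'S'.trans hSc.2.1) N'
    have hn : N.IsNormalIn F p := hF.symm.isNormalIn hN hS' hn'
    rcases hmin _ N hn with h | ⟨h, hh⟩
    · left
      have h1 : SubCorr e.symm T' ⊥ := by
        have h0 := hN.1
        rwa [h] at h0
      exact SubCorr.unique_left h1 (subCorr_bot e.symm)
    · right
      have h1 : SubCorr e.symm T' S := by
        have h0 := hN.1
        rwa [h] at h0
      exact ⟨SubCorr.unique_left h1 hSc.symm,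
        fun P' => SysCorr.hom_eq_of_hom_eq (SysCorr.of_symm hN) hF hh P'⟩

/-- **Quasisimple systems correspond to quasisimple systems.** -/
theorem SysCorr.quasisimple {p : ℕ} [Fact p.Prime] {e : R ≃* R'} {T : Subgroup Ω}
    {X : FusionSystem T} {T' : Subgroup Ω'} {X' : FusionSystem T'} (hX : SysCorr e X X')
    [Finite T] (hT : IsPGroup p T) (hq : X.Quasisimple p) : X'.Quasisimple p := by
  obtain ⟨hsat, hhyp, hfac⟩ := hq
  have hTc := hX.1
  refine ⟨hX.isSaturated hT hsat, ?_, ?_⟩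
  · have h1 := hX.hyperfocal p
    rw [hhyp] at h1
    exact SubCorr.unique h1 hTc
  · intro E' hE'
    have hZ := Cfsg.Agent.Lib.helper88.isCentral_center X
    have hsc := Cfsg.Agent.Lib.helper88.stronglyClosed_of_isCentral X hZ
    obtain ⟨Xbar, hXbar⟩ := Cfsg.Agent.Lib.helper87.exists_factorSystem X X.center hsc
      (QuotientGroup.mk' ((X.center).subgroupOf T))
      (fun s => by
        rw [QuotientGroup.mk'_apply, QuotientGroup.eq_one_iff, Subgroup.mem_subgroupOf])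
      ⊤ (MonoidHom.range_eq_top.mpr (QuotientGroup.mk'_surjective _))
    have hsimple := hfac Xbar hXbar
    obtain ⟨ē, hē⟩ := exists_factor_sysCorr hX hX.center hXbar hE'
    have hTbar : IsPGroup p ↥(⊤ : Subgroup (T ⧸ (X.center).subgroupOf T)) :=
      (hT.to_quotient ((X.center).subgroupOf T)).to_subgroup ⊤
    exact hē.isSimple hTbar hsimple

/-- **Components correspond to components.** -/
theorem SysCorr.isComponentIn {p : ℕ} [Fact p.Prime] {e : R ≃* R'} {S : Subgroup Ω}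
    {F : FusionSystem S} {S' : Subgroup Ω'} {F' : FusionSystem S'} (hF : SysCorr e F F')
    {T : Subgroup Ω} {C : FusionSystem T} {T' : Subgroup Ω'} {C' : FusionSystem T'}
    (hC : SysCorr e C C') [Finite S] (hS : IsPGroup p S) (hc : C.IsComponentIn F p) :
    C'.IsComponentIn F' p := by
  have hTS := le_of_isSubnormalIn hc.1
  have hfinT : Finite T :=
    Finite.of_injective (Subgroup.inclusion hTS) (Subgroup.inclusion_injective hTS)
  exact ⟨hF.isSubnormalIn hC hS hc.1, hC.quasisimple (hS.to_le hTS) hc.2⟩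

end simple

end Cfsg.Agent.Lib.helper90
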