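import Cfsg.Agent.Lib.helper90.SylowNormal

/-!
Normal subgroups of a realizing group give normal subsystems (helper90).

For a fusion system `F` over `S` realized by `ι : S →* G` on a Sylow `p`-subgroup of the finite group
`G` and a normal subgroup `N` of `G`, the maps of `F` between subgroups of `ι⁻¹(N)` that are induced
by elements of `N` form a normal subsystem of `F` (AKO I.6.2, transported along `ι`).
-/

set_option autoImplicit false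

namespace Cfsg.Agent.Lib.helper90

open Cfsg Cfsg.Agent.Lib

section realized

variable {Ω : Type*} [Group Ω] {S : Subgroup Ω} {G : Type*} [Group G]

/-- The preimage in `S` (as a subgroup of the ambient group) of a subgroup `N` of `G` under `ι`. -/
def preT (ι : S →* G) (N : Subgroup G) : Subgroup Ω := (N.comap ι).map S.subtype

theorem mem_preT {ι : S →* G} {N : Subgroup G} {x : Ω} :
    x ∈ preT ι N ↔ ∃ hx : x ∈ S, ι ⟨x, hx⟩ ∈ N := by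
  constructor
  · rintro ⟨s, hs, rfl⟩
    exact ⟨s.2, hs⟩
  · rintro ⟨hx, h⟩
    exact ⟨⟨x, hx⟩, h, rfl⟩

theorem preT_le (ι : S →* G) (N : Subgroup G) : preT ι N ≤ S := by
  intro x hx
  exact (mem_preT.mp hx).1

/-- Conjugation by `g`, when it keeps `ι(P)` inside the image of `ι`, pulls back to a homomorphism
`P →* Ω` with values in `S`. -/
theorem exists_hom_of_conj {ι : S →* G} (hι : Function.Injective ι) {P : Subgroup Ω} (hP : P ≤ S)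
    (g : G) (h : ∀ x : P, g * ι ⟨x, hP x.2⟩ * g⁻¹ ∈ ι.range) :
    ∃ (φ : P →* Ω) (hφ : ∀ x : P, φ x ∈ S), ∀ x : P, ι ⟨φ x, hφ x⟩ = g * ι ⟨x, hP x.2⟩ * g⁻¹ := by
  let ψ : P →* ι.range :=
    ((MulAut.conj g).toMonoidHom.comp (ι.comp (Subgroup.inclusion hP))).codRestrict ι.range
      (fun x => h x)
  refine ⟨S.subtype.comp ((MonoidHom.ofInjective hι).symm.toMonoidHom.comp ψ),
    fun x => ((MonoidHom.ofInjective hι).symm (ψ x)).2, fun x => ?_⟩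
  exact MonoidHom.apply_ofInjective_symm hι (ψ x)

/-- The subsystem over `ι⁻¹(N)` of the maps of `F` induced, through `ι`, by elements of `N`. -/
def normalSubsystem (F : FusionSystem S) (ι : S →* G) (N : Subgroup G) :
    FusionSystem (preT ι N) where
  Hom P := {φ | φ ∈ F.Hom P ∧ P ≤ preT ι N ∧ (∀ x : P, φ x ∈ preT ι N) ∧
      ∃ n ∈ N, ∀ (x : P) (hx : (x : Ω) ∈ S) (hφx : φ x ∈ S), ι ⟨φ x, hφx⟩ = n * ι ⟨x, hx⟩ * n⁻¹}
  le_of_mem h := ⟨h.2.1, h.2.2.1⟩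
  injective_of_mem h := F.injective_of_mem h.1
  conj_mem := by
    intro P g hP hg
    obtain ⟨hgS, hgN⟩ := mem_preT.mp hg
    refine ⟨F.conj_mem (hP.trans (preT_le ι N)) hgS, hP, fun x => ?_, ι ⟨g, hgS⟩, hgN,
      fun x hx hφx => ?_⟩
    · show g * (x : Ω) * g⁻¹ ∈ preT ι N
      exact (preT ι N).mul_mem ((preT ι N).mul_mem hg (hP x.2)) ((preT ι N).inv_mem hg)
    · have e : (⟨conjHom P g x, hφx⟩ : S) = ⟨g, hgS⟩ * ⟨x, hx⟩ * ⟨g, hgS⟩⁻¹ := Subtype.ext rfl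
      rw [e, map_mul, map_mul, map_inv]
  comp_mem := by
    intro P Q φ ψ hφ hψ h
    obtain ⟨hφF, hPT, hφT, n₁, hn₁, hφn⟩ := hφ
    obtain ⟨hψF, hQT, hψT, n₂, hn₂, hψn⟩ := hψ
    refine ⟨F.comp_mem hφF hψF h, hPT, fun x => hψT _, n₂ * n₁, N.mul_mem hn₂ hn₁,
      fun x hx hφx => ?_⟩
    have h1 := hψn ⟨φ x, h x⟩ (preT_le ι N (hφT x)) hφx
    have h2 := hφn x hx (preT_le ι N (hφT x))
    rw [h2] at h1
    rw [show (n₂ * n₁) * ι ⟨x, hx⟩ * (n₂ * n₁)⁻¹ = n₂ * (n₁ * ι ⟨x, hx⟩ * n₁⁻¹) * n₂⁻¹ by group]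
    exact h1
  inv_mem := by
    intro P φ hφ
    obtain ⟨hφF, hPT, hφT, n, hn, hφn⟩ := hφ
    obtain ⟨ψ, hψ, hψφ⟩ := F.inv_mem hφF
    refine ⟨ψ, ⟨hψ, ?_, ?_, n⁻¹, N.inv_mem hn, ?_⟩, hψφ⟩
    · rintro _ ⟨x, rfl⟩
      exact hφT x
    · rintro ⟨_, x, rfl⟩
      rw [hψφ x]
      exact hPT x.2
    · rintro ⟨_, x, rfl⟩ hy hψy
      have h1 := hφn x (preT_le ι N (hPT x.2)) hy
      have h2 : (⟨ψ ⟨φ x, ⟨x, rfl⟩⟩, hψy⟩ : S) = ⟨x, preT_le ι N (hPT x.2)⟩ :=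
        Subtype.ext (hψφ x)
      rw [h2]
      show ι ⟨x, _⟩ = n⁻¹ * ι ⟨φ x, hy⟩ * n⁻¹⁻¹
      rw [h1]
      group

theorem mem_normalSubsystem_iff {F : FusionSystem S} {ι : S →* G} (hR : F.IsRealizedBy ι)
    {N : Subgroup G} {P : Subgroup Ω} {φ : P →* Ω} (hP : P ≤ preT ι N)
    (hφ : ∀ x : P, φ x ∈ preT ι N) :
    φ ∈ (normalSubsystem F ι N).Hom P ↔ ∃ n ∈ N, ∀ x : P,
      ι ⟨φ x, preT_le ι N (hφ x)⟩ = n * ι ⟨x, preT_le ι N (hP x.2)⟩ * n⁻¹ := by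
  constructor
  · rintro ⟨-, -, -, n, hn, h⟩
    exact ⟨n, hn, fun x => h x _ _⟩
  · rintro ⟨n, hn, h⟩
    exact ⟨(hR.2 P (hP.trans (preT_le ι N)) φ (fun x => preT_le ι N (hφ x))).mpr ⟨n, h⟩, hP, hφ,
      n, hn, fun x _ _ => h x⟩

/-- The restriction of `ι` to `ι⁻¹(N)`, as a homomorphism into `N`. -/
def restrHom (ι : S →* G) (N : Subgroup G) : ↥(preT ι N) →* ↥N :=
  (ι.comp (Subgroup.inclusion (preT_le ι N))).codRestrict N (fun x => (mem_preT.mp x.2).2)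

theorem normalSubsystem_realized {F : FusionSystem S} {ι : S →* G} (hR : F.IsRealizedBy ι)
    (N : Subgroup G) : (normalSubsystem F ι N).IsRealizedBy (restrHom ι N) := by
  refine ⟨fun a b hab => ?_, fun P hP φ hφ => ?_⟩
  · have h1 : ι ⟨a, preT_le ι N a.2⟩ = ι ⟨b, preT_le ι N b.2⟩ := congrArg Subtype.val hab
    have h2 : (⟨(a : Ω), preT_le ι N a.2⟩ : S) = ⟨(b : Ω), preT_le ι N b.2⟩ := hR.1 h1
    have h3 : (a : Ω) = (b : Ω) := congrArg (fun s : S => (s : Ω)) h2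
    exact Subtype.ext h3
  · rw [mem_normalSubsystem_iff hR hP hφ]
    constructor
    · rintro ⟨n, hn, h⟩
      exact ⟨⟨n, hn⟩, fun x => Subtype.ext (h x)⟩
    · rintro ⟨g, h⟩
      exact ⟨g, g.2, fun x => congrArg Subtype.val (h x)⟩

theorem normalSubsystem_saturated [Finite G] {p : ℕ} [Fact p.Prime] {F : FusionSystem S}
    {ι : S →* G} (hR : F.IsRealizedBy ι) (T₀ : Sylow p G) (hT₀ : (T₀ : Subgroup G) = ι.range)
    (N : Subgroup G) [N.Normal] : (normalSubsystem F ι N).IsSaturated p := by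
  obtain ⟨R, hR₀⟩ := helper87.sylowIn_inf_normal T₀ N
  refine helper87.saturated_of_realizedBy (normalSubsystem_realized hR N) R ?_
  rw [hR₀, hT₀]
  ext y
  rw [Subgroup.mem_subgroupOf]
  constructor
  · rintro ⟨⟨s, hs⟩, -⟩
    refine ⟨⟨s, mem_preT.mpr ⟨s.2, ?_⟩⟩, Subtype.ext hs⟩
    show ι s ∈ N
    rw [hs]
    exact y.2
  · rintro ⟨t, rfl⟩
    exact ⟨⟨⟨t, preT_le ι N t.2⟩, rfl⟩, (restrHom ι N t).2⟩

theorem preT_stronglyClosed {F : FusionSystem S} {ι : S →* G} (hR : F.IsRealizedBy ι)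
    (N : Subgroup G) [hN : N.Normal] : F.StronglyClosed (preT ι N) := by
  refine ⟨preT_le ι N, fun R hRT φ hφ x => ?_⟩
  have hφS := (F.le_of_mem hφ).2
  obtain ⟨g, hg⟩ := (hR.2 R (hRT.trans (preT_le ι N)) φ hφS).mp hφ
  rw [mem_preT]
  refine ⟨hφS x, ?_⟩
  rw [hg x]
  exact hN.conj_mem _ (mem_preT.mp (hRT x.2)).2 g

theorem normalSubsystem_conj {F : FusionSystem S} {ι : S →* G} (hR : F.IsRealizedBy ι)
    (N : Subgroup G) [hN : N.Normal] (P : Subgroup Ω) (hPT : P ≤ preT ι N) (φ : P →* Ω)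
    (hφ : φ ∈ (normalSubsystem F ι N).Hom P) (α : MulAut ↥(preT ι N))
    (hα : α ∈ F.autGroup (preT ι N)) :
    ∃ χ ∈ (normalSubsystem F ι N).Hom
        ((P.subgroupOf (preT ι N)).map ((preT ι N).subtype.comp α.toMonoidHom)),
      ∀ (x : P) (hφx : φ x ∈ preT ι N)
        (hαx : ((α ⟨x, hPT x.2⟩ : ↥(preT ι N)) : Ω) ∈
          (P.subgroupOf (preT ι N)).map ((preT ι N).subtype.comp α.toMonoidHom)),
        χ ⟨(α ⟨x, hPT x.2⟩ : ↥(preT ι N)), hαx⟩ = ((α ⟨φ x, hφx⟩ : ↥(preT ι N)) : Ω) := by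
  have hTS := preT_le ι N
  have hαF := (helper89.mem_autGroup_iff F hTS α).mp hα
  obtain ⟨g, hg⟩ := (hR.2 _ hTS _ (fun t => hTS (α t).2)).mp hαF
  obtain ⟨-, -, hφT, n, hn, hφn⟩ := hφ
  have hQT : (P.subgroupOf (preT ι N)).map ((preT ι N).subtype.comp α.toMonoidHom) ≤ preT ι N := by
    rintro _ ⟨x, -, rfl⟩
    exact (α x).2
  have key : ∀ (x : P) (hφx : φ x ∈ preT ι N),
      (g * n * g⁻¹) * ι ⟨((α ⟨x, hPT x.2⟩ : ↥(preT ι N)) : Ω), hTS (α _).2⟩ * (g * n * g⁻¹)⁻¹ =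
        ι ⟨((α ⟨φ x, hφx⟩ : ↥(preT ι N)) : Ω), hTS (α _).2⟩ := by
    intro x hφx
    have h1 : ι ⟨((α ⟨x, hPT x.2⟩ : ↥(preT ι N)) : Ω), hTS (α _).2⟩ =
        g * ι ⟨x, hTS (hPT x.2)⟩ * g⁻¹ := hg ⟨x, hPT x.2⟩
    have h2 : ι ⟨((α ⟨φ x, hφx⟩ : ↥(preT ι N)) : Ω), hTS (α _).2⟩ =
        g * ι ⟨φ x, hTS hφx⟩ * g⁻¹ := hg ⟨φ x, hφx⟩
    have h3 : ι ⟨φ x, hTS hφx⟩ = n * ι ⟨x, hTS (hPT x.2)⟩ * n⁻¹ := hφn x _ _
    rw [h1, h2, h3]
    group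
  have hrange : ∀ y : ↥((P.subgroupOf (preT ι N)).map ((preT ι N).subtype.comp α.toMonoidHom)),
      (g * n * g⁻¹) * ι ⟨y, hTS (hQT y.2)⟩ * (g * n * g⁻¹)⁻¹ ∈ ι.range := by
    rintro ⟨_, x, hx, rfl⟩
    exact ⟨_, (key ⟨x, hx⟩ (hφT _)).symm⟩
  obtain ⟨χ, hχS, hχ⟩ := exists_hom_of_conj hR.1 (hQT.trans hTS) (g * n * g⁻¹) hrange
  have hχT : ∀ y, χ y ∈ preT ι N := fun y =>
    mem_preT.mpr ⟨hχS y, by rw [hχ y]; exact hN.conj_mem _ (mem_preT.mp (hQT y.2)).2 _⟩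
  refine ⟨χ, (mem_normalSubsystem_iff hR hQT hχT).mpr ⟨g * n * g⁻¹, hN.conj_mem n hn g,
    fun y => hχ y⟩, fun x hφx hαx => ?_⟩
  have h5 : ι ⟨χ ⟨_, hαx⟩, hχS _⟩ = ι ⟨((α ⟨φ x, hφx⟩ : ↥(preT ι N)) : Ω), hTS (α _).2⟩ := by
    rw [hχ]
    exact key x hφx
  exact congrArg Subtype.val (hR.1 h5)

theorem normalSubsystem_frattini [Finite G] {p : ℕ} [Fact p.Prime] {F : FusionSystem S}
    {ι : S →* G} (hR : F.IsRealizedBy ι) (T₀ : Sylow p G) (hT₀ : (T₀ : Subgroup G) = ι.range)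
    (N : Subgroup G) [hN : N.Normal] (P : Subgroup Ω) (hPT : P ≤ preT ι N) (φ : P →* Ω)
    (hφ : φ ∈ F.Hom P) :
    ∃ α ∈ F.autGroup (preT ι N), ∃ φ₀ ∈ (normalSubsystem F ι N).Hom P,
      ∀ (x : P) (hx : φ₀ x ∈ preT ι N), φ x = ((α ⟨φ₀ x, hx⟩ : ↥(preT ι N)) : Ω) := by
  classical
  have hfinS : Finite S := Finite.of_injective ι hR.1
  have hTS := preT_le ι N
  have hsc := preT_stronglyClosed (F := F) hR N
  have hφS := (F.le_of_mem hφ).2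
  obtain ⟨g, hg⟩ := (hR.2 P (hPT.trans hTS) φ hφS).mp hφ
  have hsyl := helper87.sylowIn_inf_normal T₀ N
  have hιT : ∀ t : ↥(preT ι N), ι ⟨t, hTS t.2⟩ ∈ (T₀ : Subgroup G) ⊓ N := fun t =>
    ⟨by rw [hT₀]; exact ⟨_, rfl⟩, (mem_preT.mp t.2).2⟩
  have hKN : ((T₀ : Subgroup G) ⊓ N).map (MulAut.conj g).toMonoidHom ≤ N := by
    rintro _ ⟨t, ht, rfl⟩
    exact hN.conj_mem t ht.2 g
  have hKp : IsPGroup p (((T₀ : Subgroup G) ⊓ N).map (MulAut.conj g).toMonoidHom) :=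
    helper87.isPGroup_map_conj g (T₀.isPGroup'.to_le inf_le_left)
  obtain ⟨h₁, hh₁, hh₁K⟩ := helper87.exists_conj_le_of_sylowIn hsyl hKN hKp
  have hm : ∀ t ∈ (T₀ : Subgroup G) ⊓ N, (h₁ * g) * t * (h₁ * g)⁻¹ ∈ (T₀ : Subgroup G) ⊓ N := by
    intro t ht
    have h1 : h₁ * (g * t * g⁻¹) * h₁⁻¹ ∈ (T₀ : Subgroup G) ⊓ N :=
      hh₁K ⟨g * t * g⁻¹, ⟨t, ht, rfl⟩, rfl⟩
    have h2 : (h₁ * g) * t * (h₁ * g)⁻¹ = h₁ * (g * t * g⁻¹) * h₁⁻¹ := by group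
    rw [h2]
    exact h1
  have hmN : h₁ * g ∈ Subgroup.normalizer ((((T₀ : Subgroup G) ⊓ N : Subgroup G)) : Set G) :=
    helper88.mem_normalizer_of_conj_mem hm
  obtain ⟨a, haS, ha⟩ := exists_hom_of_conj hR.1 hTS (h₁ * g) (fun t => by
    have h1 := (hm _ (hιT t)).1
    rw [hT₀] at h1
    exact h1)
  have haT : ∀ t : ↥(preT ι N), a t ∈ preT ι N := fun t =>
    mem_preT.mpr ⟨haS t, by rw [ha t]; exact (hm _ (hιT t)).2⟩
  have haF : a ∈ F.Hom (preT ι N) := (hR.2 _ hTS a haS).mpr ⟨h₁ * g, ha⟩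
  obtain ⟨α, hα⟩ := helper89.exists_aut_of_mem F haF haT
  have hαF : α ∈ F.autGroup (preT ι N) := by
    rw [helper89.mem_autGroup_iff F hTS]
    have h1 : (preT ι N).subtype.comp α.toMonoidHom = a := by
      ext t
      exact hα t
    rw [h1]
    exact haF
  have hφT : ∀ x : P, φ x ∈ preT ι N := fun x => hsc.2 P hPT φ hφ x
  have hn' : g⁻¹ * h₁⁻¹ * g ∈ N := by
    have h1 := hN.conj_mem _ (N.inv_mem hh₁) g⁻¹
    rwa [inv_inv] at h1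
  have hval : ∀ x : P, (g⁻¹ * h₁⁻¹ * g) * ι ⟨x, hTS (hPT x.2)⟩ * (g⁻¹ * h₁⁻¹ * g)⁻¹ ∈
      (T₀ : Subgroup G) ⊓ N := by
    intro x
    have h1 : ι ⟨φ x, hφS x⟩ ∈ (T₀ : Subgroup G) ⊓ N := hιT ⟨φ x, hφT x⟩
    rw [hg x] at h1
    have h3 := (Subgroup.mem_normalizer_iff.mp (Subgroup.inv_mem _ hmN) _).mp h1
    have h4 : (h₁ * g)⁻¹ * (g * ι ⟨x, hTS (hPT x.2)⟩ * g⁻¹) * ((h₁ * g)⁻¹)⁻¹ =
        (g⁻¹ * h₁⁻¹ * g) * ι ⟨x, hTS (hPT x.2)⟩ * (g⁻¹ * h₁⁻¹ * g)⁻¹ := by group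
    rw [h4] at h3
    exact h3
  obtain ⟨φ₀, hφ₀S, hφ₀⟩ := exists_hom_of_conj hR.1 (hPT.trans hTS) (g⁻¹ * h₁⁻¹ * g) (fun x => by
    have h1 := (hval x).1
    rw [hT₀] at h1
    exact h1)
  have hφ₀T : ∀ x : P, φ₀ x ∈ preT ι N := fun x =>
    mem_preT.mpr ⟨hφ₀S x, by rw [hφ₀ x]; exact (hval x).2⟩
  refine ⟨α, hαF, φ₀, (mem_normalSubsystem_iff hR hPT hφ₀T).mpr ⟨_, hn', fun x => hφ₀ x⟩,
    fun x hx => ?_⟩
  have h5 : ι ⟨φ x, hφS x⟩ = ι ⟨((α ⟨φ₀ x, hx⟩ : ↥(preT ι N)) : Ω), hTS (α _).2⟩ := by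
    have h6 : (⟨((α ⟨φ₀ x, hx⟩ : ↥(preT ι N)) : Ω), hTS (α _).2⟩ : S) =
        ⟨a ⟨φ₀ x, hx⟩, haS _⟩ := Subtype.ext (hα _)
    rw [h6, ha, hg x]
    show g * ι ⟨x, _⟩ * g⁻¹ = h₁ * g * ι ⟨φ₀ x, _⟩ * (h₁ * g)⁻¹
    rw [hφ₀ x]
    group
  exact congrArg Subtype.val (hR.1 h5)

theorem normalSubsystem_extension [Finite G] {p : ℕ} [Fact p.Prime] {F : FusionSystem S}
    {ι : S →* G} (hR : F.IsRealizedBy ι) (T₀ : Sylow p G) (hT₀ : (T₀ : Subgroup G) = ι.range)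
    (N : Subgroup G) [hN : N.Normal] (α : MulAut ↥(preT ι N))
    (hα : α ∈ (normalSubsystem F ι N).autGroup (preT ι N)) :
    ∃ β ∈ F.autGroup (preT ι N ⊔ FusionSystem.centralizerIn S (preT ι N)),
      (∀ x : ↥(preT ι N), ((β (Subgroup.inclusion le_sup_left x) :
          ↥(preT ι N ⊔ FusionSystem.centralizerIn S (preT ι N))) : Ω) = ((α x : ↥(preT ι N)) : Ω)) ∧
      ∀ c : ↥(preT ι N ⊔ FusionSystem.centralizerIn S (preT ι N)),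
        (c : Ω) ∈ FusionSystem.centralizerIn S (preT ι N) →
        (c : Ω)⁻¹ * ((β c : ↥(preT ι N ⊔ FusionSystem.centralizerIn S (preT ι N))) : Ω) ∈
          preT ι N ⊓ Subgroup.centralizer ((preT ι N : Subgroup Ω) : Set Ω) := by
  classical
  have hfinS : Finite S := Finite.of_injective ι hR.1
  have hTS := preT_le ι N
  have hDS : FusionSystem.centralizerIn S (preT ι N) ≤ S := inf_le_left
  have hXS : preT ι N ⊔ FusionSystem.centralizerIn S (preT ι N) ≤ S := sup_le hTS hDS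
  have hιT : ∀ t : ↥(preT ι N), ι ⟨t, hTS t.2⟩ ∈ (T₀ : Subgroup G) ⊓ N := fun t =>
    ⟨by rw [hT₀]; exact ⟨_, rfl⟩, (mem_preT.mp t.2).2⟩
  have hιT' : ∀ y ∈ (T₀ : Subgroup G) ⊓ N, ∃ t : ↥(preT ι N), ι ⟨t, hTS t.2⟩ = y := by
    rintro y ⟨hy1, hy2⟩
    rw [hT₀] at hy1
    obtain ⟨s, rfl⟩ := hy1
    exact ⟨⟨s, mem_preT.mpr ⟨s.2, hy2⟩⟩, rfl⟩
  have hαE := (helper89.mem_autGroup_iff (normalSubsystem F ι N) le_rfl α).mp hα
  obtain ⟨n, hn, hαn⟩ := (mem_normalSubsystem_iff hR le_rfl (fun t => (α t).2)).mp hαE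
  have hαn' : ∀ t : ↥(preT ι N), ι ⟨((α t : ↥(preT ι N)) : Ω), hTS (α t).2⟩ =
      n * ι ⟨t, hTS t.2⟩ * n⁻¹ := fun t => hαn t
  have hnT : ∀ y ∈ (T₀ : Subgroup G) ⊓ N, n * y * n⁻¹ ∈ (T₀ : Subgroup G) ⊓ N := by
    intro y hy
    obtain ⟨t, rfl⟩ := hιT' y hy
    rw [← hαn' t]
    exact hιT (α t)
  have hnN : n ∈ Subgroup.normalizer ((((T₀ : Subgroup G) ⊓ N : Subgroup G)) : Set G) :=
    helper88.mem_normalizer_of_conj_mem hnT
  obtain ⟨k, hkN, hkD, hkT⟩ := exists_normalizing_same_action T₀ N hn hnN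
  have hιD : ∀ c ∈ FusionSystem.centralizerIn S (preT ι N), ∀ hc : c ∈ S,
      ι ⟨c, hc⟩ ∈ (T₀ : Subgroup G) ⊓
        Subgroup.centralizer ((((T₀ : Subgroup G) ⊓ N : Subgroup G)) : Set G) := by
    intro c hc hcS
    refine ⟨by rw [hT₀]; exact ⟨_, rfl⟩, ?_⟩
    show ι ⟨c, hcS⟩ ∈ Subgroup.centralizer ((((T₀ : Subgroup G) ⊓ N : Subgroup G)) : Set G)
    rw [Subgroup.mem_centralizer_iff]
    intro y hy
    obtain ⟨t, rfl⟩ := hιT' y hy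
    have h1 : (t : Ω) * c = c * t := Subgroup.mem_centralizer_iff.mp hc.2 t t.2
    rw [← map_mul, ← map_mul]
    congr 1
    exact Subtype.ext h1
  have hkX : ∀ x : ↥(preT ι N ⊔ FusionSystem.centralizerIn S (preT ι N)),
      k * ι ⟨x, hXS x.2⟩ * k⁻¹ ∈ ι.range := by
    have hle : preT ι N ⊔ FusionSystem.centralizerIn S (preT ι N) ≤
        preT ι ((T₀ : Subgroup G).comap (MulAut.conj k).toMonoidHom) := by
      refine sup_le ?_ ?_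
      · intro t ht
        refine mem_preT.mpr ⟨hTS ht, ?_⟩
        show k * ι ⟨t, _⟩ * k⁻¹ ∈ (T₀ : Subgroup G)
        rw [hkT _ (hιT ⟨t, ht⟩)]
        exact (hnT _ (hιT ⟨t, ht⟩)).1
      · intro c hc
        refine mem_preT.mpr ⟨hDS hc, ?_⟩
        show k * ι ⟨c, _⟩ * k⁻¹ ∈ (T₀ : Subgroup G)
        exact ((Subgroup.mem_normalizer_iff.mp hkD _).mp (hιD c hc (hDS hc))).1
    intro x
    obtain ⟨hxS, hx⟩ := mem_preT.mp (hle x.2)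
    rw [← hT₀]
    exact hx
  obtain ⟨b, hbS, hb⟩ := exists_hom_of_conj hR.1 hXS k hkX
  have hbF : b ∈ F.Hom _ := (hR.2 _ hXS b hbS).mpr ⟨k, hb⟩
  have hbT : ∀ t : ↥(preT ι N), b (Subgroup.inclusion le_sup_left t) =
      ((α t : ↥(preT ι N)) : Ω) := by
    intro t
    have h1 : ι ⟨b (Subgroup.inclusion le_sup_left t), hbS _⟩ =
        ι ⟨((α t : ↥(preT ι N)) : Ω), hTS (α t).2⟩ := by
      rw [hb]
      exact (hkT _ (hιT t)).trans (hαn' t).symm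
    exact congrArg Subtype.val (hR.1 h1)
  have hbD : ∀ c : ↥(preT ι N ⊔ FusionSystem.centralizerIn S (preT ι N)),
      (c : Ω) ∈ FusionSystem.centralizerIn S (preT ι N) →
        b c ∈ FusionSystem.centralizerIn S (preT ι N) := by
    intro c hc
    refine ⟨hbS c, ?_⟩
    show b c ∈ Subgroup.centralizer ((preT ι N : Subgroup Ω) : Set Ω)
    rw [Subgroup.mem_centralizer_iff]
    intro t ht
    have h1 : ι ⟨b c, hbS c⟩ ∈ (T₀ : Subgroup G) ⊓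
        Subgroup.centralizer ((((T₀ : Subgroup G) ⊓ N : Subgroup G)) : Set G) := by
      rw [hb]
      exact (Subgroup.mem_normalizer_iff.mp hkD _).mp (hιD c hc (hXS c.2))
    have h2 := Subgroup.mem_centralizer_iff.mp h1.2 _ (hιT ⟨t, ht⟩)
    rw [← map_mul, ← map_mul] at h2
    exact congrArg Subtype.val (hR.1 h2)
  have hbX : ∀ x, b x ∈ preT ι N ⊔ FusionSystem.centralizerIn S (preT ι N) := by
    intro x
    refine helper87.sup_hom_mem b _ (fun t => ?_) (fun c => ?_) x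
    · rw [hbT t]
      exact Subgroup.mem_sup_left (α t).2
    · exact Subgroup.mem_sup_right (hbD _ c.2)
  obtain ⟨β, hβ⟩ := helper89.exists_aut_of_mem F hbF hbX
  refine ⟨β, ?_, ?_, ?_⟩
  · rw [helper89.mem_autGroup_iff F hXS]
    have h1 : (preT ι N ⊔ FusionSystem.centralizerIn S (preT ι N)).subtype.comp β.toMonoidHom =
        b := by
      ext x
      exact hβ x
    rw [h1]
    exact hbF
  · intro x
    rw [hβ]
    exact hbT x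
  · intro c hc
    rw [hβ]
    have hbc := hbD c hc
    refine ⟨mem_preT.mpr ⟨S.mul_mem (S.inv_mem (hXS c.2)) (hbS c), ?_⟩, ?_⟩
    · have e : (⟨(c : Ω)⁻¹ * b c, S.mul_mem (S.inv_mem (hXS c.2)) (hbS c)⟩ : S) =
          (⟨c, hXS c.2⟩ : S)⁻¹ * ⟨b c, hbS c⟩ := rfl
      rw [e, map_mul, map_inv, hb]
      have h1 : (ι ⟨c, hXS c.2⟩)⁻¹ * k * ((ι ⟨c, hXS c.2⟩)⁻¹)⁻¹ ∈ N := hN.conj_mem k hkN _
      have h2 := N.mul_mem h1 (N.inv_mem hkN)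
      have e2 : (ι ⟨c, hXS c.2⟩)⁻¹ * k * ((ι ⟨c, hXS c.2⟩)⁻¹)⁻¹ * k⁻¹ =
          (ι ⟨c, hXS c.2⟩)⁻¹ * (k * ι ⟨c, hXS c.2⟩ * k⁻¹) := by group
      rw [e2] at h2
      exact h2
    · exact Subgroup.mul_mem _ (Subgroup.inv_mem _ hc.2) hbc.2

/-- **Normal subgroups give normal subsystems**, for a system realized by `ι : S →* G` on a Sylow
`p`-subgroup of the finite group `G`. -/
theorem normalSubsystem_isNormalIn [Finite G] {p : ℕ} [Fact p.Prime] {F : FusionSystem S}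
    {ι : S →* G} (hR : F.IsRealizedBy ι) (T₀ : Sylow p G) (hT₀ : (T₀ : Subgroup G) = ι.range)
    (N : Subgroup G) [hN : N.Normal] : (normalSubsystem F ι N).IsNormalIn F p :=
  ⟨⟨normalSubsystem_saturated hR T₀ hT₀ N, helper87.saturated_of_realizedBy hR T₀ hT₀,
    fun _ _ h => h.1, preT_stronglyClosed hR N,
    fun P hPT φ hφ α hα => normalSubsystem_conj hR N P hPT φ hφ α hα,
    fun P hPT φ hφ => normalSubsystem_frattini hR T₀ hT₀ N P hPT φ hφ⟩,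
   fun α hα => normalSubsystem_extension hR T₀ hT₀ N α hα⟩

/-- If `ι⁻¹(N)` is trivial (so `N` is a normal `p'`-subgroup), then `G ⧸ N` still realizes `F`. -/
theorem realizedBy_quotient [Finite G] {p : ℕ} [Fact p.Prime] {F : FusionSystem S} {ι : S →* G}
    (hR : F.IsRealizedBy ι) (T₀ : Sylow p G) (hT₀ : (T₀ : Subgroup G) = ι.range) (N : Subgroup G)
    [hN : N.Normal] (hT : preT ι N = ⊥) :
    F.IsRealizedBy ((QuotientGroup.mk' N).comp ι) ∧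
      ∃ T : Sylow p (G ⧸ N), (T : Subgroup (G ⧸ N)) = ((QuotientGroup.mk' N).comp ι).range := by
  classical
  have hbot : ∀ s : S, ι s ∈ N → s = 1 := by
    intro s hs
    have h1 : (s : Ω) ∈ preT ι N := mem_preT.mpr ⟨s.2, hs⟩
    rw [hT, Subgroup.mem_bot] at h1
    exact Subtype.ext h1
  have hinf : ∀ y ∈ (T₀ : Subgroup G), y ∈ N → y = 1 := by
    intro y hy hyN
    rw [hT₀] at hy
    obtain ⟨s, rfl⟩ := hy
    rw [hbot s hyN, map_one]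
  refine ⟨⟨?_, ?_⟩, ?_⟩
  · intro a b hab
    have h1 : (QuotientGroup.mk (ι a) : G ⧸ N) = QuotientGroup.mk (ι b) := hab
    rw [QuotientGroup.eq] at h1
    have h2 : ι (a⁻¹ * b) ∈ N := by
      rw [map_mul, map_inv]
      exact h1
    exact inv_mul_eq_one.mp (hbot _ h2)
  · intro P hP φ hφ
    rw [hR.2 P hP φ hφ]
    constructor
    · rintro ⟨g, hg⟩
      refine ⟨QuotientGroup.mk g, fun x => ?_⟩
      show (QuotientGroup.mk (ι ⟨φ x, hφ x⟩) : G ⧸ N) =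
        QuotientGroup.mk g * QuotientGroup.mk (ι ⟨x, hP x.2⟩) * (QuotientGroup.mk g)⁻¹
      rw [hg x]
      rfl
    · rintro ⟨gb, hgb⟩
      obtain ⟨g, rfl⟩ := QuotientGroup.mk_surjective gb
      have hmod : ∀ x : P, (ι ⟨φ x, hφ x⟩)⁻¹ * (g * ι ⟨x, hP x.2⟩ * g⁻¹) ∈ N := by
        intro x
        have h1 : (QuotientGroup.mk (ι ⟨φ x, hφ x⟩) : G ⧸ N) =
            QuotientGroup.mk (g * ι ⟨x, hP x.2⟩ * g⁻¹) := hgb x
        exact QuotientGroup.eq.mp h1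
      have hRp : IsPGroup p (((P.subgroupOf S).map ι).map (MulAut.conj g).toMonoidHom) := by
        apply helper87.isPGroup_map_conj
        refine T₀.isPGroup'.to_le ?_
        rw [hT₀]
        rintro _ ⟨s, -, rfl⟩
        exact ⟨s, rfl⟩
      have hRle : ((P.subgroupOf S).map ι).map (MulAut.conj g).toMonoidHom ≤
          (T₀ : Subgroup G) ⊔ N := by
        rintro _ ⟨_, ⟨s, hs, rfl⟩, rfl⟩
        show g * ι s * g⁻¹ ∈ _
        have h1 := hmod ⟨s, hs⟩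
        have h2 : g * ι s * g⁻¹ = ι ⟨φ ⟨s, hs⟩, hφ _⟩ *
            ((ι ⟨φ ⟨s, hs⟩, hφ _⟩)⁻¹ * (g * ι s * g⁻¹)) := by group
        rw [h2]
        refine Subgroup.mul_mem_sup ?_ h1
        rw [hT₀]
        exact ⟨_, rfl⟩
      obtain ⟨n, hn, hnR⟩ := helper88.exists_conj_le_sylow_sup N T₀ _ hRp hRle
      refine ⟨n * g, fun x => ?_⟩
      have hy : g * ι ⟨x, hP x.2⟩ * g⁻¹ ∈
          ((P.subgroupOf S).map ι).map (MulAut.conj g).toMonoidHom :=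
        ⟨_, ⟨⟨x, hP x.2⟩, x.2, rfl⟩, rfl⟩
      have h1 := hnR _ hy
      have h2 : (ι ⟨φ x, hφ x⟩)⁻¹ * (n * (g * ι ⟨x, hP x.2⟩ * g⁻¹) * n⁻¹) ∈
          (T₀ : Subgroup G) := by
        refine Subgroup.mul_mem _ (Subgroup.inv_mem _ ?_) h1
        rw [hT₀]
        exact ⟨_, rfl⟩
      have h3 : (ι ⟨φ x, hφ x⟩)⁻¹ * (n * (g * ι ⟨x, hP x.2⟩ * g⁻¹) * n⁻¹) ∈ N := by
        have h4 := hmod x
        have h5 : (g * ι ⟨x, hP x.2⟩ * g⁻¹)⁻¹ * n * ((g * ι ⟨x, hP x.2⟩ * g⁻¹)⁻¹)⁻¹ ∈ N :=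
          hN.conj_mem n hn _
        have h6 := N.mul_mem (N.mul_mem h4 h5) (N.inv_mem hn)
        have e : (ι ⟨φ x, hφ x⟩)⁻¹ * (g * ι ⟨x, hP x.2⟩ * g⁻¹) *
            ((g * ι ⟨x, hP x.2⟩ * g⁻¹)⁻¹ * n * ((g * ι ⟨x, hP x.2⟩ * g⁻¹)⁻¹)⁻¹) * n⁻¹ =
            (ι ⟨φ x, hφ x⟩)⁻¹ * (n * (g * ι ⟨x, hP x.2⟩ * g⁻¹) * n⁻¹) := by group
        rw [e] at h6
        exact h6
      have h8 : ι ⟨φ x, hφ x⟩ = n * (g * ι ⟨x, hP x.2⟩ * g⁻¹) * n⁻¹ :=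
        inv_mul_eq_one.mp (hinf _ h2 h3)
      rw [h8]
      group
  · refine ⟨T₀.mapSurjective (QuotientGroup.mk'_surjective N), ?_⟩
    rw [Sylow.coe_mapSurjective, hT₀, MonoidHom.map_range]

/-- If `ι⁻¹(N) = S` and the subsystem induced by `N` is all of `F`, then `N` realizes `F`. -/
theorem realizedBy_normal {p : ℕ} {F : FusionSystem S} {ι : S →* G}
    (hR : F.IsRealizedBy ι) (T₀ : Sylow p G) (hT₀ : (T₀ : Subgroup G) = ι.range) (N : Subgroup G)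
    (hT : preT ι N = S) (hHom : ∀ P : Subgroup Ω, (normalSubsystem F ι N).Hom P = F.Hom P) :
    ∃ ι' : S →* ↥N, F.IsRealizedBy ι' ∧ ∃ T : Sylow p ↥N, (T : Subgroup ↥N) = ι'.range := by
  have hmem : ∀ s : S, ι s ∈ N := by
    intro s
    have h1 : (s : Ω) ∈ preT ι N := by
      rw [hT]
      exact s.2
    exact (mem_preT.mp h1).2
  have hT₀N : (T₀ : Subgroup G) ≤ N := by
    rw [hT₀]
    rintro _ ⟨s, rfl⟩
    exact hmem s
  refine ⟨ι.codRestrict N hmem, ⟨?_, ?_⟩, T₀.subtype hT₀N, ?_⟩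
  · intro a b hab
    exact hR.1 (congrArg Subtype.val hab)
  · intro P hP φ hφ
    constructor
    · intro h
      rw [← hHom P] at h
      obtain ⟨-, -, -, n, hn, hφn⟩ := h
      exact ⟨⟨n, hn⟩, fun x => Subtype.ext (hφn x _ _)⟩
    · rintro ⟨g, hg⟩
      exact (hR.2 P hP φ hφ).mpr ⟨g, fun x => congrArg Subtype.val (hg x)⟩
  · rw [Sylow.coe_subtype, hT₀]
    ext y
    rw [Subgroup.mem_subgroupOf]
    constructor
    · rintro ⟨s, hs⟩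
      exact ⟨s, Subtype.ext hs⟩
    · rintro ⟨s, rfl⟩
      exact ⟨s, rfl⟩

end realized

end Cfsg.Agent.Lib.helper90
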