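import Mathlib
import Cfsg.Prelude.Def_OddOrderLocal

/-!
# S1363 (B-G 15.1: `N_G(U) ≰ M`): the context of the cyclic case (helper90)

See `tools/S1363_Skel.lean.txt` for the exact statements of the pieces.
-/

set_option autoImplicit false

namespace Cfsg.Agent.Lib.helper90.BG1363

open Cfsg

/-- The setting of the cyclic case of S1363, together with the hypothesis to be refuted:
`(K, U)` is a sigma-decomposition of the maximal subgroup `M`, `K ≠ 1`, `U ≠ 1`, every prime
divisor of `|U|` has rank one in `M`, and `N_G(U) ≤ M`. -/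
structure Ctx {G : Type*} [Group G] (M K U : Subgroup G) : Prop where
  hM : IsCoatom M
  hKU : IsSigmaDecomposition M K U
  hK1 : K ≠ ⊥
  hU1 : U ≠ ⊥
  hrk : ∀ p : ℕ, p.Prime → p ∣ Nat.card U → PRankLE p 1 ↥M
  hNU : Subgroup.normalizer (U : Set G) ≤ M

end Cfsg.Agent.Lib.helper90.BG1363
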