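import Mathlib
import Cfsg.Agent.Lib.helper90.BG1363Defs
import Cfsg.Agent.S1350
import Cfsg.Agent.S1430
import Cfsg.Agent.Lib.helper69.BGKappaB
import Cfsg.Agent.Lib.helper27.BGKPrime
import Cfsg.Agent.Lib.helper54.BG8PNU
import Cfsg.Agent.Lib.helper28.PConn
import Cfsg.Agent.Lib.lead.Hall

/-!
# S1363: PIECE B -- basic facts of the context (helper90)

Exact statements of `tools/S1363_Skel.lean.txt`.
-/

set_option autoImplicit false

namespace Cfsg.Agent.Lib.helper90.BG1363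

open Cfsg

variable {G : Type*} [Group G]

/-- The landed statement S1430 in hypothesis form. -/
theorem h90_h30 [Finite G] (hG : IsMinSimpleOddOrder G) : Cfsg.Agent.Lib.helper69.H1430 G :=
  fun M hM K hK hK1 => Cfsg.Agent.S1430.result hG M hM K hK hK1

/-- `U` is abelian. -/
theorem ctx_comm [Finite G] (hG : IsMinSimpleOddOrder G) {M K U : Subgroup G} (c : Ctx M K U) :
    ∀ a ∈ U, ∀ b ∈ U, a * b = b * a :=
  (Cfsg.Agent.Lib.helper69.bgk_decomp_facts hG (h90_h30 hG) M c.hM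
    (Cfsg.Agent.S1350.result hG M c.hM).1 K U c.hKU c.hK1).1

/-- `K` acts regularly on `U`. -/
theorem ctx_reg [Finite G] (hG : IsMinSimpleOddOrder G) {M K U : Subgroup G} (c : Ctx M K U) :
    ∀ k ∈ K, k ≠ 1 → U ⊓ Subgroup.centralizer ({k} : Set G) = ⊥ :=
  (Cfsg.Agent.Lib.helper69.bgk_decomp_facts hG (h90_h30 hG) M c.hM
    (Cfsg.Agent.S1350.result hG M c.hM).1 K U c.hKU c.hK1).2

/-- `|K|` is prime (helper27's LEMMA P). -/
theorem ctx_Kprime [Finite G] (hG : IsMinSimpleOddOrder G) {M K U : Subgroup G} (c : Ctx M K U) :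
    (Nat.card K).Prime :=
  Cfsg.Agent.Lib.helper27.BGKP.kappa_card_prime hG (h90_h30 hG) M c.hM K c.hKU.hall c.hK1 U
    c.hKU.compl c.hU1

/-- `U` is a Hall subgroup of `M` for the primes outside `σ(M) ∪ κ(M)`. -/
theorem ctx_hall [Finite G] (hG : IsMinSimpleOddOrder G) {M K U : Subgroup G} (c : Ctx M K U) :
    IsPiHallOf {q | q.Prime ∧ q ∉ kappa M ∧ q ∉ sigma M} U M :=
  Cfsg.Agent.Lib.helper69.bgk_decomp_hall (Cfsg.Agent.S1350.result hG M c.hM).1 c.hKU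

/-- `U` acts regularly on `M_σ`. -/
theorem ctx_free [Finite G] (hG : IsMinSimpleOddOrder G) {M K U : Subgroup G} (c : Ctx M K U) :
    ∀ u ∈ U, u ≠ 1 → sigmaCore M ⊓ Subgroup.centralizer ({u} : Set G) = ⊥ := by
  intro u hu hu1
  rw [Subgroup.eq_bot_iff_forall]
  intro y hy
  by_contra hy1
  obtain ⟨hyS, hyC⟩ := Subgroup.mem_inf.mp hy
  have hcomm : u * y = y * u := (Subgroup.mem_centralizer_iff.mp hyC) u (Set.mem_singleton u)
  have ho : orderOf u ≠ 1 := fun h => hu1 (orderOf_eq_one_iff.mp h)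
  obtain ⟨p, hp, hpu⟩ := Nat.exists_prime_and_dvd ho
  have hpU : p ∣ Nat.card U := by
    have h1 := orderOf_dvd_natCard (⟨u, hu⟩ : U)
    rw [Subgroup.orderOf_mk] at h1
    exact hpu.trans h1
  obtain ⟨-, hpκ, hpσ⟩ := (ctx_hall hG c).2.1 p hp hpU
  have heo : orderOf (u ^ (orderOf u / p)) = p :=
    orderOf_pow_orderOf_div (orderOf_pos u).ne' hpu
  have heM : u ^ (orderOf u / p) ∈ M := c.hKU.compl.1 (U.pow_mem hu _)
  have hey : u ^ (orderOf u / p) * y = y * u ^ (orderOf u / p) :=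
    (Commute.pow_left (show Commute u y from hcomm) _).eq
  exact hpκ (Cfsg.Agent.Lib.helper54.PNU.mem_kappa_of_nonregular hG.1 M p hp hpσ
    (c.hrk p hp hpU) _ heM heo y hyS hy1 hey)

/-- `N_G(U) = U K`. -/
theorem ctx_norm [Finite G] (hG : IsMinSimpleOddOrder G) {M K U : Subgroup G} (c : Ctx M K U) :
    ∀ n ∈ Subgroup.normalizer (U : Set G), ∃ u ∈ U, ∃ k ∈ K, n = u * k := by
  intro n hn
  have hnM : n ∈ M := c.hNU hn
  obtain ⟨hUM, hKSM, hdisj, hfac⟩ := c.hKU.compl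
  obtain ⟨a, ha, b, hb, rfl⟩ := hfac n hnM
  have hKM : K ≤ M := c.hKU.hall.1
  have hKn : K ≤ Subgroup.normalizer (sigmaCore M : Set G) :=
    hKM.trans (Cfsg.Agent.Lib.helper71.BGA.le_normalizer_sigmaCore M)
  rw [sup_comm] at hb
  obtain ⟨s, hs, k, hk, rfl⟩ :=
    Cfsg.Agent.Lib.helper29.exists_mul_of_mem_sup_of_le_normalizer hKn hb
  have hsN : s ∈ Subgroup.normalizer (U : Set G) := by
    have e : s = a⁻¹ * (a * (s * k)) * k⁻¹ := by group
    rw [e]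
    exact Subgroup.mul_mem _ (Subgroup.mul_mem _ (Subgroup.inv_mem _ (Subgroup.le_normalizer ha)) hn)
      (Subgroup.inv_mem _ (c.hKU.normal hk))
  obtain ⟨u0, hu0, hu01⟩ : ∃ u0 ∈ U, u0 ≠ 1 := by
    by_contra h
    push Not at h
    exact c.hU1 ((Subgroup.eq_bot_iff_forall U).mpr h)
  have h1 : s * u0 * s⁻¹ * u0⁻¹ ∈ U :=
    U.mul_mem ((Subgroup.mem_normalizer_iff.mp hsN u0).mp hu0) (U.inv_mem hu0)
  have h2 : s * u0 * s⁻¹ * u0⁻¹ ∈ sigmaCore M := by
    have h3 : u0 * s⁻¹ * u0⁻¹ ∈ sigmaCore M :=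
      (Subgroup.mem_normalizer_iff.mp
        (Cfsg.Agent.Lib.helper71.BGA.le_normalizer_sigmaCore M (hUM hu0)) s⁻¹).mp
        ((sigmaCore M).inv_mem hs)
    have e : s * u0 * s⁻¹ * u0⁻¹ = s * (u0 * s⁻¹ * u0⁻¹) := by group
    rw [e]
    exact (sigmaCore M).mul_mem hs h3
  have h4 : s * u0 * s⁻¹ * u0⁻¹ ∈ U ⊓ (K ⊔ sigmaCore M) :=
    Subgroup.mem_inf.mpr ⟨h1, (le_sup_right : sigmaCore M ≤ K ⊔ sigmaCore M) h2⟩
  rw [hdisj, Subgroup.mem_bot] at h4
  have h5 : u0 * s = s * u0 := by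
    have e : s * u0 = (s * u0 * s⁻¹ * u0⁻¹) * (u0 * s) := by group
    rw [e, h4, one_mul]
  have h6 : s ∈ sigmaCore M ⊓ Subgroup.centralizer ({u0} : Set G) := by
    refine Subgroup.mem_inf.mpr ⟨hs, ?_⟩
    rw [Subgroup.mem_centralizer_iff]
    intro h hh
    rw [Set.mem_singleton_iff] at hh
    rw [hh]
    exact h5
  rw [ctx_free hG c u0 hu0 hu01, Subgroup.mem_bot] at h6
  subst h6
  exact ⟨a, ha, k, hk, by rw [one_mul]⟩

/-- For a prime `r ∣ |U|`: a `K`-invariant subgroup of order `r` of `U`. -/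
theorem ctx_omega [Finite G] (hG : IsMinSimpleOddOrder G) {M K U : Subgroup G} (c : Ctx M K U)
    (r : ℕ) (hr : r.Prime) (hrU : r ∣ Nat.card U) :
    ∃ X : Subgroup G, X ≤ U ∧ Nat.card X = r ∧ K ≤ Subgroup.normalizer (X : Set G) := by
  have hUc : IsMulCommutative U := ⟨⟨fun a b => Subtype.ext (ctx_comm hG c a a.2 b b.2)⟩⟩
  obtain ⟨X, hXdef⟩ : ∃ X : Subgroup G, X = Cfsg.Agent.Lib.helper27.BGKP.omegaSub U hUc r :=
    ⟨_, rfl⟩
  have hmem : ∀ x : G, x ∈ X ↔ x ∈ U ∧ x ^ r = 1 := by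
    intro x
    rw [hXdef]
    exact Cfsg.Agent.Lib.helper27.BGKP.mem_omegaSub
  have hXU : X ≤ U := fun x hx => ((hmem x).mp hx).1
  have hfact : Fact r.Prime := ⟨hr⟩
  have hconj : ∀ k ∈ K, ∀ x ∈ X, k * x * k⁻¹ ∈ X := by
    intro k hk x hx
    obtain ⟨hxU, hxr⟩ := (hmem x).mp hx
    refine (hmem _).mpr ⟨(Subgroup.mem_normalizer_iff.mp (c.hKU.normal hk) x).mp hxU, ?_⟩
    rw [conj_pow, hxr, mul_one, mul_inv_cancel]
  refine ⟨X, hXU, ?_, ?_⟩
  · have hXp : IsPGroup r X := by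
      intro x
      refine ⟨1, ?_⟩
      rw [pow_one]
      exact Subtype.ext ((hmem x).mp x.2).2
    obtain ⟨n, hn⟩ := IsPGroup.iff_card.mp hXp
    obtain ⟨g, hg⟩ := exists_prime_orderOf_dvd_card' (G := U) r hrU
    have hgr : (g : G) ^ r = 1 := by
      have h1 : g ^ r = 1 := by rw [← hg]; exact pow_orderOf_eq_one g
      exact congrArg Subtype.val h1
    have hgX : (g : G) ∈ X := (hmem _).mpr ⟨g.2, hgr⟩
    have hg1 : (g : G) ≠ 1 := by
      intro h
      have h2 : g = 1 := Subtype.ext h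
      rw [h2, orderOf_one] at hg
      exact hr.one_lt.ne hg
    have hX1 : Nat.card X ≠ 1 := by
      intro h
      have h2 := Subgroup.card_eq_one.mp h
      rw [h2, Subgroup.mem_bot] at hgX
      exact hg1 hgX
    have hle : Nat.card X ≤ r ^ 1 := by
      by_contra hlt
      push Not at hlt
      have hXc : IsMulCommutative X :=
        ⟨⟨fun a b => Subtype.ext (ctx_comm hG c a (hXU a.2) b (hXU b.2))⟩⟩
      exact (Cfsg.Agent.Lib.helper28.not_pRankLE_subgroup_iff r 1 M).mpr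
        ⟨X, hXU.trans c.hKU.compl.1, ⟨hXc, fun a ha => ((hmem a).mp ha).2⟩, hlt⟩
        (c.hrk r hr hrU)
    rw [hn] at hle hX1 ⊢
    have hn1 : n ≠ 0 := by
      rintro rfl
      exact hX1 (pow_zero r)
    have hn2 : n ≤ 1 := (Nat.pow_le_pow_iff_right hr.one_lt).mp hle
    have hn3 : n = 1 := by omega
    rw [hn3, pow_one]
  · intro k hk
    rw [Subgroup.mem_normalizer_iff]
    intro x
    constructor
    · exact hconj k hk x
    · intro hx
      have h1 := hconj k⁻¹ (K.inv_mem hk) _ hx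
      have e : k⁻¹ * (k * x * k⁻¹) * k⁻¹⁻¹ = x := by group
      rwa [e] at h1

/-- Every element of a `K`-invariant subgroup `V` of `U` is a commutator `[v, k]`, `v ∈ V`
(for any `k ∈ K`, `k ≠ 1`). -/
theorem ctx_comm_surj [Finite G] (hG : IsMinSimpleOddOrder G) {M K U : Subgroup G} (c : Ctx M K U)
    (V : Subgroup G) (hVU : V ≤ U) (hKV : K ≤ Subgroup.normalizer (V : Set G))
    (k : G) (hk : k ∈ K) (hk1 : k ≠ 1) :
    ∀ w ∈ V, ∃ v ∈ V, w = v * k * v⁻¹ * k⁻¹ := by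
  have hreg := ctx_reg hG c k hk hk1
  have hmem : ∀ v ∈ V, v * k * v⁻¹ * k⁻¹ ∈ V := by
    intro v hv
    have h1 : k * v⁻¹ * k⁻¹ ∈ V :=
      (Subgroup.mem_normalizer_iff.mp (hKV hk) v⁻¹).mp (V.inv_mem hv)
    have e : v * k * v⁻¹ * k⁻¹ = v * (k * v⁻¹ * k⁻¹) := by group
    rw [e]
    exact V.mul_mem hv h1
  obtain ⟨f, hf⟩ : ∃ f : V → V, ∀ v : V, ((f v : V) : G) = (v : G) * k * (v : G)⁻¹ * k⁻¹ :=
    ⟨fun v => ⟨(v : G) * k * (v : G)⁻¹ * k⁻¹, hmem v v.2⟩, fun _ => rfl⟩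
  have hinj : Function.Injective f := by
    intro v v' h
    have h1 : (v : G) * k * (v : G)⁻¹ * k⁻¹ = (v' : G) * k * (v' : G)⁻¹ * k⁻¹ := by
      rw [← hf v, ← hf v', h]
    have h3 : (v : G) * k * (v : G)⁻¹ = (v' : G) * k * (v' : G)⁻¹ := mul_right_cancel h1
    have h2 : (v' : G)⁻¹ * v ∈ U ⊓ Subgroup.centralizer ({k} : Set G) := by
      refine Subgroup.mem_inf.mpr ⟨U.mul_mem (U.inv_mem (hVU v'.2)) (hVU v.2), ?_⟩
      rw [Subgroup.mem_centralizer_iff]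
      intro h hh
      rw [Set.mem_singleton_iff] at hh
      rw [hh]
      calc k * ((v' : G)⁻¹ * v) = (v' : G)⁻¹ * ((v' : G) * k * (v' : G)⁻¹) * v := by group
        _ = (v' : G)⁻¹ * ((v : G) * k * (v : G)⁻¹) * v := by rw [h3]
        _ = (v' : G)⁻¹ * v * k := by group
    rw [hreg, Subgroup.mem_bot] at h2
    have h4 : (v : G) = v' := by
      have e : (v : G) = (v' : G) * ((v' : G)⁻¹ * v) := by group
      rw [e, h2, mul_one]
    exact Subtype.ext h4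
  have hsurj := Finite.surjective_of_injective hinj
  intro w hw
  obtain ⟨v, hv⟩ := hsurj ⟨w, hw⟩
  refine ⟨v, v.2, ?_⟩
  rw [← hf v, hv]

/-- Definition of `κ`: a prime `p ∉ σ(L)` of rank one in `L` such that some element `y` of order `p`
of `L` centralizes a non-identity element of `L_σ` lies in `κ(L)`. -/
theorem mem_kappa_of_rank_one [Finite G] (hG : IsMinSimpleOddOrder G) (L : Subgroup G) (p : ℕ)
    (hp : p.Prime) (hpσ : p ∉ sigma L) (hrk : PRankLE p 1 ↥L) (y k : G) (hy : y ∈ L)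
    (hyo : orderOf y = p) (hk : k ∈ sigmaCore L) (hk1 : k ≠ 1) (hyk : y * k = k * y) :
    p ∈ kappa L :=
  Cfsg.Agent.Lib.helper54.PNU.mem_kappa_of_nonregular hG.1 L p hp hpσ hrk y hy hyo k hk hk1 hyk

/-- A subgroup `Y` of prime order in `κ(L)` lies in a Hall `κ(L)`-subgroup of the maximal
subgroup `L`. -/
theorem exists_hall_kappa_ge [Finite G] (hG : IsMinSimpleOddOrder G) (L : Subgroup G)
    (hL : IsCoatom L) (Y : Subgroup G) (hYL : Y ≤ L) (hY : Nat.card Y ∈ kappa L) :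
    ∃ KL : Subgroup G, IsPiHallOf (kappa L) KL L ∧ Y ≤ KL := by
  have hLs : Group.IsSolvable L := hG.2.2.2 L hL.1
  obtain ⟨H0, hH0⟩ := Cfsg.Agent.Lib.lead.exists_isPiHall_of_isSolvable (kappa L) (↥L)
  have hA' : IsPiSubgroup (kappa L) (Y.subgroupOf L) := by
    intro p hp hd
    rw [Nat.card_congr (Subgroup.subgroupOfEquivOfLe hYL).toEquiv] at hd
    have h1 : p = Nat.card Y := (Nat.prime_dvd_prime_iff_eq hp hY.1).mp hd
    rw [h1]
    exact hY
  obtain ⟨g, hg⟩ := Cfsg.Agent.Lib.lead.le_conj_isPiHall_of_isSolvable hH0 hA'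
  have hH' := Cfsg.Agent.Lib.lead.isPiHall_map_conj hH0 g
  obtain ⟨H, hHdef⟩ : ∃ H : Subgroup ↥L, H = H0.map (MulAut.conj g).toMonoidHom := ⟨_, rfl⟩
  rw [← hHdef] at hg hH'
  obtain ⟨hH1, hH2⟩ := hH'
  have hcard : Nat.card ↥(H.map L.subtype) = Nat.card H :=
    (Nat.card_congr (Subgroup.equivMapOfInjective H L.subtype
      (Subgroup.subtype_injective L)).toEquiv).symm
  have hsub : (H.map L.subtype).subgroupOf L = H := by
    ext z
    rw [Subgroup.mem_subgroupOf]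
    constructor
    · rintro ⟨w, hw, hwz⟩
      have : w = z := Subtype.ext hwz
      rwa [← this]
    · intro hz
      exact ⟨z, hz, rfl⟩
  refine ⟨H.map L.subtype, ⟨Subgroup.map_subtype_le _, ?_, ?_⟩, ?_⟩
  · intro p hp hdvd
    rw [hcard] at hdvd
    exact hH1 p hp hdvd
  · intro p hp hpπ hdvd
    apply hH2 p hp hpπ
    rwa [Subgroup.relIndex, hsub] at hdvd
  · intro a ha
    have h1 : (⟨a, hYL ha⟩ : ↥L) ∈ Y.subgroupOf L := by
      rw [Subgroup.mem_subgroupOf]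
      exact ha
    exact ⟨⟨a, hYL ha⟩, hg h1, rfl⟩

end Cfsg.Agent.Lib.helper90.BG1363
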