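import Mathlib
import Cfsg.Agent.Lib.helper90.BG1363B
import Cfsg.Agent.S1418
import Cfsg.Agent.Lib.helper25.BG1367
import Cfsg.Agent.Lib.helper8.BGTen1
import Cfsg.Agent.Lib.helper13.BG11a

/-!
# S1363: PIECE TM -- a prime of `U` of rank two in `M` (helper90; argument of helper29)

Exact statement of `tools/S1363_Skel.lean.txt`.
-/

set_option autoImplicit false

namespace Cfsg.Agent.Lib.helper90.BG1363

open Cfsg

variable {G : Type*} [Group G]

theorem case_tau2M [Finite G] (hG : IsMinSimpleOddOrder G) (M : Subgroup G) (hM : IsCoatom M)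
    (K U : Subgroup G) (hKU : IsSigmaDecomposition M K U) (hK1 : K ≠ ⊥)
    (hNU : Subgroup.normalizer (U : Set G) ≤ M) (p : ℕ) (hp : p.Prime) (hpU : p ∣ Nat.card U)
    (hrk : ¬ PRankLE p 1 ↥M) : False := by
  have hHall := (Cfsg.Agent.S1350.result hG M hM).1
  obtain ⟨hcomm, hreg⟩ :=
    Cfsg.Agent.Lib.helper69.bgk_decomp_facts hG (h90_h30 hG) M hM hHall K U hKU hK1
  have hUH := Cfsg.Agent.Lib.helper69.bgk_decomp_hall hHall hKU
  obtain ⟨-, hpκ, hpσ⟩ := hUH.2.1 p hp hpU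
  have hfact : Fact p.Prime := ⟨hp⟩
  have hrk2 : PRankLE p 2 ↥M := by
    by_contra h
    exact hpσ (Cfsg.Agent.Lib.helper8.bg_alpha_sub_sigma hG
      (Cfsg.Agent.Lib.helper13.bgx_uniq hG) M hM ⟨hp, h⟩)
  have hτ2 : p ∈ tau2 M := ⟨hp, hpσ, hrk2, hrk⟩
  have hE : IsComplIn (U ⊔ K) (sigmaCore M) M :=
    Cfsg.Agent.Lib.helper25.BG1367.compl_of_halls M K U hHall hKU.hall hUH hKU.normal
  obtain ⟨B, hBM, ⟨hBc, hBe⟩, hBlt⟩ :=
    (Cfsg.Agent.Lib.helper28.not_pRankLE_subgroup_iff p 1 M).mp hrk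
  have hBp : IsPGroup p B := by
    intro b
    refine ⟨1, ?_⟩
    rw [pow_one]
    exact Subtype.ext (hBe b b.2)
  have hBle : Nat.card B ≤ p ^ 2 := by
    by_contra h
    push Not at h
    exact (Cfsg.Agent.Lib.helper28.not_pRankLE_subgroup_iff p 2 M).mpr
      ⟨B, hBM, ⟨hBc, hBe⟩, h⟩ hrk2
  have hBcard : Nat.card B = p ^ 2 := by
    obtain ⟨n, hn⟩ := IsPGroup.iff_card.mp hBp
    rw [hn] at hBlt hBle ⊢
    have h1 : 1 < n := (Nat.pow_lt_pow_iff_right hp.one_lt).mp hBlt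
    have h2 : n ≤ 2 := (Nat.pow_le_pow_iff_right hp.one_lt).mp hBle
    have h3 : n = 2 := by omega
    rw [h3]
  obtain ⟨g, hgM, hg⟩ := Cfsg.Agent.Lib.helper69.bgk_conj_into_hall hUH
    (p := p) ⟨hp, hpκ, hpσ⟩ hBM hBp
  obtain ⟨A, hAdef⟩ : ∃ A : Subgroup G, A = B.map (MulAut.conj g).toMonoidHom := ⟨_, rfl⟩
  have hAmem : ∀ a ∈ A, ∃ b ∈ B, a = g * b * g⁻¹ := by
    intro a ha
    rw [hAdef] at ha
    obtain ⟨b, hb, rfl⟩ := ha
    exact ⟨b, hb, by simp [MulAut.conj_apply]⟩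
  have hAU : A ≤ U := by
    intro a ha
    obtain ⟨b, hb, rfl⟩ := hAmem a ha
    exact hg b hb
  have hAcard : Nat.card A = p ^ 2 := by
    rw [hAdef, ← hBcard]
    exact (Nat.card_congr (Subgroup.equivMapOfInjective B (MulAut.conj g).toMonoidHom
      (MulAut.conj g).injective).toEquiv).symm
  have hAc : IsMulCommutative A :=
    ⟨⟨fun a b => Subtype.ext (hcomm a (hAU a.2) b (hAU b.2))⟩⟩
  have hAe : ∀ a ∈ A, a ^ p = 1 := by
    intro a ha
    obtain ⟨b, hb, rfl⟩ := hAmem a ha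
    rw [conj_pow, hBe b hb, mul_one, mul_inv_cancel]
  have hAE : A ≤ U ⊔ K := hAU.trans le_sup_left
  obtain ⟨-, ⟨hCA, hMN, hnot⟩, -⟩ :=
    Cfsg.Agent.S1418.result hG M hM (U ⊔ K) hE p hτ2 A ⟨hAE, ⟨hAc, hAe⟩, hAcard⟩
  have hA1 : A ≠ ⊥ := by
    rintro h
    rw [h, Subgroup.card_bot] at hAcard
    have h2 : 1 < p ^ 2 := Nat.one_lt_pow (by norm_num) hp.one_lt
    omega
  -- `C_G(A) = U`
  have hCU : ∀ c : G, c ∈ Subgroup.centralizer (A : Set G) ↔ c ∈ U := by
    intro c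
    constructor
    · intro hc
      have h1 : c ∈ U ⊔ K := by
        have h2 := hCA hc
        rw [hMN] at h2
        exact h2
      obtain ⟨u, hu, k, hk, rfl⟩ :=
        Cfsg.Agent.Lib.helper29.exists_mul_of_mem_sup_of_le_normalizer hKU.normal h1
      by_cases hk1 : k = 1
      · rw [hk1, mul_one]
        exact hu
      · exfalso
        apply hA1
        rw [Subgroup.eq_bot_iff_forall]
        intro a ha
        have h3 : a ∈ U ⊓ Subgroup.centralizer ({k} : Set G) := by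
          refine Subgroup.mem_inf.mpr ⟨hAU ha, ?_⟩
          rw [Subgroup.mem_centralizer_iff]
          intro h hh
          rw [Set.mem_singleton_iff] at hh
          rw [hh]
          have h4 : a * (u * k) = u * k * a := (Subgroup.mem_centralizer_iff.mp hc) a ha
          have h5 : a * u = u * a := hcomm a (hAU ha) u hu
          calc k * a = u⁻¹ * (u * k * a) := by group
            _ = u⁻¹ * (a * (u * k)) := by rw [h4]
            _ = u⁻¹ * (a * u) * k := by group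
            _ = u⁻¹ * (u * a) * k := by rw [h5]
            _ = a * k := by group
        rw [hreg k hk hk1, Subgroup.mem_bot] at h3
        exact h3
    · intro hc
      rw [Subgroup.mem_centralizer_iff]
      intro a ha
      exact hcomm a (hAU ha) c hc
  apply hnot
  intro n hn
  apply hNU
  have hconj : ∀ m ∈ Subgroup.normalizer (A : Set G), ∀ x ∈ U, m * x * m⁻¹ ∈ U := by
    intro m hm x hx
    rw [← hCU]
    rw [Subgroup.mem_centralizer_iff]
    intro a ha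
    have h1 : m⁻¹ * a * m⁻¹⁻¹ ∈ A :=
      (Subgroup.mem_normalizer_iff.mp (Subgroup.inv_mem _ hm) a).mp ha
    have h2 : m⁻¹ * a * m⁻¹⁻¹ * x = x * (m⁻¹ * a * m⁻¹⁻¹) :=
      (Subgroup.mem_centralizer_iff.mp ((hCU x).mpr hx)) _ h1
    calc a * (m * x * m⁻¹) = m * (m⁻¹ * a * m⁻¹⁻¹ * x) * m⁻¹ := by group
      _ = m * (x * (m⁻¹ * a * m⁻¹⁻¹)) * m⁻¹ := by rw [h2]
      _ = m * x * m⁻¹ * a := by group
  rw [Subgroup.mem_normalizer_iff]
  intro x
  constructor
  · exact hconj n hn x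
  · intro hx
    have h1 := hconj n⁻¹ (Subgroup.inv_mem _ hn) _ hx
    have e : n⁻¹ * (n * x * n⁻¹) * n⁻¹⁻¹ = x := by group
    rwa [e] at h1

end Cfsg.Agent.Lib.helper90.BG1363
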