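import Mathlib
import Cfsg.Agent.Lib.helper90.BG1363B
import Cfsg.Agent.Lib.helper90.BG1363TM
import Cfsg.Agent.Lib.helper69.BG1363KP
import Cfsg.Agent.Lib.helper36.BG1363T2
import Cfsg.Agent.Lib.helper26.BG1363SC
import Cfsg.Agent.Lib.helper26.BG1363SG
import Cfsg.Agent.S1350
import Cfsg.Agent.S1409
import Cfsg.Agent.S1430
import Cfsg.Agent.Lib.helper69.BGKappaB
import Cfsg.Agent.Lib.helper25.BGTenNineC

/-!
# S1363 (B-G 15.1(c)): `K ≠ 1` implies `U` abelian and `N_G(U) ≰ M` -- assembly (helper90)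

Pieces: B, TM (helper90), KP (helper69), T2 (helper36), SC, SG (helper26).
See `tools/S1363_SPEC.md`.
-/

set_option autoImplicit false

namespace Cfsg.Agent.Lib.helper90.BG1363

open Cfsg

variable {G : Type*} [Group G]

theorem normalizer_not_le [Finite G] (hG : IsMinSimpleOddOrder G) (M : Subgroup G)
    (hM : IsCoatom M) (K U : Subgroup G) (hKU : IsSigmaDecomposition M K U) (hK1 : K ≠ ⊥) :
    ¬ Subgroup.normalizer (U : Set G) ≤ M := by
  intro hNU
  have hU1 : U ≠ ⊥ := by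
    rintro rfl
    have h1 : Subgroup.normalizer (((⊥ : Subgroup G) : Subgroup G) : Set G) = ⊤ :=
      Subgroup.normalizer_eq_top_iff.mpr inferInstance
    rw [h1] at hNU
    exact hM.1 (top_le_iff.mp hNU)
  by_cases hrk : ∀ p : ℕ, p.Prime → p ∣ Nat.card U → PRankLE p 1 ↥M
  · have c : Ctx M K U := ⟨hM, hKU, hK1, hU1, hrk, hNU⟩
    have hcard : Nat.card U ≠ 1 := fun h => hU1 (Subgroup.card_eq_one.mp h)
    obtain ⟨r, hr, hrU⟩ := Nat.exists_prime_and_dvd hcard
    obtain ⟨X, hXU, hX, hKX⟩ := ctx_omega hG c r hr hrU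
    have : Fact r.Prime := ⟨hr⟩
    have hXp : IsPGroup r X := IsPGroup.of_card (n := 1) (by rw [hX, pow_one])
    have hX1 : X ≠ ⊥ := by
      rintro rfl
      rw [Subgroup.card_bot] at hX
      exact hr.one_lt.ne hX
    have hNtop := Cfsg.Agent.Lib.helper25.BGT.normalizer_ne_top_of_isPGroup hG r X hXp hX1
    obtain ⟨H, hH, hNH⟩ := (eq_top_or_exists_le_coatom _).resolve_left hNtop
    have hUH : U ≤ H := by
      intro u hu
      apply hNH
      rw [Subgroup.mem_normalizer_iff]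
      intro x
      have comm : ∀ y ∈ X, u * y = y * u := fun y hy => ctx_comm hG c u hu y (hXU hy)
      constructor
      · intro hx
        have e : u * x * u⁻¹ = x := by rw [comm x hx]; group
        rw [e]
        exact hx
      · intro hx
        have e : x = u⁻¹ * (u * x * u⁻¹) * u := by group
        have e2 : u⁻¹ * (u * x * u⁻¹) * u = u * x * u⁻¹ := by
          rw [mul_assoc, ← comm _ hx]
          group
        rw [e, e2]
        exact hx
    have hKH : K ≤ H := hKX.trans hNH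
    have hq := not_sigma hG c H hH hUH hKH
    by_cases hrσ : r ∈ sigma H
    · exact case_sigma hG c (not_sigma hG c)
        (fun H' hH' hKH' hq' => kappa_conj hG M hM K hKU.hall (ctx_Kprime hG c) H' hH' hKH' hq')
        (fun r' X' h1 h2 h3 H' h4 h5 h6 h7 h8 => case_tau2 hG c r' X' h1 h2 h3 H' h4 h5 h6 h7 h8)
        r X hXU hX hKX H hH hNH hrσ
    · obtain ⟨⟨h2, h1⟩, -, -⟩ := Cfsg.Agent.S1409.result hG H hH r hrσ X hX hNH
      exact case_tau2 hG c r X hXU hX hKX H hH hUH hKH hq ⟨hr, hrσ, h2, h1⟩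
  · push Not at hrk
    obtain ⟨p, hp, hpU, hrk⟩ := hrk
    exact case_tau2M hG M hM K U hKU hK1 hNU p hp hpU hrk

/-- S1363. -/
theorem s1363 [Finite G] (hG : IsMinSimpleOddOrder G) (M : Subgroup G) (hM : IsCoatom M)
    (K U : Subgroup G) (hKU : IsSigmaDecomposition M K U) (hK1 : K ≠ ⊥) :
    IsMulCommutative U ∧ ¬ Subgroup.normalizer (U : Set G) ≤ M := by
  refine ⟨?_, normalizer_not_le hG M hM K U hKU hK1⟩
  have h30 : Cfsg.Agent.Lib.helper69.H1430 G :=
    fun M hM K hK hK1 => Cfsg.Agent.S1430.result hG M hM K hK hK1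
  have h := (Cfsg.Agent.Lib.helper69.bgk_decomp_facts hG h30 M hM
    (Cfsg.Agent.S1350.result hG M hM).1 K U hKU hK1).1
  exact ⟨⟨fun a b => Subtype.ext (h a a.2 b b.2)⟩⟩

end Cfsg.Agent.Lib.helper90.BG1363
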