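import Cfsg.Agent.Lib.helper42.FGDefs
import Cfsg.Agent.Lib.helper15.FGF0

/-!
S1915 split (architect helper42), piece C2B (`el_into_sylow`): an elementary abelian 2-subgroup of
`A` of order `> 2` is conjugate in `A` into the Sylow 2-subgroup `S`.
-/

set_option autoImplicit false

namespace Cfsg.Agent.Lib.helper42.FG

variable {G : Type*} [Group G] [Finite G]

/-- C2B -/
theorem el_into_sylow (A S : Subgroup G) (hSA : S ≤ A)
    (hSyl : Nat.card S = 2 ^ (Nat.card A).factorization 2)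
    (hc : ∃ E : Subgroup G, E ≤ A ∧ El E ∧ 2 < Nat.card E) :
    ∃ E : Subgroup G, E ≤ S ∧ El E ∧ 2 < Nat.card E := by
  obtain ⟨E, hEA, hE, hcard⟩ := hc
  have hP : IsPGroup 2 E := by
    intro g
    refine ⟨1, ?_⟩
    apply Subtype.ext
    have := hE.2 g.1 g.2
    simpa using this
  obtain ⟨a, haA, ha⟩ := helper15_conj_into hSA hSyl hEA hP
  refine ⟨E.map (MulAut.conj a).toMonoidHom, ?_, ⟨?_, ?_⟩, ?_⟩
  · rintro x ⟨e, he, rfl⟩
    simpa [MulAut.conj_apply] using ha e he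
  · rintro _ ⟨e, he, rfl⟩ _ ⟨f, hf, rfl⟩
    have h := hE.1 e he f hf
    show a * e * a⁻¹ * (a * f * a⁻¹) = a * f * a⁻¹ * (a * e * a⁻¹)
    calc a * e * a⁻¹ * (a * f * a⁻¹) = a * (e * f) * a⁻¹ := by group
      _ = a * (f * e) * a⁻¹ := by rw [h]
      _ = a * f * a⁻¹ * (a * e * a⁻¹) := by group
  · rintro _ ⟨e, he, rfl⟩
    have h := hE.2 e he
    show (a * e * a⁻¹) ^ 2 = 1
    rw [conj_pow, h]
    group
  · rw [Subgroup.card_map_of_injective (MulAut.conj a).injective]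
    exact hcard

end Cfsg.Agent.Lib.helper42.FG
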