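import Cfsg.Agent.Lib.helper44.SUODefs

/-!
# S2334, piece OUINJ: `uoMat σ ε` is injective (read off the upper-left block)
-/

set_option autoImplicit false

namespace Cfsg.Agent.Lib.helper44.SUW

open Matrix

/-- OUINJ (S) -/
theorem uoMat_inj {K : Type*} [Field K] (σ : K →+* K) (ε : K) {m : ℕ}
    (C C' : Matrix (Fin m) (Fin m) K) (h : uoMat σ ε C = uoMat σ ε C') : C = C' := by
  ext i j
  have h1 := congrFun (congrFun h ((e3 m).symm (Sum.inl (Sum.inl i)))) ((e3 m).symm (Sum.inl (Sum.inl j)))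
  simp only [uoMat, Matrix.submatrix_apply, Equiv.apply_symm_apply, Matrix.fromBlocks_apply₁₁,
    Matrix.add_apply] at h1
  exact add_left_cancel h1

end Cfsg.Agent.Lib.helper44.SUW
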