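import Cfsg.Agent.Lib.helper45.SVDefs

/-!
# S2425, piece FLC (core): flags of a composition with prescribed partial sums <-> chains of
invariant subspaces with prescribed dimension set.  The two facts on the partial sums of `compOf D`
(consequences of CSUM) enter as hypotheses; the verbatim wrapper is `SV_FLC.lean`.
-/

set_option autoImplicit false
open scoped MatrixGroups

namespace Cfsg.Agent.Lib.helper45.SV

/-- among two comparable subspaces, the one of smaller dimension is the smaller one -/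
theorem h90_le_of_finrank_le {F : Type*} [Field F] {V : Type*} [AddCommGroup V] [Module F V]
    [FiniteDimensional F V] {U U' : Submodule F V} (hc : U ≤ U' ∨ U' ≤ U)
    (h : Module.finrank F U ≤ Module.finrank F U') : U ≤ U' := by
  rcases hc with h1 | h1
  · exact h1
  · have h2 := Submodule.finrank_mono h1
    exact (Submodule.eq_of_le_of_finrank_eq h1 (le_antisymm h2 h)).ge

theorem h90_csum_mono {n : ℕ} (μ : Fin n → ℕ) {j j' : Fin n} (h : j ≤ j') : csum μ j ≤ csum μ j' := by
  unfold csum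
  apply Finset.sum_le_sum_of_subset
  intro k hk
  rw [Finset.mem_filter] at hk ⊢
  exact ⟨hk.1, hk.2.trans h⟩

/-- the chain attached to a flag: its members indexed by the block ends other than the last. -/
noncomputable def h90_chainOf {F : Type*} [Field F] [Finite F] {n : ℕ} (x : GL (Fin n) F)
    (D : Finset (Fin n)) (W : Fin n → Submodule F (Fin n → F)) :
    Finset (Module.End.invtSubmodule (Matrix.toLin' (x : Matrix (Fin n) (Fin n) F))) :=
  (Set.toFinite {U : Module.End.invtSubmodule (Matrix.toLin' (x : Matrix (Fin n) (Fin n) F)) |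
      ∃ d ∈ D, d.val + 1 ≠ n ∧ (U : Submodule F (Fin n → F)) = W d}).toFinset

theorem h90_mem_chainOf {F : Type*} [Field F] [Finite F] {n : ℕ} (x : GL (Fin n) F)
    (D : Finset (Fin n)) (W : Fin n → Submodule F (Fin n → F))
    (U : Module.End.invtSubmodule (Matrix.toLin' (x : Matrix (Fin n) (Fin n) F))) :
    U ∈ h90_chainOf x D W ↔ ∃ d ∈ D, d.val + 1 ≠ n ∧ (U : Submodule F (Fin n → F)) = W d := by
  unfold h90_chainOf
  rw [Set.Finite.mem_toFinset]
  rfl

theorem h90_chainOf_mem {F : Type*} [Field F] [Finite F] {n : ℕ} (x : GL (Fin n) F)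
    (D : Finset (Fin n)) (μ : Fin n → ℕ)
    (hE2 : ∀ d ∈ D, csum μ d = d.val + 1)
    (W : Fin n → Submodule F (Fin n → F)) (hW : W ∈ flagSet x μ) :
    h90_chainOf x D W ∈ dimChains x D := by
  obtain ⟨hmono, hrank, hinv⟩ := hW
  refine ⟨⟨?_, ?_⟩, ?_⟩
  · intro U hU U' hU' _
    rw [Finset.mem_coe, h90_mem_chainOf] at hU hU'
    obtain ⟨d, _, _, hUd⟩ := hU
    obtain ⟨d', _, _, hUd'⟩ := hU'
    rcases le_total d d' with h | h
    · left
      change (U : Submodule F (Fin n → F)) ≤ U'
      rw [hUd, hUd']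
      exact hmono h
    · right
      change (U' : Submodule F (Fin n → F)) ≤ U
      rw [hUd, hUd']
      exact hmono h
  · intro a ha
    rw [h90_mem_chainOf] at ha
    obtain ⟨d, hd, hdn, had⟩ := ha
    have hr : Module.finrank F (a : Submodule F (Fin n → F)) = d.val + 1 := by
      rw [had, hrank d, hE2 d hd]
    constructor
    · intro h
      have h2 : (a : Submodule F (Fin n → F)) = ⊥ := by rw [h]; rfl
      rw [h2, finrank_bot] at hr
      omega
    · intro h
      have h2 : (a : Submodule F (Fin n → F)) = ⊤ := by rw [h]; rfl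
      rw [h2, finrank_top, Module.finrank_fin_fun] at hr
      omega
  · ext k
    simp only [Finset.mem_image, h90_mem_chainOf, Finset.mem_filter]
    constructor
    · rintro ⟨U, ⟨d, hd, hdn, hU⟩, hk⟩
      refine ⟨d, ⟨hd, hdn⟩, ?_⟩
      rw [← hk, hU, hrank d, hE2 d hd]
    · rintro ⟨d, ⟨hd, hdn⟩, hk⟩
      refine ⟨⟨W d, (Module.End.mem_invtSubmodule_iff_map_le _).2 (hinv d)⟩, ⟨d, hd, hdn, rfl⟩, ?_⟩
      change Module.finrank F (W d) = k
      rw [hrank d, hE2 d hd, hk]

theorem h90_chainOf_inj {F : Type*} [Field F] [Finite F] {n : ℕ} (x : GL (Fin n) F)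
    (D : Finset (Fin n)) (μ : Fin n → ℕ)
    (hE2 : ∀ d ∈ D, csum μ d = d.val + 1)
    (hE3 : ∀ j : Fin n, csum μ j = 0 ∨ ∃ d ∈ D, d ≤ j ∧ csum μ j = d.val + 1)
    (W W' : Fin n → Submodule F (Fin n → F)) (hW : W ∈ flagSet x μ) (hW' : W' ∈ flagSet x μ)
    (h : h90_chainOf x D W = h90_chainOf x D W') : W = W' := by
  obtain ⟨hmono, hrank, hinv⟩ := hW
  obtain ⟨hmono', hrank', _⟩ := hW'
  funext j
  rcases hE3 j with h0 | ⟨d, hd, hdj, hej⟩
  · have h1 : W j = ⊥ := by
      rw [← Submodule.finrank_eq_zero, hrank j, h0]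
    have h2 : W' j = ⊥ := by
      rw [← Submodule.finrank_eq_zero, hrank' j, h0]
    rw [h1, h2]
  · have h1 : W d = W j := by
      apply Submodule.eq_of_le_of_finrank_eq (hmono hdj)
      rw [hrank d, hrank j, hE2 d hd, hej]
    have h2 : W' d = W' j := by
      apply Submodule.eq_of_le_of_finrank_eq (hmono' hdj)
      rw [hrank' d, hrank' j, hE2 d hd, hej]
    rw [← h1, ← h2]
    by_cases hdn : d.val + 1 = n
    · have h3 : W d = ⊤ := by
        apply Submodule.eq_top_of_finrank_eq
        rw [hrank d, hE2 d hd, Module.finrank_fin_fun, hdn]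
      have h4 : W' d = ⊤ := by
        apply Submodule.eq_top_of_finrank_eq
        rw [hrank' d, hE2 d hd, Module.finrank_fin_fun, hdn]
      rw [h3, h4]
    · have hmem : (⟨W d, (Module.End.mem_invtSubmodule_iff_map_le _).2 (hinv d)⟩ :
          Module.End.invtSubmodule (Matrix.toLin' (x : Matrix (Fin n) (Fin n) F))) ∈
          h90_chainOf x D W := by
        rw [h90_mem_chainOf]
        exact ⟨d, hd, hdn, rfl⟩
      rw [h, h90_mem_chainOf] at hmem
      obtain ⟨d', hd', _, hdd'⟩ := hmem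
      change W d = W' d' at hdd'
      have h5 : d.val + 1 = d'.val + 1 := by
        rw [← hE2 d hd, ← hE2 d' hd', ← hrank d, ← hrank' d', hdd']
      have h6 : d = d' := Fin.ext (by omega)
      rw [hdd', h6]

theorem h90_chainOf_surj {F : Type*} [Field F] [Finite F] {n : ℕ} (x : GL (Fin n) F)
    (D : Finset (Fin n)) (μ : Fin n → ℕ)
    (hE2 : ∀ d ∈ D, csum μ d = d.val + 1)
    (hE3 : ∀ j : Fin n, csum μ j = 0 ∨ ∃ d ∈ D, d ≤ j ∧ csum μ j = d.val + 1)
    (c : Finset (Module.End.invtSubmodule (Matrix.toLin' (x : Matrix (Fin n) (Fin n) F))))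
    (hc : c ∈ dimChains x D) :
    ∃ W : Fin n → Submodule F (Fin n → F), W ∈ flagSet x μ ∧ h90_chainOf x D W = c := by
  obtain ⟨⟨hchain, hbt⟩, himg⟩ := hc
  -- the augmented chain
  let C : Set (Submodule F (Fin n → F)) :=
    {U | (∃ U' ∈ c, (U' : Submodule F (Fin n → F)) = U) ∨ U = ⊥ ∨ U = ⊤}
  have hCinv : ∀ U ∈ C, U.map (Matrix.toLin' (x : Matrix (Fin n) (Fin n) F)) ≤ U := by
    rintro U (⟨U', _, rfl⟩ | rfl | rfl)
    · exact (Module.End.mem_invtSubmodule_iff_map_le _).1 U'.2
    · rw [Submodule.map_bot]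
    · exact le_top
  have hCtot : ∀ U ∈ C, ∀ U' ∈ C, U ≤ U' ∨ U' ≤ U := by
    rintro U (⟨U1, h1, rfl⟩ | rfl | rfl) U' (⟨U2, h2, rfl⟩ | rfl | rfl)
    · exact hchain.total h1 h2
    · exact Or.inr bot_le
    · exact Or.inl le_top
    · exact Or.inl bot_le
    · exact Or.inl bot_le
    · exact Or.inl bot_le
    · exact Or.inr le_top
    · exact Or.inr le_top
    · exact Or.inl le_top
  have hCex : ∀ j : Fin n, ∃ U ∈ C, Module.finrank F U = csum μ j := by
    intro j
    rcases hE3 j with h0 | ⟨d, hd, hdj, hej⟩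
    · exact ⟨⊥, Or.inr (Or.inl rfl), by rw [h0, finrank_bot]⟩
    · by_cases hdn : d.val + 1 = n
      · exact ⟨⊤, Or.inr (Or.inr rfl), by rw [hej, hdn, finrank_top, Module.finrank_fin_fun]⟩
      · have hmem : d.val + 1 ∈ (D.filter (fun d => d.val + 1 ≠ n)).image (fun d : Fin n => d.val + 1) :=
          Finset.mem_image.2 ⟨d, Finset.mem_filter.2 ⟨hd, hdn⟩, rfl⟩
        rw [← himg, Finset.mem_image] at hmem
        obtain ⟨U', hU', hfr⟩ := hmem
        exact ⟨U', Or.inl ⟨U', hU', rfl⟩, by rw [hej]; exact hfr⟩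
  choose W hWmem hWrank using hCex
  have hWflag : W ∈ flagSet x μ := by
    refine ⟨?_, hWrank, fun j => hCinv _ (hWmem j)⟩
    intro j j' hjj'
    apply h90_le_of_finrank_le (hCtot _ (hWmem j) _ (hWmem j'))
    rw [hWrank, hWrank]
    exact h90_csum_mono μ hjj'
  refine ⟨W, hWflag, ?_⟩
  ext U
  rw [h90_mem_chainOf]
  constructor
  · rintro ⟨d, hd, hdn, hU⟩
    have hr : Module.finrank F (W d) = d.val + 1 := by rw [hWrank d, hE2 d hd]
    rcases hWmem d with ⟨U', hU'c, hU'eq⟩ | hb | ht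
    · have : U = U' := Subtype.ext (hU.trans hU'eq.symm)
      rw [this]
      exact hU'c
    · rw [hb, finrank_bot] at hr
      omega
    · rw [ht, finrank_top, Module.finrank_fin_fun] at hr
      omega
  · intro hU
    have hmem : Module.finrank F (U : Submodule F (Fin n → F)) ∈
        c.image (fun U : Module.End.invtSubmodule (Matrix.toLin' (x : Matrix (Fin n) (Fin n) F)) =>
          Module.finrank F (U : Submodule F (Fin n → F))) :=
      Finset.mem_image.2 ⟨U, hU, rfl⟩
    rw [himg, Finset.mem_image] at hmem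
    obtain ⟨d, hd, hdU⟩ := hmem
    rw [Finset.mem_filter] at hd
    refine ⟨d, hd.1, hd.2, ?_⟩
    have hUC : (U : Submodule F (Fin n → F)) ∈ C := Or.inl ⟨U, hU, rfl⟩
    have hr : Module.finrank F (W d) = Module.finrank F (U : Submodule F (Fin n → F)) := by
      rw [hWrank d, hE2 d hd.1, hdU]
    exact le_antisymm (h90_le_of_finrank_le (hCtot _ hUC _ (hWmem d)) hr.ge)
      (h90_le_of_finrank_le (hCtot _ (hWmem d) _ hUC) hr.le)

/-- FLC core: with the two facts on the partial sums of `μ` as hypotheses. -/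
theorem h90_flags_eq_chains_core {F : Type*} [Field F] [Finite F] {n : ℕ} (x : GL (Fin n) F)
    (D : Finset (Fin n)) (μ : Fin n → ℕ)
    (hE2 : ∀ d ∈ D, csum μ d = d.val + 1)
    (hE3 : ∀ j : Fin n, csum μ j = 0 ∨ ∃ d ∈ D, d ≤ j ∧ csum μ j = d.val + 1) :
    Nat.card (flagSet x μ) = Nat.card (dimChains x D) := by
  apply Nat.card_eq_of_bijective
    (fun W : flagSet x μ => (⟨h90_chainOf x D W.1, h90_chainOf_mem x D μ hE2 W.1 W.2⟩ : dimChains x D))
  constructor
  · intro W W' h
    apply Subtype.ext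
    exact h90_chainOf_inj x D μ hE2 hE3 W.1 W'.1 W.2 W'.2 (congrArg Subtype.val h)
  · rintro ⟨c, hc⟩
    obtain ⟨W, hW, hWc⟩ := h90_chainOf_surj x D μ hE2 hE3 c hc
    exact ⟨⟨W, hW⟩, Subtype.ext hWc⟩

/-- the two facts on partial sums follow from the CSUM formula. -/
theorem h90_csum_facts {n : ℕ} (D : Finset (Fin n)) (μ : Fin n → ℕ)
    (hcs : ∀ j : Fin n, csum μ j =
      ((D.filter (fun d => d ≤ j)).image (fun d : Fin n => d.val + 1)).sup id) :
    (∀ d ∈ D, csum μ d = d.val + 1) ∧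
    (∀ j : Fin n, csum μ j = 0 ∨ ∃ d ∈ D, d ≤ j ∧ csum μ j = d.val + 1) := by
  constructor
  · intro d hd
    rw [hcs d]
    apply le_antisymm
    · apply Finset.sup_le
      intro b hb
      rw [Finset.mem_image] at hb
      obtain ⟨d', hd', rfl⟩ := hb
      rw [Finset.mem_filter] at hd'
      have : d'.val ≤ d.val := hd'.2
      change d'.val + 1 ≤ d.val + 1
      omega
    · have hmem : d.val + 1 ∈ (D.filter (fun d' => d' ≤ d)).image (fun d : Fin n => d.val + 1) :=
        Finset.mem_image.2 ⟨d, Finset.mem_filter.2 ⟨hd, le_refl d⟩, rfl⟩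
      exact Finset.le_sup (f := id) hmem
  · intro j
    rw [hcs j]
    by_cases hne : ((D.filter (fun d => d ≤ j)).image (fun d : Fin n => d.val + 1)).Nonempty
    · right
      obtain ⟨b, hb, hsup⟩ := Finset.exists_mem_eq_sup _ hne id
      rw [Finset.mem_image] at hb
      obtain ⟨d, hd, rfl⟩ := hb
      rw [Finset.mem_filter] at hd
      exact ⟨d, hd.1, hd.2, hsup⟩
    · left
      rw [Finset.not_nonempty_iff_eq_empty] at hne
      rw [hne, Finset.sup_empty]
      rfl

end Cfsg.Agent.Lib.helper45.SV
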