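import Cfsg.Agent.Lib.helper45.SVDefs
import Cfsg.Agent.Lib.helper53.SV_CSUM
import Cfsg.Agent.Lib.helper90.SV_FLCcore

/-!
# S2425, piece FLC: flags of type `compOf D` <-> chains of invariant subspaces with dimension set
`{d + 1 : d ∈ D, d + 1 ≠ n}` (verbatim Skel statement; core in `SV_FLCcore.lean`, CSUM from helper53).
-/

set_option autoImplicit false
open scoped MatrixGroups

namespace Cfsg.Agent.Lib.helper45.SV

/-- FLC (L). -/
theorem flags_eq_chains {F : Type*} [Field F] [Finite F] {n : ℕ} (x : GL (Fin n) F)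
    (D : Finset (Fin n)) (hD : D ∈ endSets n) :
    Nat.card (flagSet x (compOf D)) = Nat.card (dimChains x D) :=
  h90_flags_eq_chains_core x D (compOf D) (h90_csum_facts D (compOf D) (csum_compOf D)).1
    (h90_csum_facts D (compOf D) (csum_compOf D)).2

end Cfsg.Agent.Lib.helper45.SV
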