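import Mathlib
import Cfsg.Prelude.Def_Local
import Cfsg.Agent.Lib.helper66.PLengthSeries
import Cfsg.Agent.Lib.helper66.OddAction
import Cfsg.Agent.Lib.helper38.PSolvable
import Cfsg.Agent.Lib.helper1.SZ

/-!
# The Gaschütz–Yen theorem (helper90)

`G` finite `p`-soluble, `p` odd, `p ∣ |G|`, and `Aut(G)` transitive on the subgroups of order `p`
⟹ `G` has `p`-length at most `1`.

Proof. Pass to `G / O_{p'}(G)` (elements of order `p` lift, automorphisms descend), so assume
`O_{p'}(G) = 1`; put `P = O_p(G)`, so `C_G(P) ≤ P` (Hall–Higman 1.2.3) and `Z(P) = C_G(P)` is a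
nontrivial characteristic `p`-subgroup: every element of order `p` lies in `Z(P)`.
Let `N / P = O_{p'}(G / P)` and `K` a complement of `P` in `N`.  `C_G(N)` is characteristic.
* If `C_G(N)` contains an element of order `p`, it contains all of them, so `K` centralizes all
  elements of order `p` of `P`, hence `P` (Gorenstein 5.3.10, `p` odd), so `K ≤ C_G(P) ≤ P`,
  `K = 1`, `N = P`, and `G / P` is `p`-soluble with trivial `O_p` and `O_{p'}`: `G = P`.
* Otherwise, by the Frattini argument `G = P N_G(K)`; if `p ∣ |G : P|` there is `x ∈ N_G(K)` of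
  order `p`; `x ∈ Z(P)`, `[x, K] ≤ P ∩ K = 1`, so `x ∈ C_G(N)`: contradiction.
So `G / P` is a `p'`-group.
-/

set_option autoImplicit false

namespace Cfsg.Agent.Lib.helper90

open Cfsg.Agent.Lib.helper27 Cfsg.Agent.Lib.helper66 Cfsg.Agent.Lib.helper38
  Cfsg.Agent.Lib.helper1

open scoped Pointwise

/-- A nontrivial `p`-subgroup contains an element of order `p`. -/
theorem gy_exists_orderOf_eq {G : Type*} [Group G] [Finite G] {p : ℕ} [hp : Fact p.Prime]
    {H : Subgroup G} (hH : IsPGroup p H) (hne : H ≠ ⊥) : ∃ x ∈ H, orderOf x = p := by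
  have h1 : p ∣ Nat.card H := by
    rcases hH.card_eq_or_dvd with h | h
    · exact absurd (Subgroup.card_eq_one.mp h) hne
    · exact h
  obtain ⟨x, hx⟩ := exists_prime_orderOf_dvd_card' p h1
  exact ⟨x, x.2, by rw [Subgroup.orderOf_coe]; exact hx⟩

/-- Elements of order `p` lift through a quotient by a normal `p'`-subgroup. -/
theorem gy_lift_order_p {G : Type*} [Group G] [Finite G] {p : ℕ} [hp : Fact p.Prime]
    (O : Subgroup G) [O.Normal] (hO : (Nat.card O).Coprime p) (y : G ⧸ O) (hy : orderOf y = p) :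
    ∃ x : G, orderOf x = p ∧ (x : G ⧸ O) = y := by
  obtain ⟨y', rfl⟩ := QuotientGroup.mk_surjective y
  obtain ⟨u, -, hu⟩ := Nat.exists_mul_mod_eq_one_of_coprime hO hp.out.one_lt
  have hmk : ((y' ^ (Nat.card O * u) : G) : G ⧸ O) = (y' : G ⧸ O) := by
    rw [QuotientGroup.mk_pow, ← pow_mod_orderOf, hy, hu, pow_one]
  refine ⟨y' ^ (Nat.card O * u), orderOf_eq_prime ?_ ?_, hmk⟩
  · have h1 : y' ^ p ∈ O := by
      rw [← QuotientGroup.eq_one_iff, QuotientGroup.mk_pow, ← hy, pow_orderOf_eq_one]
    have h2 : (y' ^ p) ^ Nat.card O = 1 := by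
      have := pow_card_eq_one' (G := O) (x := ⟨y' ^ p, h1⟩)
      exact congrArg Subtype.val this
    calc (y' ^ (Nat.card O * u)) ^ p = ((y' ^ p) ^ Nat.card O) ^ u := by
          rw [← pow_mul, ← pow_mul, ← pow_mul]; congr 1; ring
      _ = 1 := by rw [h2, one_pow]
  · intro h
    rw [h, QuotientGroup.mk_one] at hmk
    rw [← hmk, orderOf_one] at hy
    exact hp.out.one_lt.ne hy

/-- Core of Gaschütz–Yen: if `O_{p'}(G) = 1` then `O_p(G)` is a Sylow `p`-subgroup. -/
theorem gy_index_coprime {G : Type*} [Group G] [Finite G] {p : ℕ} [hp : Fact p.Prime]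
    (hp2 : p ≠ 2) (hdvd : p ∣ Nat.card G) (hG : Cfsg.IsPSolvable p G)
    (hcore : Cfsg.pPrimeCore p G = ⊥)
    (hT : ∀ x y : G, orderOf x = p → orderOf y = p →
      ∃ a : MulAut G, ∃ u ∈ Subgroup.zpowers x, a u = y) :
    (Nat.card (G ⧸ Cfsg.pCore p G)).Coprime p := by
  classical
  set P := Cfsg.pCore p G with hPdef
  have hPn : P.Normal := inferInstance
  have hPp : IsPGroup p P := pCore_isPGroup p
  have hCP : Subgroup.centralizer (P : Set G) ≤ P :=
    centralizer_pCore_le_of_isPSolvable hG hcore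
  -- transitivity, in the form used: a characteristic subgroup containing one element of
  -- order `p` contains all of them
  have hchar : ∀ C : Subgroup G, C.Characteristic → (∃ x ∈ C, orderOf x = p) →
      ∀ y : G, orderOf y = p → y ∈ C := by
    rintro C hC ⟨x, hxC, hx⟩ y hy
    obtain ⟨a, u, hu, rfl⟩ := hT x y hx hy
    have huC : u ∈ C := (Subgroup.zpowers_le.mpr hxC) hu
    exact Subgroup.characteristic_iff_le_comap.mp hC a huC
  have hPne : P ≠ ⊥ := by
    intro h
    obtain ⟨g, hg⟩ := exists_prime_orderOf_dvd_card' p hdvd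
    have h1 : g ∈ Subgroup.centralizer (P : Set G) := by
      rw [Subgroup.mem_centralizer_iff]
      intro x hx
      rw [h] at hx
      have hx1 : x = 1 := by simpa using hx
      rw [hx1]; simp
    have h2 : g ∈ P := hCP h1
    rw [h, Subgroup.mem_bot] at h2
    rw [h2, orderOf_one] at hg
    exact hp.out.one_lt.ne hg
  -- `Z = C_G(P) = Z(P)`
  set Z := Subgroup.centralizer (P : Set G) with hZdef
  have hZchar : Z.Characteristic := inferInstance
  have hZne : Z ≠ ⊥ := by
    have : Nontrivial P := (Subgroup.nontrivial_iff_ne_bot P).mpr hPne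
    have := hPp.center_nontrivial
    obtain ⟨z, hz⟩ := exists_ne (1 : Subgroup.center P)
    intro h
    have h1 : ((z : P) : G) ∈ Z := by
      rw [hZdef, Subgroup.mem_centralizer_iff]
      intro x hx
      have := Subgroup.mem_center_iff.mp z.2 ⟨x, hx⟩
      exact congrArg Subtype.val this
    rw [h, Subgroup.mem_bot] at h1
    apply hz
    ext
    exact h1
  have hH1 : ∀ x : G, orderOf x = p → x ∈ Z :=
    hchar Z hZchar (gy_exists_orderOf_eq (hPp.to_le hCP) hZne)
  -- `N / P = O_{p'}(G / P)`
  set N : Subgroup G := (Cfsg.pPrimeCore p (G ⧸ P)).comap (QuotientGroup.mk' P) with hNdef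
  have hNn : N.Normal := inferInstance
  have hPN : P ≤ N := le_comap_mk' _ _
  have hNchar : N.Characteristic := by
    rw [Subgroup.characteristic_iff_le_comap]
    intro φ x hx
    have hmap : P.map φ.toMonoidHom = P :=
      Subgroup.characteristic_iff_map_eq.mp inferInstance φ
    have h1 := Subgroup.characteristic_iff_le_comap.mp
      (inferInstance : (Cfsg.pPrimeCore p (G ⧸ P)).Characteristic)
      (QuotientGroup.congr P P φ hmap) hx
    exact h1
  have hNcop : (P.relIndex N).Coprime p := by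
    rw [← card_map_mk'_eq_relIndex, hNdef,
      Subgroup.map_comap_eq_self_of_surjective (QuotientGroup.mk'_surjective P)]
    exact pPrimeCore_coprime p
  -- a complement `K` of `P` in `N`
  obtain ⟨k, hk⟩ := IsPGroup.iff_card.mp hPp
  have hcopPN : (Nat.card (P.subgroupOf N)).Coprime (P.subgroupOf N).index := by
    rw [card_subgroupOf_of_le hPN, hk]
    exact Nat.Coprime.pow_left k hNcop.symm
  obtain ⟨K', hK'⟩ := Subgroup.exists_right_complement'_of_coprime hcopPN
  set K : Subgroup G := K'.map N.subtype with hKdef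
  have hKN : K ≤ N := Subgroup.map_subtype_le K'
  have hKcard : Nat.card K = P.relIndex N := by
    rw [hKdef, card_map_subtype, ← hK'.symm.index_eq_card]
    rfl
  have hKcop : (Nat.card K).Coprime p := hKcard ▸ hNcop
  have hPKcop : (Nat.card P).Coprime (Nat.card K) := by
    rw [hk]; exact Nat.Coprime.pow_left k hKcop.symm
  have hPK : P ⊓ K = ⊥ := (Subgroup.disjoint_of_coprime_natCard hPKcop).eq_bot
  have hPKsup : P ⊔ K = N := by
    have h1 := congrArg (Subgroup.map N.subtype) hK'.sup_eq_top
    rw [Subgroup.map_sup, Subgroup.subgroupOf_map_subtype, ← MonoidHom.range_eq_map,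
      Subgroup.range_subtype, inf_eq_left.mpr hPN] at h1
    exact h1
  by_cases hA : ∃ x ∈ Subgroup.centralizer (N : Set G), orderOf x = p
  · -- all elements of order `p` centralize `N`
    have hall := hchar _ inferInstance hA
    have hKP : K ≤ P := by
      intro b hb
      have hbN : b ∈ N := hKN hb
      have hbcop : (orderOf b).Coprime p :=
        Nat.Coprime.coprime_dvd_left (Subgroup.orderOf_dvd_natCard K hb) hKcop
      have hbP : b ∈ Subgroup.normalizer (P : Set G) := by
        rw [Subgroup.normalizer_eq_top]; exact Subgroup.mem_top b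
      have h1 : ∀ x ∈ P, x ^ p = 1 → b * x * b⁻¹ = x := by
        intro x _ hxp
        by_cases hx1 : x = 1
        · rw [hx1]; group
        · have hxo : orderOf x = p := orderOf_eq_prime hxp hx1
          have h2 := Subgroup.mem_centralizer_iff.mp (hall x hxo) b hbN
          rw [h2]; group
      have h2 := conj_eq_of_fixes_order_p hp2 hPp hbcop hbP h1
      apply hCP
      rw [Subgroup.mem_centralizer_iff]
      intro x hx
      have h3 := h2 x hx
      calc x * b = (b * x * b⁻¹) * b := by rw [h3]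
        _ = b * x := by group
    have hKbot : K = ⊥ := by
      rw [eq_bot_iff, ← hPK]; exact le_inf hKP le_rfl
    have hNP : N = P := by rw [← hPKsup, hKbot, sup_bot_eq]
    have hpp : Cfsg.pPrimeCore p (G ⧸ P) = ⊥ := by
      rw [eq_bot_iff]
      intro y hy
      obtain ⟨x, rfl⟩ := QuotientGroup.mk'_surjective P y
      have hx : x ∈ N := hy
      rw [hNP] at hx
      rw [Subgroup.mem_bot, QuotientGroup.mk'_apply, QuotientGroup.eq_one_iff]
      exact hx
    have hpc : Cfsg.pCore p (G ⧸ P) = ⊥ := by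
      rw [eq_bot_iff]
      intro y hy
      obtain ⟨x, rfl⟩ := QuotientGroup.mk'_surjective P y
      have hM : IsPGroup p ((Cfsg.pCore p (G ⧸ P)).comap (QuotientGroup.mk' P)) := by
        refine IsPGroup.comap_of_ker_isPGroup (pCore_isPGroup p) _ ?_
        rw [QuotientGroup.ker_mk']
        exact hPp
      have hx : x ∈ P := normal_pGroup_le_pCore p _ hM hy
      rw [Subgroup.mem_bot, QuotientGroup.mk'_apply, QuotientGroup.eq_one_iff]
      exact hx
    have hsub : Subsingleton (G ⧸ P) := by
      by_contra hns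
      rw [not_subsingleton_iff_nontrivial] at hns
      obtain ⟨M, hMn, hMne, hM⟩ :=
        exists_normal_ne_bot_pgroup_or_pprime (isPSolvable_quotient P hG)
      rcases hM with hM | hM
      · exact hMne (le_bot_iff.mp (hpc ▸ normal_pGroup_le_pCore p M hM))
      · exact hMne (le_bot_iff.mp (hpp ▸ normal_coprime_le_pPrimeCore p M hM))
    rw [Nat.card_of_subsingleton (1 : G ⧸ P)]
    exact Nat.coprime_one_left p
  · -- Frattini argument
    set L := Subgroup.normalizer (K : Set G) with hLdef
    have hsolv : Group.IsSolvable P := by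
      have := hPp.isNilpotent
      infer_instance
    have hKnP : K ≤ Subgroup.normalizer (P : Set G) := by
      rw [Subgroup.normalizer_eq_top]; exact le_top
    have hfrat : P ⊔ L = ⊤ := by
      rw [eq_top_iff]
      intro g _
      have hcg : Nat.card (MulAut.conj g • K : Subgroup G) = Nat.card K := card_conj_smul g K
      have hdK : P ⊓ MulAut.conj g • K = ⊥ :=
        (Subgroup.disjoint_of_coprime_natCard (by rw [hcg]; exact hPKcop)).eq_bot
      have hsup : P ⊔ K = P ⊔ MulAut.conj g • K := by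
        have h1 : MulAut.conj g • (P ⊔ K) = MulAut.conj g • P ⊔ MulAut.conj g • K :=
          Subgroup.smul_sup _ _ _
        rw [Subgroup.Normal.conj_smul_eq_self g P, hPKsup,
          Subgroup.Normal.conj_smul_eq_self g N] at h1
        rw [hPKsup]; exact h1
      obtain ⟨n, hnP, hn⟩ := sz_conj_internal P K (MulAut.conj g • K) hKnP hPK hdK hsup hPKcop
        (Or.inl hsolv)
      have h2 : MulAut.conj (n⁻¹ * g) • K = K := by
        rw [← conj_smul_conj_smul, ← hn, conj_smul_conj_smul, inv_mul_cancel, map_one, one_smul]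
      have h3 : n⁻¹ * g ∈ L := mem_normalizer_of_conj_smul_eq h2
      have h4 : g = n * (n⁻¹ * g) := by group
      rw [h4]
      exact Subgroup.mul_mem_sup hnP h3
    by_contra hnot
    have hdvdI : p ∣ Nat.card (G ⧸ P) := by
      by_contra h
      exact hnot ((Nat.Prime.coprime_iff_not_dvd hp.out).mpr h).symm
    have hdvdL : p ∣ Nat.card L := by
      have h1 : P.relIndex L = Nat.card (G ⧸ P) := by
        rw [← Subgroup.relIndex_sup_left, hfrat, Subgroup.relIndex_top_right,
          Subgroup.index_eq_card]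
      exact (h1 ▸ hdvdI).trans (Subgroup.relIndex_dvd_card P L)
    obtain ⟨x, hx⟩ := exists_prime_orderOf_dvd_card' p hdvdL
    have hxo : orderOf (x : G) = p := by rw [Subgroup.orderOf_coe]; exact hx
    have hxZ : (x : G) ∈ Z := hH1 _ hxo
    have hxP : (x : G) ∈ P := hCP hxZ
    have hxK : ∀ c ∈ K, c * (x : G) = (x : G) * c := by
      intro c hc
      have h1 : (x : G) * c * (x : G)⁻¹ ∈ K := (Subgroup.mem_normalizer_iff.mp x.2 c).mp hc
      have h2 : (x : G) * c * (x : G)⁻¹ * c⁻¹ ∈ K := K.mul_mem h1 (K.inv_mem hc)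
      have h3 : (x : G) * c * (x : G)⁻¹ * c⁻¹ ∈ P := by
        have h : (x : G) * c * (x : G)⁻¹ * c⁻¹ = (x : G) * (c * (x : G)⁻¹ * c⁻¹) := by group
        rw [h]
        exact P.mul_mem hxP (hPn.conj_mem _ (P.inv_mem hxP) c)
      have h4 : (x : G) * c * (x : G)⁻¹ * c⁻¹ ∈ P ⊓ K := ⟨h3, h2⟩
      rw [hPK, Subgroup.mem_bot] at h4
      have h5 : (x : G) * c * (x : G)⁻¹ * c⁻¹ * (c * (x : G)) = c * (x : G) := by rw [h4, one_mul]
      rw [← h5]; group
    apply hA
    refine ⟨x, ?_, hxo⟩
    rw [Subgroup.mem_centralizer_iff]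
    intro n hn
    have hle : P ⊔ K ≤ Subgroup.centralizer ({(x : G)} : Set G) := by
      refine sup_le ?_ ?_
      · intro c hc
        rw [Subgroup.mem_centralizer_iff]
        intro h hh
        rw [Set.mem_singleton_iff] at hh
        rw [hh]
        exact (Subgroup.mem_centralizer_iff.mp hxZ c hc).symm
      · intro c hc
        rw [Subgroup.mem_centralizer_iff]
        intro h hh
        rw [Set.mem_singleton_iff] at hh
        rw [hh]
        exact (hxK c hc).symm
    rw [← hPKsup] at hn
    exact (Subgroup.mem_centralizer_iff.mp (hle hn) x rfl).symm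

/-- Gaschütz–Yen when `O_{p'}(G) = 1`. -/
theorem gy_pLength_of_core_eq_bot {G : Type*} [Group G] [Finite G] {p : ℕ} [hp : Fact p.Prime]
    (hp2 : p ≠ 2) (hdvd : p ∣ Nat.card G) (hG : Cfsg.IsPSolvable p G)
    (hcore : Cfsg.pPrimeCore p G = ⊥)
    (hT : ∀ x y : G, orderOf x = p → orderOf y = p →
      ∃ a : MulAut G, ∃ u ∈ Subgroup.zpowers x, a u = y) :
    Cfsg.PLengthLE p 1 G := by
  have h1 := gy_index_coprime hp2 hdvd hG hcore hT
  obtain ⟨k, hk⟩ := IsPGroup.iff_card.mp (pCore_isPGroup (G := G) p)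
  have h2 : Cfsg.PLengthLE p 1 (Cfsg.pCore p G) := PLengthLE.one_of_card_eq_pow hk
  have h3 : Cfsg.PLengthLE p 0 (G ⧸ Cfsg.pCore p G) := PLengthLE.zero_of_coprime h1
  exact PLengthLE.of_normal_of_quotient (Cfsg.pCore p G) h2 h3

/-- **The Gaschütz–Yen theorem.** A finite `p`-soluble group, `p` an odd prime dividing its
order, whose automorphism group permutes the subgroups of order `p` transitively, has
`p`-length at most `1`. -/
theorem gaschutz_yen {G : Type*} [Group G] [Finite G] {p : ℕ} [hp : Fact p.Prime] (hp2 : p ≠ 2)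
    (hdvd : p ∣ Nat.card G) (hG : Cfsg.IsPSolvable p G)
    (htrans : ∀ U V : Subgroup G, Nat.card U = p → Nat.card V = p →
      ∃ a : MulAut G, U.map a.toMonoidHom = V) : Cfsg.PLengthLE p 1 G := by
  set O := Cfsg.pPrimeCore p G with hO
  have hOcop : (Nat.card O).Coprime p := pPrimeCore_coprime p
  have hdvd' : p ∣ Nat.card (G ⧸ O) := by
    have h1 : Nat.card G = Nat.card (G ⧸ O) * Nat.card O :=
      Subgroup.card_eq_card_quotient_mul_card_subgroup O
    rw [h1] at hdvd
    exact (Nat.Coprime.dvd_mul_right hOcop.symm).mp hdvd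
  have hT : ∀ x y : G ⧸ O, orderOf x = p → orderOf y = p →
      ∃ a : MulAut (G ⧸ O), ∃ u ∈ Subgroup.zpowers x, a u = y := by
    intro x y hx hy
    obtain ⟨x', hx', rfl⟩ := gy_lift_order_p O hOcop x hx
    obtain ⟨y', hy', rfl⟩ := gy_lift_order_p O hOcop y hy
    obtain ⟨a, ha⟩ := htrans (Subgroup.zpowers x') (Subgroup.zpowers y')
      (by rw [Nat.card_zpowers, hx']) (by rw [Nat.card_zpowers, hy'])
    have hy'' : y' ∈ (Subgroup.zpowers x').map a.toMonoidHom := by
      rw [ha]; exact Subgroup.mem_zpowers y'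
    obtain ⟨u, hu, huy⟩ := Subgroup.mem_map.mp hy''
    have hmap : O.map a.toMonoidHom = O :=
      Subgroup.characteristic_iff_map_eq.mp inferInstance a
    refine ⟨QuotientGroup.congr O O a hmap, (u : G ⧸ O), ?_, ?_⟩
    · obtain ⟨i, rfl⟩ := Subgroup.mem_zpowers_iff.mp hu
      exact Subgroup.mem_zpowers_iff.mpr ⟨i, by rw [QuotientGroup.mk_zpow]⟩
    · rw [← huy]; rfl
  have hQ : Cfsg.PLengthLE p 1 (G ⧸ O) :=
    gy_pLength_of_core_eq_bot hp2 hdvd' (isPSolvable_quotient O hG)
      (Cfsg.Agent.Lib.helper66.pPrimeCore_quotient_pPrimeCore p) hT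
  have hN : Cfsg.PLengthLE p 0 O := PLengthLE.zero_of_coprime hOcop
  have h := PLengthLE.of_normal_of_quotient O hN hQ
  simpa using h

end Cfsg.Agent.Lib.helper90
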