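import Mathlib

/-! S4504 split (helper2), R sub-split (helper84), piece R10: `R_sup_center` (`G = Γ Z(G)`). -/

set_option autoImplicit false

namespace Cfsg.Agent.Lib.helper2.BG

universe u

/-- A `p`-element centralizing a Sylow `p`-subgroup lies in it. -/
theorem helper90_mem_sylow_of_cent {G : Type u} [Group G] (p : ℕ) [Fact p.Prime] (P : Sylow p G)
    (u : G) (hu : u ∈ Subgroup.centralizer ((P : Subgroup G) : Set G)) (k : ℕ)
    (huo : u ^ p ^ k = 1) : u ∈ (P : Subgroup G) := by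
  have h1 : IsPGroup p (Subgroup.zpowers u) := by
    rintro ⟨y, hy⟩
    obtain ⟨j, rfl⟩ := Subgroup.mem_zpowers_iff.mp hy
    refine ⟨k, Subtype.ext ?_⟩
    show (u ^ j) ^ p ^ k = 1
    rw [← zpow_natCast, ← zpow_mul, mul_comm, zpow_mul, zpow_natCast, huo, one_zpow]
  have h2 : Subgroup.zpowers u ≤ Subgroup.normalizer ((P : Subgroup G) : Set G) := by
    rw [Subgroup.zpowers_le]
    exact Subgroup.centralizer_le_normalizer _ hu
  have h3 := IsPGroup.to_sup_of_normal_right' h1 P.2 h2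
  have h4 := P.is_maximal' h3 le_sup_right
  have h5 : u ∈ Subgroup.zpowers u ⊔ (P : Subgroup G) :=
    Subgroup.mem_sup_left (Subgroup.mem_zpowers u)
  rw [h4] at h5
  exact h5

/-- R10 (V6): `G = Γ Z(G)`. -/
theorem R_sup_center {G : Type u} [Group G] [Finite G] (p : ℕ) [Fact p.Prime] (P : Sylow p G)
    (hP : Nat.card P = p) (x : G) (hx : x ∈ (P : Subgroup G)) (hx1 : x ≠ 1)
    (hconj : ∀ n : G, n * x * n⁻¹ ∈ (P : Subgroup G) →
      ∃ γ ∈ Subgroup.normalClosure ({x} : Set G), γ * x * γ⁻¹ = n * x * n⁻¹)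
    (hK : ∀ k ∈ Subgroup.centralizer ((P : Subgroup G) : Set G), ¬ p ∣ orderOf k →
      k ∈ Subgroup.center G) :
    Subgroup.normalClosure ({x} : Set G) ⊔ Subgroup.center G = ⊤ := by
  classical
  have hp : p.Prime := Fact.out
  obtain ⟨Γ, hΓ⟩ : ∃ Γ : Subgroup G, Γ = Subgroup.normalClosure ({x} : Set G) := ⟨_, rfl⟩
  rw [← hΓ] at hconj ⊢
  have hΓn : Γ.Normal := by rw [hΓ]; exact Subgroup.normalClosure_normal
  have hxΓ : x ∈ Γ := by rw [hΓ]; exact Subgroup.subset_normalClosure (Set.mem_singleton x)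
  -- `P = ⟨x⟩`
  have hox : orderOf x = p := by
    have h1 : orderOf x ∣ p := by
      have h2 := Subgroup.orderOf_dvd_natCard (P : Subgroup G) hx
      rwa [hP] at h2
    rcases (Nat.dvd_prime hp).mp h1 with h | h
    · exact absurd (orderOf_eq_one_iff.mp h) hx1
    · exact h
  have hPx : Subgroup.zpowers x = (P : Subgroup G) := by
    apply Subgroup.eq_of_le_of_card_ge
    · rw [Subgroup.zpowers_le]; exact hx
    · rw [Nat.card_zpowers, hox]; exact le_of_eq hP
  have hPΓ : (P : Subgroup G) ≤ Γ := by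
    rw [← hPx, Subgroup.zpowers_le]; exact hxΓ
  -- `|G| = p * m` with `p ∤ m`
  obtain ⟨m, hm⟩ : ∃ m : ℕ, m = (P : Subgroup G).index := ⟨_, rfl⟩
  have hcard : Nat.card G = p * m := by
    have h1 := (P : Subgroup G).card_mul_index
    rw [hP, ← hm] at h1
    exact h1.symm
  have hpm : ¬ p ∣ m := by
    intro h
    have h2 : p ^ 2 ∣ Nat.card G := by
      rw [hcard, pow_two]; exact Nat.mul_dvd_mul_left p h
    have h3 := P.pow_dvd_card_of_pow_dvd_card h2
    rw [hP] at h3
    have h4 : p ^ 2 ≤ p := Nat.le_of_dvd hp.pos h3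
    have h5 : 2 ≤ p := hp.two_le
    nlinarith
  have hcop : IsCoprime (p : ℤ) (m : ℤ) :=
    Nat.isCoprime_iff_coprime.mpr ((Nat.Prime.coprime_iff_not_dvd hp).mpr hpm)
  obtain ⟨a, b, hab⟩ := hcop
  -- Frattini
  have hfr : Subgroup.normalizer ((P : Subgroup G) : Set G) ⊔ Γ = ⊤ := by
    have h1 := Sylow.normalizer_sup_eq_top (P.subtype hPΓ)
    have h2 : ((P.subtype hPΓ : Sylow p Γ) : Subgroup Γ).map Γ.subtype = (P : Subgroup G) := by
      rw [Sylow.coe_subtype]
      exact Subgroup.map_subgroupOf_eq_of_le hPΓ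
    rw [h2] at h1
    exact h1
  -- the normalizer of `P` lies in `Γ Z(G)`
  have hN : Subgroup.normalizer ((P : Subgroup G) : Set G) ≤ Γ ⊔ Subgroup.center G := by
    intro n hn
    have hnx : n * x * n⁻¹ ∈ (P : Subgroup G) := by
      have h1 := (Subgroup.mem_normalizer_iff.mp hn x).mp hx
      exact h1
    obtain ⟨γ, hγ, hγx⟩ := hconj n hnx
    obtain ⟨c, hc⟩ : ∃ c : G, c = γ⁻¹ * n := ⟨_, rfl⟩
    have hcx : c * x = x * c := by
      have h1 : c * x * c⁻¹ = x := by
        rw [hc]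
        calc γ⁻¹ * n * x * (γ⁻¹ * n)⁻¹ = γ⁻¹ * (n * x * n⁻¹) * γ := by group
          _ = γ⁻¹ * (γ * x * γ⁻¹) * γ := by rw [hγx]
          _ = x := by group
      calc c * x = (c * x * c⁻¹) * c := by group
        _ = x * c := by rw [h1]
    have hcC : c ∈ Subgroup.centralizer ((P : Subgroup G) : Set G) := by
      rw [Subgroup.mem_centralizer_iff]
      intro h hh
      have hh' : h ∈ Subgroup.zpowers x := by rw [hPx]; exact hh
      obtain ⟨j, rfl⟩ := Subgroup.mem_zpowers_iff.mp hh'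
      have h1 : Commute c x := hcx
      exact ((h1.zpow_right j).eq).symm
    have hcG : c ^ (p * m) = 1 := by
      rw [← hcard]; exact pow_card_eq_one'
    -- the `p`-regular part
    have h1 : c ^ p ∈ Subgroup.center G := by
      apply hK _ (Subgroup.pow_mem _ hcC p)
      intro hdiv
      have h2 : (c ^ p) ^ m = 1 := by rw [← pow_mul]; exact hcG
      exact hpm (hdiv.trans (orderOf_dvd_of_pow_eq_one h2))
    -- the `p`-part
    have h2 : c ^ m ∈ (P : Subgroup G) := by
      apply helper90_mem_sylow_of_cent p P _ (Subgroup.pow_mem _ hcC m) 1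
      rw [pow_one, ← pow_mul, mul_comm]; exact hcG
    have h3 : c = (c ^ p) ^ a * (c ^ m) ^ b := by
      have e1 : (c ^ p) ^ a = c ^ (a * (p : ℤ)) := by
        rw [mul_comm, zpow_mul, zpow_natCast]
      have e2 : (c ^ m) ^ b = c ^ (b * (m : ℤ)) := by
        rw [mul_comm, zpow_mul, zpow_natCast]
      rw [e1, e2, ← zpow_add, hab, zpow_one]
    have hcmem : c ∈ Γ ⊔ Subgroup.center G := by
      rw [h3]
      exact Subgroup.mul_mem _ (Subgroup.mem_sup_right (Subgroup.zpow_mem _ h1 a))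
        (Subgroup.mem_sup_left (Subgroup.zpow_mem _ (hPΓ h2) b))
    have e : n = γ * c := by rw [hc]; group
    rw [e]
    exact Subgroup.mul_mem _ (Subgroup.mem_sup_left hγ) hcmem
  rw [eq_top_iff, ← hfr]
  exact sup_le hN le_sup_left

end Cfsg.Agent.Lib.helper2.BG
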