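import Cfsg.Agent.Lib.helper86.IvDefs

/-!
# S3928, piece LAYER (core): combine the abelian and the non-abelian layer bounds
(the two bounds LAB, LNAB enter as hypotheses; the verbatim wrapper is `IvLAYER.lean`)
-/

set_option autoImplicit false

namespace Cfsg.Agent.Lib.helper86.IV

/-- LAYER core: the first non-central layer is bounded, given the abelian bound (LAB) and the
non-abelian bound (LNAB) as hypotheses. -/
theorem h90_iv_layer_core {G : Type*} [Group G] (m B : ℕ) (N : Subgroup G)
    (hLAB : (∀ a ∈ N, ∀ b ∈ N, a * b = b * a) → Nat.card N ≤ (m + 1) ^ (2 * B))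
    (hLNAB : (¬ ∀ a ∈ N, ∀ b ∈ N, a * b = b * a) →
      Nat.card N ≤ Nat.factorial m +
        (2 * (Nat.factorial m) ^ 2) ^ (4 * B * (Nat.factorial m) ^ 2)) :
    Nat.card N ≤ ivE m B := by
  unfold ivE
  by_cases hab : ∀ a ∈ N, ∀ b ∈ N, a * b = b * a
  · have h1 := hLAB hab
    omega
  · have h1 := hLNAB hab
    omega

end Cfsg.Agent.Lib.helper86.IV
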