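import Cfsg.Agent.Lib.helper90.WFusion
import Cfsg.Agent.Lib.helper86.BisetFocal
import Cfsg.Agent.Lib.helper86.HypTransfer
import Cfsg.Agent.Lib.helper86.Tate

/-!
Tools for control of transfer in saturated fusion systems (helper90).

* `nFoc F U`: the focal subgroup of the normalizer of `U` in `F`, written without reference to a
  normalizer system (generated by `x⁻¹ φ(x)` for maps `φ` of `F` defined on subgroups `D` with
  `U ≤ D ≤ N_S(U)` and `φ(U) ≤ U`).
* `morCount F`: the number of maps of `F` (a measure for inductions over subsystems on the same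
  group).
* `exists_lam`: a homomorphism from `S` to an abelian group with prescribed kernel.
* `focal_le_of_wellPlaced`: the focal subgroup is generated by the commutators with the
  automorphisms of the well-placed subgroups (together with `[S, S]`).
* `lam_eq_one_of_mem_focal`: a transfer argument for elements of a subgroup on which a homomorphism
  is constant along the maps of `F`.
* `comm_normalizer_inf_le`: the focal subgroup theorem in a normalizer.
-/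

set_option autoImplicit false

namespace Cfsg.Agent.Lib.helper90

open Cfsg Cfsg.FusionSystem Cfsg.Agent.Lib.helper89

universe u

section nfoc

variable {Ω : Type u} [Group Ω] {S : Subgroup Ω}

/-- The focal subgroup of the normalizer of `U` in `F`. -/
def nFoc (F : FusionSystem S) (U : Subgroup Ω) : Subgroup Ω :=
  Subgroup.closure {y : Ω | ∃ (D : Subgroup Ω) (φ : D →* Ω) (x : D), φ ∈ F.Hom D ∧ U ≤ D ∧
    D ≤ normalizerIn S U ∧ (∀ (u : Ω) (_ : u ∈ U) (hD : u ∈ D), φ ⟨u, hD⟩ ∈ U) ∧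
    y = (x : Ω)⁻¹ * φ x}

theorem mem_nFoc {F : FusionSystem S} {U D : Subgroup Ω} {φ : D →* Ω} (hφ : φ ∈ F.Hom D)
    (hUD : U ≤ D) (hDN : D ≤ normalizerIn S U)
    (h : ∀ (u : Ω) (_ : u ∈ U) (hD : u ∈ D), φ ⟨u, hD⟩ ∈ U) (x : D) :
    (x : Ω)⁻¹ * φ x ∈ nFoc F U :=
  Subgroup.subset_closure ⟨D, φ, x, hφ, hUD, hDN, h, rfl⟩

theorem nFoc_le_focal (F : FusionSystem S) (U : Subgroup Ω) : nFoc F U ≤ F.focalSubgroup := by
  unfold nFoc FusionSystem.focalSubgroup
  apply Subgroup.closure_mono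
  rintro _ ⟨D, φ, x, hφ, -, -, -, rfl⟩
  exact ⟨D, φ, x, hφ, rfl⟩

theorem focal_mono {F F' : FusionSystem S} (h : ∀ P, F'.Hom P ⊆ F.Hom P) :
    F'.focalSubgroup ≤ F.focalSubgroup := by
  unfold FusionSystem.focalSubgroup
  apply Subgroup.closure_mono
  rintro _ ⟨D, φ, x, hφ, rfl⟩
  exact ⟨D, φ, x, h D hφ, rfl⟩

theorem nFoc_le (F : FusionSystem S) (U : Subgroup Ω) : nFoc F U ≤ S :=
  (nFoc_le_focal F U).trans (focal_le F)

theorem nFoc_mono {F F' : FusionSystem S} (h : ∀ P, F'.Hom P ⊆ F.Hom P) (U : Subgroup Ω) :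
    nFoc F' U ≤ nFoc F U := by
  unfold nFoc
  apply Subgroup.closure_mono
  rintro _ ⟨D, φ, x, hφ, h1, h2, h3, rfl⟩
  exact ⟨D, φ, x, h D hφ, h1, h2, h3, rfl⟩

/-- The commutators of `S` lie in `nFoc F U` when `S` normalizes `U`. -/
theorem comm_mem_nFoc (F : FusionSystem S) {U : Subgroup Ω} (hUS : U ≤ S)
    (hn : S ≤ Subgroup.normalizer (U : Set Ω)) {x s : Ω} (hx : x ∈ S) (hs : s ∈ S) :
    x⁻¹ * (s * x * s⁻¹) ∈ nFoc F U := by
  have hφ : conjHom S s ∈ F.Hom S := F.conj_mem le_rfl hs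
  have h1 : ∀ (u : Ω) (_ : u ∈ U) (hD : u ∈ S), conjHom S s ⟨u, hD⟩ ∈ U := by
    intro u hu hD
    show s * u * s⁻¹ ∈ U
    exact (Subgroup.mem_normalizer_iff.mp (hn hs) u).mp hu
  exact mem_nFoc (F := F) (U := U) hφ hUS (le_inf le_rfl hn) h1 ⟨x, hx⟩

theorem nFoc_conj_mem (F : FusionSystem S) {U : Subgroup Ω} (hUS : U ≤ S)
    (hn : S ≤ Subgroup.normalizer (U : Set Ω)) {g t : Ω} (hg : g ∈ S) (ht : t ∈ nFoc F U) :
    g * t * g⁻¹ ∈ nFoc F U := by
  have h1 := comm_mem_nFoc F hUS hn (nFoc_le F U ht) hg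
  have e : g * t * g⁻¹ = t * (t⁻¹ * (g * t * g⁻¹)) := by group
  rw [e]
  exact (nFoc F U).mul_mem ht h1

/-- The graphs of the maps of a fusion system. -/
def graphs (F : FusionSystem S) : Set (Set (Ω × Ω)) :=
  {r | ∃ (P : Subgroup Ω) (φ : P →* Ω), φ ∈ F.Hom P ∧
    r = {z : Ω × Ω | ∃ x : P, z = ((x : Ω), φ x)}}

/-- The number of maps of a fusion system. -/
noncomputable def morCount (F : FusionSystem S) : ℕ := (graphs F).ncard

theorem graphs_finite [Finite S] (F : FusionSystem S) : (graphs F).Finite := by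
  have h0 : (S : Set Ω).Finite := Set.toFinite _
  have h1 : ((S : Set Ω) ×ˢ (S : Set Ω)).Finite := h0.prod h0
  apply (h1.finite_subsets).subset
  rintro r ⟨P, φ, hφ, rfl⟩
  rintro z ⟨x, rfl⟩
  exact ⟨(F.le_of_mem hφ).1 x.2, (F.le_of_mem hφ).2 x⟩

theorem graph_inj {F' : FusionSystem S} {P P' : Subgroup Ω} {φ : P →* Ω} {φ' : P' →* Ω}
    (h : {z : Ω × Ω | ∃ x : P, z = ((x : Ω), φ x)} =
      {z : Ω × Ω | ∃ x : P', z = ((x : Ω), φ' x)})
    (hφ' : φ' ∈ F'.Hom P') : φ ∈ F'.Hom P := by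
  have hP : P = P' := by
    ext x
    constructor
    · intro hx
      have h1 : ((x, φ ⟨x, hx⟩) : Ω × Ω) ∈ {z : Ω × Ω | ∃ x : P', z = ((x : Ω), φ' x)} := by
        rw [← h]; exact ⟨⟨x, hx⟩, rfl⟩
      obtain ⟨y, hy⟩ := h1
      have h2 : x = (y : Ω) := congrArg Prod.fst hy
      rw [h2]; exact y.2
    · intro hx
      have h1 : ((x, φ' ⟨x, hx⟩) : Ω × Ω) ∈ {z : Ω × Ω | ∃ x : P, z = ((x : Ω), φ x)} := by
        rw [h]; exact ⟨⟨x, hx⟩, rfl⟩
      obtain ⟨y, hy⟩ := h1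
      have h2 : x = (y : Ω) := congrArg Prod.fst hy
      rw [h2]; exact y.2
  subst hP
  have e : φ = φ' := by
    ext x
    have h1 : (((x : Ω), φ x) : Ω × Ω) ∈ {z : Ω × Ω | ∃ x : P, z = ((x : Ω), φ' x)} := by
      rw [← h]; exact ⟨x, rfl⟩
    obtain ⟨y, hy⟩ := h1
    have h2 : (x : Ω) = (y : Ω) := congrArg Prod.fst hy
    have h3 : φ x = φ' y := congrArg Prod.snd hy
    have h4 : x = y := Subtype.ext h2
    rw [h3, h4]
  rw [e]; exact hφ'

theorem morCount_lt [Finite S] {F F' : FusionSystem S} (hle : ∀ P, F'.Hom P ⊆ F.Hom P)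
    (hne : ∃ (P : Subgroup Ω) (φ : P →* Ω), φ ∈ F.Hom P ∧ φ ∉ F'.Hom P) :
    morCount F' < morCount F := by
  apply Set.ncard_lt_ncard _ (graphs_finite F)
  constructor
  · rintro r ⟨P, φ, hφ, rfl⟩
    exact ⟨P, φ, hle P hφ, rfl⟩
  · intro hsub
    obtain ⟨P, φ, hφ, hφ'⟩ := hne
    obtain ⟨P', φ', hφ2, h⟩ := hsub ⟨P, φ, hφ, rfl⟩
    exact hφ' (graph_inj h hφ2)

open scoped commutatorElement in
/-- A homomorphism of `S` into an abelian group with kernel `T ∩ S`, for `T` containing the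
commutators of `S`. -/
theorem exists_lam (T : Subgroup Ω) (hT : ∀ x ∈ S, ∀ s ∈ S, x⁻¹ * (s * x * s⁻¹) ∈ T) :
    ∃ (A : Type u) (_ : CommGroup A) (lam : S →* A), ∀ s : S, lam s = 1 ↔ (s : Ω) ∈ T := by
  have hcomm : commutator S ≤ T.subgroupOf S := by
    rw [commutator_def, Subgroup.commutator_le]
    intro a _ b _
    rw [Subgroup.mem_subgroupOf]
    have h1 := hT ((a⁻¹ : S) : Ω) (a⁻¹).2 b b.2
    have e : (((a⁻¹ : S) : Ω))⁻¹ * ((b : Ω) * ((a⁻¹ : S) : Ω) * (b : Ω)⁻¹) =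
        ((⁅a, b⁆ : S) : Ω) := by
      rw [commutatorElement_def]
      simp [mul_assoc]
    rw [e] at h1
    exact h1
  refine ⟨Abelianization S ⧸ (T.subgroupOf S).map Abelianization.of, inferInstance,
    (QuotientGroup.mk' _).comp Abelianization.of, fun s => ?_⟩
  show (QuotientGroup.mk' _ (Abelianization.of s)) = 1 ↔ _
  rw [QuotientGroup.mk'_apply, QuotientGroup.eq_one_iff]
  constructor
  · rintro ⟨t, ht, hts⟩
    have h1 : t⁻¹ * s ∈ commutator S := by
      rw [← Abelianization.ker_of, MonoidHom.mem_ker, map_mul, map_inv, hts, inv_mul_cancel]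
    have h2 := hcomm h1
    have h3 : s ∈ T.subgroupOf S := by
      have := (T.subgroupOf S).mul_mem ht h2
      rwa [mul_inv_cancel_left] at this
    exact Subgroup.mem_subgroupOf.mp h3
  · intro hs
    exact ⟨s, Subgroup.mem_subgroupOf.mpr hs, rfl⟩

end nfoc

section gen

variable {Ω : Type u} [Group Ω] {S : Subgroup Ω} {p : ℕ} [Fact p.Prime]
  {W : ∀ (Q : Type u) [Group Q], Subgroup Q}

/-- The focal subgroup of a saturated system lies in `T` as soon as `T` is normalized by `S`,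
contains the commutators of `S` and the commutators with the automorphisms of the well-placed
subgroups. -/
theorem focal_le_of_wellPlaced [Finite S] (hS : IsPGroup p S) (hW : IsCharPFunctor.{u} p W)
    (F : FusionSystem S) (hF : F.IsSaturated p) (T : Subgroup Ω)
    (hTn : ∀ g ∈ S, ∀ t ∈ T, g * t * g⁻¹ ∈ T)
    (hTc : ∀ x ∈ S, ∀ s ∈ S, x⁻¹ * (s * x * s⁻¹) ∈ T)
    (h : ∀ R : Subgroup Ω, WellPlaced W F R → ∀ α : MulAut R, α ∈ F.autGroup R → ∀ x : R,
      (x : Ω)⁻¹ * ((α x : R) : Ω) ∈ T) :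
    F.focalSubgroup ≤ T := by
  have key : ∀ P : Subgroup Ω,
      F.Hom P ⊆ (Cfsg.Agent.Lib.helper86.conjModSystem F T hTn).Hom P := by
    apply hom_subset_of_wellPlaced hS hW F _ hF
    intro R hR _ α hα
    have hRS : R ≤ S := hR.fullyNormalized.1
    refine ⟨(mem_autGroup_iff F hRS α).mp hα, 1, S.one_mem, fun x => ?_⟩
    have h1 := h R hR α hα x
    have e : ((1 : Ω) * (x : Ω) * (1 : Ω)⁻¹)⁻¹ * (R.subtype.comp α.toMonoidHom) x =
        (x : Ω)⁻¹ * ((α x : R) : Ω) := by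
      simp
    rw [e]
    exact h1
  unfold FusionSystem.focalSubgroup
  rw [Subgroup.closure_le]
  rintro _ ⟨P, φ, x, hφ, rfl⟩
  obtain ⟨-, s, hs, hK⟩ := key P hφ
  have hx : (x : Ω) ∈ S := (F.le_of_mem hφ).1 x.2
  have e : (x : Ω)⁻¹ * φ x =
      ((x : Ω)⁻¹ * (s * x * s⁻¹)) * ((s * (x : Ω) * s⁻¹)⁻¹ * φ x) := by group
  show (x : Ω)⁻¹ * φ x ∈ T
  rw [e]
  exact T.mul_mem (hTc x hx s hs) (hK x)

/-- **Transfer.** Let `lam` be a homomorphism of `S` into an abelian group that is constant along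
the maps of `F` with values in `Q`.  Then `lam` is trivial on `Q ∩ foc(F)`. -/
theorem lam_eq_one_of_mem_focal [Finite S] (hS : IsPGroup p S) (F : FusionSystem S)
    (hF : F.IsSaturated p) {A : Type*} [CommGroup A] (lam : S →* A) (Q : Subgroup Ω)
    (hQ : ∀ (D : Subgroup Ω) (χ : D →* Ω) (hχ : χ ∈ F.Hom D) (w : D), χ w ∈ Q →
      lam ⟨χ w, (F.le_of_mem hχ).2 w⟩ = lam ⟨w, (F.le_of_mem hχ).1 w.2⟩)
    (z : S) (hzQ : (z : Ω) ∈ Q) (hzf : (z : Ω) ∈ F.focalSubgroup) : lam z = 1 := by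
  obtain ⟨τ, m, hm, hτ1, hτ2⟩ := Cfsg.Agent.Lib.helper86.exists_transfer hS F hF lam
  have hτz : τ z = 1 := by
    have h1 := (Cfsg.Agent.Lib.helper86.isStableHom_iff F τ).mp hτ1
    exact MonoidHom.mem_ker.mp (h1 (Subgroup.mem_subgroupOf.mpr hzf))
  have hev : τ z = ((lam z)⁻¹) ^ m := by
    apply hτ2
    intro n Q' χ b hb hχ e
    have h2 := hQ Q' χ hχ ⟨(b : Ω)⁻¹, hb⟩ (by rw [e]; exact Q.pow_mem hzQ n)
    have e1 : (⟨χ ⟨(b : Ω)⁻¹, hb⟩, (F.le_of_mem hχ).2 _⟩ : S) = z ^ n :=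
      Subtype.ext (e.trans (Subgroup.coe_pow S z n).symm)
    have e2 : (⟨(b : Ω)⁻¹, (F.le_of_mem hχ).1 hb⟩ : S) = b⁻¹ := rfl
    rw [e1, e2, map_pow, map_inv] at h2
    rw [inv_pow, h2, inv_inv]
  rw [hτz] at hev
  have h5 : (lam z) ^ m = 1 := by
    rw [← inv_inj, ← inv_pow, ← hev, inv_one]
  obtain ⟨j, hj⟩ := hS z
  have h6 : (lam z) ^ (p ^ j) = 1 := by rw [← map_pow, hj, map_one]
  have hcop : Nat.Coprime m (p ^ j) :=
    (Nat.Coprime.pow_left j ((Nat.Prime.coprime_iff_not_dvd Fact.out).2 hm)).symm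
  have hd3 := Nat.dvd_gcd (orderOf_dvd_of_pow_eq_one h5) (orderOf_dvd_of_pow_eq_one h6)
  rw [hcop] at hd3
  exact orderOf_eq_one_iff.1 (Nat.dvd_one.1 hd3)

end gen

section grp

open scoped commutatorElement in
/-- **The focal subgroup theorem in a normalizer.** For a Sylow `p`-subgroup `P` of `G`
normalizing `V`, the elements of `P` in the derived group of `N = N_G(V)` are products of
elements `x⁻¹ (n x n⁻¹)` with `x, n x n⁻¹ ∈ P`, `n ∈ N`. -/
theorem comm_normalizer_inf_le {G : Type u} [Group G] [Finite G] {p : ℕ} [Fact p.Prime]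
    (P : Sylow p G) (V : Subgroup G) (hPV : (P : Subgroup G) ≤ Subgroup.normalizer (V : Set G)) :
    (commutator ↥(Subgroup.normalizer (V : Set G))).map
        (Subgroup.normalizer (V : Set G)).subtype ⊓ (P : Subgroup G) ≤
      Subgroup.closure {y : G | ∃ x ∈ (P : Subgroup G), ∃ n ∈ Subgroup.normalizer (V : Set G),
        n * x * n⁻¹ ∈ (P : Subgroup G) ∧ y = x⁻¹ * (n * x * n⁻¹)} := by
  rintro y ⟨⟨v, hv, rfl⟩, hyP⟩
  have hvP : v ∈ ((P.subtype hPV : Sylow p ↥(Subgroup.normalizer (V : Set G))) :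
      Subgroup ↥(Subgroup.normalizer (V : Set G))) := by
    rw [Sylow.coe_subtype, Subgroup.mem_subgroupOf]
    exact hyP
  have h1 : v ∈ (((P.subtype hPV : Sylow p ↥(Subgroup.normalizer (V : Set G))) :
      Subgroup ↥(Subgroup.normalizer (V : Set G)))).focalSubgroup := by
    rw [← Subgroup.commutator_inf_eq_focalSubgroup]
    exact ⟨hv, hvP⟩
  have hle : (((P.subtype hPV : Sylow p ↥(Subgroup.normalizer (V : Set G))) :
      Subgroup ↥(Subgroup.normalizer (V : Set G)))).focalSubgroup ≤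
      (Subgroup.closure {y : G | ∃ x ∈ (P : Subgroup G), ∃ n ∈ Subgroup.normalizer (V : Set G),
        n * x * n⁻¹ ∈ (P : Subgroup G) ∧ y = x⁻¹ * (n * x * n⁻¹)}).comap
        (Subgroup.normalizer (V : Set G)).subtype := by
    rw [Subgroup.focalSubgroup_def, Subgroup.closure_le]
    rintro g ⟨hg, x, hx, n, rfl⟩
    rw [Sylow.coe_subtype, Subgroup.mem_subgroupOf] at hg hx
    show ((⁅x, n⁆ : ↥(Subgroup.normalizer (V : Set G))) : G) ∈ Subgroup.closure _
    apply Subgroup.subset_closure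
    have e : ((⁅x, n⁆ : ↥(Subgroup.normalizer (V : Set G))) : G) =
        ((x : G)⁻¹)⁻¹ * ((n : G) * (x : G)⁻¹ * (n : G)⁻¹) := by
      rw [commutatorElement_def]
      simp [mul_assoc]
    refine ⟨(x : G)⁻¹, Subgroup.inv_mem _ hx, (n : G), n.2, ?_, e⟩
    have h2 : (n : G) * (x : G)⁻¹ * (n : G)⁻¹ =
        (x : G)⁻¹ * ((⁅x, n⁆ : ↥(Subgroup.normalizer (V : Set G))) : G) := by
      rw [e]; group
    rw [h2]
    exact Subgroup.mul_mem _ (Subgroup.inv_mem _ hx) hg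
  exact hle h1

end grp

end Cfsg.Agent.Lib.helper90
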