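import Cfsg.Agent.Lib.helper90.WellPlaced
import Cfsg.Agent.Lib.helper87.SubgroupSystem
import Cfsg.Agent.Lib.helper39.Sections

/-!
A local theorem on `p`-th powers of central elements (helper90).

Let `W` be an isomorphism-invariant `p`-group functor such that, in every finite group `G` with
Sylow `p`-subgroup `P` in which `W(P)` is not normal, some `g ∈ P` outside `O_p(G)` acts
quadratically on `Z(O_p(G))` (`QuadHyp`).  Then in every finite group `L` with
`C_L(O_p(L)) ≤ O_p(L)` and Sylow `p`-subgroup `T`, every product of `p`-th powers of elements of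
`Z(T)` that centralizes `N_L(W(T))` is central in `L` (`pow_center_of_quad`).

The point: a quadratic `g ∉ O_p(L)` may be taken with `g ^ p ∈ O_p(L)`; then each conjugate `h` of
`g` centralizes the `p`-th powers of the elements of `V = Z(O_p(L))` (`h ^ p` centralizes `V`, and
`[v ^ p, h] = [v, h ^ p]` for a quadratic action), so `K = ⟨g^L⟩` centralizes them, and the Frattini
argument `L = K N_L(T ∩ K)` finishes by induction.
-/

set_option autoImplicit false

namespace Cfsg.Agent.Lib.helper90

open Cfsg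

open scoped commutatorElement

universe u

/-- The quadratic-element hypothesis on a functor `W`. -/
def QuadHyp (p : ℕ) [Fact p.Prime] (W : ∀ (Q : Type u) [Group Q], Subgroup Q) : Prop :=
  ∀ (G : Type u) [Group G] [Finite G] (P : Sylow p G),
    ¬ (((W ↥(P : Subgroup G)).map (P : Subgroup G).subtype : Subgroup G)).Normal →
      ∃ g : G, g ∈ (P : Subgroup G) ∧ g ∉ Cfsg.pCore p G ∧
        ⁅⁅(Subgroup.center ↥(Cfsg.pCore p G)).map (Cfsg.pCore p G).subtype, Subgroup.zpowers g⁆,
          Subgroup.zpowers g⁆ = ⊥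

/-- If `h` acts quadratically on the abelian normal subgroup `V` and `h ^ p` centralizes `V`, then
`h` centralizes the `p`-th powers of the elements of `V`. -/
theorem commute_pow_of_quadratic {L : Type*} [Group L] {V : Subgroup L} (hVn : V.Normal)
    (hVab : ∀ a ∈ V, ∀ b ∈ V, a * b = b * a) {h : L}
    (hquad : ⁅⁅V, Subgroup.zpowers h⁆, Subgroup.zpowers h⁆ = ⊥) (p : ℕ)
    (hp : ∀ v ∈ V, h ^ p * v = v * h ^ p) (v : L) (hv : v ∈ V) : h * v ^ p = v ^ p * h := by
  obtain ⟨d, hd⟩ : ∃ d : L, d = h * v * h⁻¹ * v⁻¹ := ⟨_, rfl⟩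
  have hdV : d ∈ V := by
    rw [hd]
    exact V.mul_mem (hVn.conj_mem v hv h) (V.inv_mem hv)
  have hdh : Commute d h := by
    have hc : ⁅v, h⁆ ∈ ⁅V, Subgroup.zpowers h⁆ :=
      Subgroup.commutator_mem_commutator hv (Subgroup.mem_zpowers h)
    have hcc : ⁅⁅v, h⁆, h⁆ ∈ ⁅⁅V, Subgroup.zpowers h⁆, Subgroup.zpowers h⁆ :=
      Subgroup.commutator_mem_commutator hc (Subgroup.mem_zpowers h)
    rw [hquad, Subgroup.mem_bot] at hcc
    have h1 : Commute ⁅v, h⁆ h := commutatorElement_eq_one_iff_commute.mp hcc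
    have h2 : d = ⁅v, h⁆⁻¹ := by
      rw [hd, commutatorElement_def]; group
    rw [h2]
    exact h1.inv_left
  have e1 : h * v = d * v * h := by rw [hd]; group
  have hconj : ∀ k : ℕ, h ^ k * v = d ^ k * v * h ^ k := by
    intro k
    induction k with
    | zero => simp
    | succ k ih =>
      have e2 : h ^ k * d = d * h ^ k := ((hdh.symm).pow_left k).eq
      calc h ^ (k + 1) * v = h ^ k * (h * v) := by rw [pow_succ, mul_assoc]
        _ = h ^ k * (d * v * h) := by rw [e1]
        _ = (h ^ k * d) * v * h := by simp only [mul_assoc]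
        _ = d * (h ^ k * v) * h := by rw [e2]; simp only [mul_assoc]
        _ = d * (d ^ k * v * h ^ k) * h := by rw [ih]
        _ = d ^ (k + 1) * v * h ^ (k + 1) := by
          rw [pow_succ' d k, pow_succ h k]; simp only [mul_assoc]
  have hdp : d ^ p = 1 := by
    have h3 := hconj p
    rw [hp v hv] at h3
    have h4 : v = d ^ p * v := mul_right_cancel h3
    have h5 : 1 * v = d ^ p * v := by rw [one_mul]; exact h4
    exact (mul_right_cancel h5).symm
  have hdv : Commute d v := hVab d hdV v hv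
  have e3 : h * v * h⁻¹ = d * v := by rw [hd]; group
  have e4 : h * v ^ p * h⁻¹ = v ^ p := by
    rw [← conj_pow, e3, hdv.mul_pow, hdp, one_mul]
  calc h * v ^ p = (h * v ^ p * h⁻¹) * h := by group
    _ = v ^ p * h := by rw [e4]

theorem mem_normalizer_inf_aux {L : Type*} [Group L] {A B : Subgroup L} {x : L}
    (hA : x ∈ Subgroup.normalizer (A : Set L)) (hB : x ∈ Subgroup.normalizer (B : Set L)) :
    x ∈ Subgroup.normalizer ((A ⊓ B : Subgroup L) : Set L) := by
  rw [Subgroup.mem_normalizer_iff]
  intro h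
  exact ⟨fun hh => ⟨(Subgroup.mem_normalizer_iff.mp hA h).mp hh.1,
      (Subgroup.mem_normalizer_iff.mp hB h).mp hh.2⟩,
    fun hh => ⟨(Subgroup.mem_normalizer_iff.mp hA h).mpr hh.1,
      (Subgroup.mem_normalizer_iff.mp hB h).mpr hh.2⟩⟩

/-- **The local theorem.** -/
theorem pow_center_of_quad {p : ℕ} [Fact p.Prime] {W : ∀ (Q : Type u) [Group Q], Subgroup Q}
    (hW : IsCharPFunctor.{u} p W) (hq : QuadHyp.{u} p W) (n : ℕ) :
    ∀ (L : Type u) [Group L] [Finite L], Nat.card L = n →
      Subgroup.centralizer ((pCore p L : Subgroup L) : Set L) ≤ pCore p L →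
      ∀ (T : Sylow p L) (y : L),
        y ∈ Subgroup.closure ((fun z : L => z ^ p) ''
          (((T : Subgroup L) ⊓ Subgroup.centralizer ((T : Subgroup L) : Set L) : Subgroup L) :
            Set L)) →
        (∀ m ∈ Subgroup.normalizer ((inducedFunctor W (T : Subgroup L) : Subgroup L) : Set L),
          m * y = y * m) →
        y ∈ Subgroup.center L := by
  induction n using Nat.strong_induction_on with
  | _ n IH =>
  intro L _ _ hn hcon T y hy hcent
  classical
  have hQn : (pCore p L).Normal := Cfsg.Agent.Lib.helper39.pCore_normal p L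
  have hQp : IsPGroup p (pCore p L) := Cfsg.Agent.Lib.helper39.pCore_isPGroup p L
  have hQT : pCore p L ≤ T := Cfsg.Agent.Lib.helper39.pCore_le_sylow T
  obtain ⟨V, hVdef⟩ : ∃ V : Subgroup L,
      V = (Subgroup.center ↥(pCore p L)).map (pCore p L).subtype := ⟨_, rfl⟩
  have hVmem : ∀ v : L, v ∈ V ↔ v ∈ pCore p L ∧ ∀ q ∈ pCore p L, q * v = v * q := by
    intro v
    rw [hVdef]
    constructor
    · rintro ⟨c, hc, rfl⟩
      refine ⟨c.2, fun q hq => ?_⟩
      have h1 := Subgroup.mem_center_iff.mp hc ⟨q, hq⟩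
      exact congrArg Subtype.val h1
    · rintro ⟨hv, hc⟩
      refine ⟨⟨v, hv⟩, Subgroup.mem_center_iff.mpr ?_, rfl⟩
      intro q
      exact Subtype.ext (hc q q.2)
  have hVn : V.Normal := by
    constructor
    intro v hv x
    rw [hVmem] at hv ⊢
    refine ⟨hQn.conj_mem v hv.1 x, fun q hq => ?_⟩
    have h1 := hv.2 (x⁻¹ * q * x) (by
      have := hQn.conj_mem q hq x⁻¹
      rwa [inv_inv] at this)
    calc q * (x * v * x⁻¹) = x * ((x⁻¹ * q * x) * v) * x⁻¹ := by group
      _ = x * (v * (x⁻¹ * q * x)) * x⁻¹ := by rw [h1]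
      _ = x * v * x⁻¹ * q := by group
  have hVab : ∀ a ∈ V, ∀ b ∈ V, a * b = b * a := by
    intro a ha b hb
    exact ((hVmem b).mp hb).2 a ((hVmem a).mp ha).1
  -- `Z(T) ≤ V`
  have hZV : ∀ z ∈ (T : Subgroup L) ⊓ Subgroup.centralizer ((T : Subgroup L) : Set L),
      z ∈ V := by
    intro z hz
    rw [hVmem]
    have hzc : z ∈ Subgroup.centralizer ((pCore p L : Subgroup L) : Set L) := by
      rw [Subgroup.mem_centralizer_iff]
      intro q hq
      exact (Subgroup.mem_centralizer_iff.mp hz.2) q (hQT hq)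
    exact ⟨hcon hzc, fun q hq => (Subgroup.mem_centralizer_iff.mp hz.2) q (hQT hq)⟩
  have hyT : y ∈ (T : Subgroup L) := by
    have hle : Subgroup.closure ((fun z : L => z ^ p) ''
        (((T : Subgroup L) ⊓ Subgroup.centralizer ((T : Subgroup L) : Set L) : Subgroup L) :
          Set L)) ≤ (T : Subgroup L) := by
      rw [Subgroup.closure_le]
      rintro _ ⟨z, hz, rfl⟩
      exact Subgroup.pow_mem _ hz.1 p
    exact hle hy
  by_cases hWn : (inducedFunctor W (T : Subgroup L)).Normal
  · rw [Subgroup.mem_center_iff]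
    intro m
    apply hcent m
    rw [Subgroup.mem_normalizer_iff]
    intro h
    constructor
    · intro hh
      exact hWn.conj_mem h hh m
    · intro hh
      have h1 := hWn.conj_mem _ hh m⁻¹
      have e : m⁻¹ * (m * h * m⁻¹) * m⁻¹⁻¹ = h := by group
      rw [e] at h1
      exact h1
  -- a quadratic element outside `O_p(L)`
  obtain ⟨g, hgT, hgQ, hquad⟩ := hq L T hWn
  rw [← hVdef] at hquad
  obtain ⟨g', hg'T, hg'Q, hg'p, hg'le⟩ : ∃ g' : L, g' ∈ (T : Subgroup L) ∧ g' ∉ pCore p L ∧
      g' ^ p ∈ pCore p L ∧ Subgroup.zpowers g' ≤ Subgroup.zpowers g := by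
    obtain ⟨k, hk⟩ := T.2 ⟨g, hgT⟩
    have hk' : g ^ (p ^ k) = 1 := congrArg Subtype.val hk
    have hex : ∃ j, g ^ (p ^ j) ∈ pCore p L := ⟨k, by rw [hk']; exact Subgroup.one_mem _⟩
    have hj := Nat.find_spec hex
    rcases Nat.eq_zero_or_pos (Nat.find hex) with h0 | hpos
    · exfalso
      rw [h0, pow_zero, pow_one] at hj
      exact hgQ hj
    · refine ⟨g ^ (p ^ (Nat.find hex - 1)), Subgroup.pow_mem _ hgT _,
        Nat.find_min hex (by omega), ?_, ?_⟩
      · rw [← pow_mul, ← pow_succ]
        have e : Nat.find hex - 1 + 1 = Nat.find hex := by omega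
        rw [e]
        exact hj
      · rw [Subgroup.zpowers_le]
        exact Subgroup.pow_mem _ (Subgroup.mem_zpowers g) _
  have hquad' : ⁅⁅V, Subgroup.zpowers g'⁆, Subgroup.zpowers g'⁆ = ⊥ := by
    apply le_bot_iff.mp
    rw [← hquad]
    exact Subgroup.commutator_mono (Subgroup.commutator_mono le_rfl hg'le) hg'le
  have hg'pV : ∀ v ∈ V, g' ^ p * v = v * g' ^ p := by
    intro v hv
    exact ((hVmem v).mp hv).2 _ hg'p
  -- every conjugate of `g'` centralizes `y`
  have hconjy : ∀ x : L, (x * g' * x⁻¹) * y = y * (x * g' * x⁻¹) := by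
    intro x
    have hle : Subgroup.closure ((fun z : L => z ^ p) ''
        (((T : Subgroup L) ⊓ Subgroup.centralizer ((T : Subgroup L) : Set L) : Subgroup L) :
          Set L)) ≤ Subgroup.centralizer ({x * g' * x⁻¹} : Set L) := by
      rw [Subgroup.closure_le]
      rintro _ ⟨z, hz, rfl⟩
      show z ^ p ∈ Subgroup.centralizer ({x * g' * x⁻¹} : Set L)
      rw [Subgroup.mem_centralizer_iff]
      intro h hh
      rw [Set.mem_singleton_iff] at hh
      rw [hh]
      have hzV : x⁻¹ * z * x ∈ V := by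
        have := hVn.conj_mem z (hZV z hz) x⁻¹
        rwa [inv_inv] at this
      have h1 := commute_pow_of_quadratic hVn hVab hquad' p hg'pV (x⁻¹ * z * x) hzV
      have e1 : (x⁻¹ * z * x) ^ p = x⁻¹ * z ^ p * x := by
        have := conj_pow (a := x⁻¹) (b := z) (i := p)
        rw [inv_inv] at this
        exact this
      rw [e1] at h1
      calc x * g' * x⁻¹ * z ^ p = x * (g' * (x⁻¹ * z ^ p * x)) * x⁻¹ := by group
        _ = x * ((x⁻¹ * z ^ p * x) * g') * x⁻¹ := by rw [h1]
        _ = z ^ p * (x * g' * x⁻¹) := by group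
    have h2 := hle hy
    rw [Subgroup.mem_centralizer_iff] at h2
    exact h2 _ rfl
  obtain ⟨K, hKdef⟩ : ∃ K : Subgroup L, K = Subgroup.normalClosure ({g'} : Set L) := ⟨_, rfl⟩
  have hKn : K.Normal := by rw [hKdef]; exact Subgroup.normalClosure_normal
  have hg'K : g' ∈ K := by
    rw [hKdef]; exact Subgroup.subset_normalClosure (Set.mem_singleton g')
  have hKy : ∀ k ∈ K, k * y = y * k := by
    have hle : K ≤ Subgroup.centralizer ({y} : Set L) := by
      rw [hKdef]
      show Subgroup.closure (Group.conjugatesOfSet ({g'} : Set L)) ≤ _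
      rw [Subgroup.closure_le]
      intro a ha
      rw [Group.mem_conjugatesOfSet_iff] at ha
      obtain ⟨b, hb, hba⟩ := ha
      rw [Set.mem_singleton_iff] at hb
      rw [isConj_iff] at hba
      obtain ⟨c, hc⟩ := hba
      show a ∈ Subgroup.centralizer ({y} : Set L)
      rw [Subgroup.mem_centralizer_iff]
      intro h hh
      rw [Set.mem_singleton_iff] at hh
      rw [hh, ← hc, hb]
      exact (hconjy c).symm
    intro k hk
    have h1 := hle hk
    rw [Subgroup.mem_centralizer_iff] at h1
    exact (h1 y rfl).symm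
  -- Frattini
  obtain ⟨R, hR⟩ := Cfsg.Agent.Lib.helper87.sylowIn_inf_normal T K
  have hfrat := Sylow.normalizer_sup_eq_top R
  rw [hR, Subgroup.subgroupOf_map_subtype, inf_assoc, inf_idem] at hfrat
  obtain ⟨M, hMdef⟩ : ∃ M : Subgroup L,
      M = Subgroup.normalizer ((((T : Subgroup L) ⊓ K : Subgroup L)) : Set L) := ⟨_, rfl⟩
  rw [← hMdef] at hfrat
  have hTM : (T : Subgroup L) ≤ M := by
    intro t ht
    rw [hMdef]
    apply mem_normalizer_inf_aux (Subgroup.le_normalizer ht)
    rw [Subgroup.mem_normalizer_iff]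
    intro h
    constructor
    · intro hh
      exact hKn.conj_mem h hh t
    · intro hh
      have h1 := hKn.conj_mem _ hh t⁻¹
      have e : t⁻¹ * (t * h * t⁻¹) * t⁻¹⁻¹ = h := by group
      rw [e] at h1
      exact h1
  have hMne : M ≠ ⊤ := by
    intro hM
    apply hg'Q
    have hnorm : ((T : Subgroup L) ⊓ K).Normal := by
      constructor
      intro a ha x
      have hx : x ∈ M := by rw [hM]; exact Subgroup.mem_top x
      rw [hMdef] at hx
      exact (Subgroup.mem_normalizer_iff.mp hx a).mp ha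
    have hpg : IsPGroup p ↥((T : Subgroup L) ⊓ K) := T.2.to_le inf_le_left
    exact Cfsg.Agent.Lib.helper39.le_pCore hnorm hpg ⟨hg'T, hg'K⟩
  have hcardM : Nat.card ↥M < n := by
    rw [← hn]
    exact lt_of_le_of_ne (Subgroup.card_le_card_group M)
      (fun h => hMne ((Subgroup.card_eq_iff_eq_top M).mp h))
  -- the induction hypothesis in `M`
  have hyM : y ∈ M := hTM hyT
  have hMy : ∀ m ∈ M, m * y = y * m := by
    have hQM : pCore p L ≤ M := hQT.trans hTM
    have hconM : Subgroup.centralizer ((pCore p ↥M : Subgroup ↥M) : Set ↥M) ≤ pCore p ↥M := by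
      have hn' : ((pCore p L).subgroupOf M).Normal := inferInstance
      have hp' : IsPGroup p ↥((pCore p L).subgroupOf M) :=
        hQp.comap_of_injective M.subtype M.subtype_injective
      have hle := Cfsg.Agent.Lib.helper39.le_pCore hn' hp'
      intro c hc
      apply hle
      rw [Subgroup.mem_subgroupOf]
      apply hcon
      rw [Subgroup.mem_centralizer_iff]
      intro q hq
      have h1 := (Subgroup.mem_centralizer_iff.mp hc) ⟨q, hQM hq⟩
        (hle (Subgroup.mem_subgroupOf.mpr hq))
      exact congrArg Subtype.val h1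
    have hyclos : (⟨y, hyM⟩ : M) ∈ Subgroup.closure ((fun z : ↥M => z ^ p) ''
        ((((T.subtype hTM : Sylow p ↥M) : Subgroup ↥M) ⊓ Subgroup.centralizer
          (((T.subtype hTM : Sylow p ↥M) : Subgroup ↥M) : Set ↥M) : Subgroup ↥M) : Set ↥M)) := by
      have hle : Subgroup.closure ((fun z : L => z ^ p) ''
          (((T : Subgroup L) ⊓ Subgroup.centralizer ((T : Subgroup L) : Set L) : Subgroup L) :
            Set L)) ≤ (Subgroup.closure ((fun z : ↥M => z ^ p) ''
          ((((T.subtype hTM : Sylow p ↥M) : Subgroup ↥M) ⊓ Subgroup.centralizer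
            (((T.subtype hTM : Sylow p ↥M) : Subgroup ↥M) : Set ↥M) : Subgroup ↥M) :
              Set ↥M))).map M.subtype := by
        rw [Subgroup.closure_le]
        rintro _ ⟨z, hz, rfl⟩
        refine ⟨(⟨z, hTM hz.1⟩ : M) ^ p, ?_, rfl⟩
        apply Subgroup.subset_closure
        refine ⟨⟨z, hTM hz.1⟩, ⟨?_, ?_⟩, rfl⟩
        · show (⟨z, hTM hz.1⟩ : M) ∈ ((T.subtype hTM : Sylow p ↥M) : Subgroup ↥M)
          rw [Sylow.coe_subtype, Subgroup.mem_subgroupOf]
          exact hz.1
        · show (⟨z, hTM hz.1⟩ : M) ∈ Subgroup.centralizer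
            (((T.subtype hTM : Sylow p ↥M) : Subgroup ↥M) : Set ↥M)
          rw [Subgroup.mem_centralizer_iff]
          intro h hh
          have hh' : (h : L) ∈ (T : Subgroup L) := by
            have : h ∈ ((T.subtype hTM : Sylow p ↥M) : Subgroup ↥M) := hh
            rw [Sylow.coe_subtype, Subgroup.mem_subgroupOf] at this
            exact this
          exact Subtype.ext ((Subgroup.mem_centralizer_iff.mp hz.2) (h : L) hh')
      obtain ⟨y', hy', hyy⟩ := hle hy
      have e : (⟨y, hyM⟩ : M) = y' := Subtype.ext hyy.symm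
      rw [e]
      exact hy'
    have hcentM : ∀ m ∈ Subgroup.normalizer ((inducedFunctor W
        ((T.subtype hTM : Sylow p ↥M) : Subgroup ↥M) : Subgroup ↥M) : Set ↥M),
        m * (⟨y, hyM⟩ : M) = ⟨y, hyM⟩ * m := by
      intro m hm
      apply Subtype.ext
      apply hcent (m : L)
      have hind : inducedFunctor W ((T.subtype hTM : Sylow p ↥M) : Subgroup ↥M) =
          (inducedFunctor W (T : Subgroup L)).subgroupOf M := by
        rw [Sylow.coe_subtype]
        exact ind_subgroupOf hW T.2 hTM
      rw [hind] at hm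
      rw [Subgroup.mem_normalizer_iff]
      intro x
      have hWT : inducedFunctor W (T : Subgroup L) ≤ M :=
        (Cfsg.Agent.Lib.helper39.ind_le _).trans hTM
      constructor
      · intro hx
        have h1 := (Subgroup.mem_normalizer_iff.mp hm ⟨x, hWT hx⟩).mp
          (Subgroup.mem_subgroupOf.mpr hx)
        exact Subgroup.mem_subgroupOf.mp h1
      · intro hx
        have hxM : x ∈ M := by
          have h2 : (m : L)⁻¹ * ((m : L) * x * (m : L)⁻¹) * (m : L) ∈ M :=
            M.mul_mem (M.mul_mem (M.inv_mem m.2) (hWT hx)) m.2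
          have e : (m : L)⁻¹ * ((m : L) * x * (m : L)⁻¹) * (m : L) = x := by group
          rw [e] at h2
          exact h2
        have h1 := (Subgroup.mem_normalizer_iff.mp hm ⟨x, hxM⟩).mpr
          (Subgroup.mem_subgroupOf.mpr hx)
        exact Subgroup.mem_subgroupOf.mp h1
    have hres := IH _ hcardM ↥M rfl hconM (T.subtype hTM) ⟨y, hyM⟩ hyclos hcentM
    intro m hm
    have h1 := Subgroup.mem_center_iff.mp hres ⟨m, hm⟩
    exact congrArg Subtype.val h1
  -- conclusion
  have htop : (⊤ : Subgroup L) ≤ Subgroup.centralizer ({y} : Set L) := by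
    rw [← hfrat]
    apply sup_le
    · intro m hm
      rw [Subgroup.mem_centralizer_iff]
      intro h hh
      rw [Set.mem_singleton_iff] at hh
      rw [hh]
      exact (hMy m hm).symm
    · intro k hk
      rw [Subgroup.mem_centralizer_iff]
      intro h hh
      rw [Set.mem_singleton_iff] at hh
      rw [hh]
      exact (hKy k hk).symm
  rw [Subgroup.mem_center_iff]
  intro m
  have h1 := htop (Subgroup.mem_top m)
  rw [Subgroup.mem_centralizer_iff] at h1
  exact (h1 y rfl).symm

end Cfsg.Agent.Lib.helper90
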