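import Cfsg.Agent.Lib.helper90.WFusion
import Cfsg.Agent.Lib.helper90.PowGroup

/-!
Control of `p`-th powers of central elements in saturated fusion systems by an
isomorphism-invariant `p`-group functor `W` with `Z(Q) ≤ W(Q)` satisfying the quadratic-element
hypothesis `QuadHyp` (helper90).

Same architecture as `WFusion.lean`, with the local group-theoretic input `pow_center_of_quad`
applied inside a model of the constrained system `N_F(U C_S(U))`, `U` normal in `S`.
-/

set_option autoImplicit false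

namespace Cfsg.Agent.Lib.helper90

open Cfsg Cfsg.FusionSystem Cfsg.Agent.Lib.helper89

universe u

section pfus

variable {Ω : Type u} [Group Ω] {S : Subgroup Ω} {p : ℕ} [Fact p.Prime]
  {W : ∀ (Q : Type u) [Group Q], Subgroup Q}

/-- The subgroup generated by the `p`-th powers of the elements of `Z(S)`. -/
def powCenter (p : ℕ) (S : Subgroup Ω) : Subgroup Ω :=
  Subgroup.closure ((fun z : Ω => z ^ p) ''
    ((S ⊓ Subgroup.centralizer (S : Set Ω) : Subgroup Ω) : Set Ω))

omit [Fact p.Prime] in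
theorem powCenter_le (S : Subgroup Ω) :
    powCenter p S ≤ S ⊓ Subgroup.centralizer (S : Set Ω) := by
  unfold powCenter
  rw [Subgroup.closure_le]
  rintro _ ⟨z, hz, rfl⟩
  exact Subgroup.pow_mem _ hz p

omit [Fact p.Prime] in
theorem powCenter_mono_of {S S' : Subgroup Ω}
    (h : S ⊓ Subgroup.centralizer (S : Set Ω) ≤ S' ⊓ Subgroup.centralizer (S' : Set Ω)) :
    powCenter p S ≤ powCenter p S' := by
  unfold powCenter
  apply Subgroup.closure_mono
  rintro _ ⟨z, hz, rfl⟩
  exact ⟨z, h hz, rfl⟩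

/-- The elements of the subgroup generated by the `p`-th powers of `Z(S)` that are fixed by the
automorphisms in `F` of `W(S)`. -/
def PFix (p : ℕ) (W : ∀ (Q : Type u) [Group Q], Subgroup Q) (F : FusionSystem S) (y : Ω) : Prop :=
  y ∈ powCenter p S ∧
    ∀ φ ∈ F.Hom (inducedFunctor W S), φ.range = inducedFunctor W S →
      ∀ hy : y ∈ inducedFunctor W S, φ ⟨y, hy⟩ = y

omit [Fact p.Prime] in
theorem PFix.zpow (hWZ : CenterLeFunctor.{u} p W) [Finite S] (hS : IsPGroup p S)
    {F : FusionSystem S} {y : Ω} (h : PFix p W F y) (k : ℤ) : PFix p W F (y ^ k) := by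
  refine ⟨Subgroup.zpow_mem _ h.1 k, fun φ hφ hr hy => ?_⟩
  have hyK := center_le_indW hWZ S hS (powCenter_le S h.1)
  have h1 := h.2 φ hφ hr hyK
  have h2 : (⟨y ^ k, hy⟩ : inducedFunctor W S) = ⟨y, hyK⟩ ^ k := rfl
  rw [h2, map_zpow, h1]

/-- **The normal case.** For `U` normalized by `S`, the maps of `F` from `U` onto `U` fix the
elements of `U` that are fixed by `Aut_F(W(S))` and central in `S`. -/
theorem stepOneP (hmodel : ModelHyp.{u} p) (hW : IsCharPFunctor.{u} p W)
    (hq : QuadHyp.{u} p W) [Finite S] (hS : IsPGroup p S)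
    (F : FusionSystem S) (hF : F.IsSaturated p) {y : Ω} (hy : PFix p W F y)
    (hyK : y ∈ inducedFunctor W S) {U : Subgroup Ω}
    (hUS : U ≤ S) (hn : S ≤ Subgroup.normalizer (U : Set Ω)) (hyU : y ∈ U)
    {φ : U →* Ω} (hφ : φ ∈ F.Hom U) (hφr : φ.range = U) : φ ⟨y, hyU⟩ = y := by
  classical
  obtain ⟨R, hRdef⟩ : ∃ R : Subgroup Ω, R = U ⊔ centralizerIn S U := ⟨_, rfl⟩
  have hUR : U ≤ R := by rw [hRdef]; exact le_sup_left
  have hCR : centralizerIn S U ≤ R := by rw [hRdef]; exact le_sup_right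
  have hRS : R ≤ S := by rw [hRdef]; exact sup_le hUS inf_le_left
  have hRn : S ≤ Subgroup.normalizer (R : Set Ω) := by
    rw [hRdef]; exact normalizer_sup_centralizerIn hn
  have hRc : centralizerIn S R ≤ R := by rw [hRdef]; exact centralizerIn_sup_le
  -- extension of `φ` to `R`
  have hfnU := fullyNormalized_of_normal F hUS hn
  have hrec := (Cfsg.Agent.Lib.helper88.fullyAutomized_receptive_of_fullyNormalized hS F hF hfnU).2
  obtain ⟨ψ, hψ, hψφ⟩ := hrec.2 U φ hφ hφr
  have hUext : U ≤ extender S U φ := Cfsg.Agent.Lib.helper88.le_extender F hφ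
  have hCext : centralizerIn S U ≤ extender S U φ := by
    intro c hc
    apply Subgroup.subset_closure
    refine ⟨hc.1, mem_normalizer_of_mem_centralizer hc.2, 1, S.one_mem, fun x hx => ?_⟩
    have h1 : c * (x : Ω) * c⁻¹ = x := by
      have := (Subgroup.mem_centralizer_iff.mp hc.2) (x : Ω) x.2
      rw [← this]; group
    have e : (⟨c * (x : Ω) * c⁻¹, hx⟩ : U) = x := Subtype.ext h1
    rw [e]; simp
  have hRext : R ≤ extender S U φ := by rw [hRdef]; exact sup_le hUext hCext
  have hψR := Cfsg.Agent.Lib.helper88.restrict_mem F hRext hψ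
  have hmapR : ∀ (r : Ω) (hr : r ∈ R), ψ ⟨r, hRext hr⟩ ∈ R := by
    have h1 : U ⊔ centralizerIn S U ≤ (R.comap ψ).map (extender S U φ).subtype := by
      refine sup_le ?_ ?_
      · intro u hu
        refine ⟨⟨u, hUext hu⟩, ?_, rfl⟩
        show ψ ⟨u, hUext hu⟩ ∈ R
        rw [hψφ u hu (hUext hu)]
        apply hUR
        have : φ ⟨u, hu⟩ ∈ φ.range := ⟨⟨u, hu⟩, rfl⟩
        rw [hφr] at this
        exact this
      · intro c hc
        refine ⟨⟨c, hCext hc⟩, ?_, rfl⟩
        show ψ ⟨c, hCext hc⟩ ∈ R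
        apply hCR
        refine ⟨range_le_of_hom F hψ ⟨_, rfl⟩, ?_⟩
        show ψ ⟨c, hCext hc⟩ ∈ Subgroup.centralizer (U : Set Ω)
        rw [Subgroup.mem_centralizer_iff]
        intro u hu
        have hu2 : u ∈ φ.range := by rw [hφr]; exact hu
        obtain ⟨u', rfl⟩ := hu2
        rw [← hψφ (u' : Ω) u'.2 (hUext u'.2), ← map_mul, ← map_mul]
        congr 1
        apply Subtype.ext
        exact (Subgroup.mem_centralizer_iff.mp hc.2) (u' : Ω) u'.2
    intro r hr
    have hr' : r ∈ U ⊔ centralizerIn S U := by rw [← hRdef]; exact hr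
    obtain ⟨z, hz, hzr⟩ := h1 hr'
    have e : (⟨r, hRext hr⟩ : extender S U φ) = z := Subtype.ext hzr.symm
    rw [e]
    exact hz
  -- a model of `N_F(R)`
  have hcon := normSys_isConstrained hS F hF R hRS hRn hRc
  obtain ⟨G, _, ι, hM⟩ := hmodel hS (normSys F R hRS hRn) hcon
  have hM' := hM
  obtain ⟨hfin, hreal, ⟨T₀, hT₀⟩, hcon4⟩ := hM
  have := hfin
  have hinj := hreal.1
  have hψN : ψ.comp (Subgroup.inclusion hRext) ∈ (normSys F R hRS hRn).Hom R :=
    mem_normSys_of_forall_mem F R hRS hRn hψR le_rfl (fun q hq => hmapR q hq)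
  have hval : ∀ x : R, (ψ.comp (Subgroup.inclusion hRext)) x ∈ S :=
    fun x => range_le_of_hom F hψR ⟨x, rfl⟩
  obtain ⟨g, hg⟩ := (hreal.2 R hRS _ hval).mp hψN
  have hyR : y ∈ R := hUR hyU
  have hyS : y ∈ S := (powCenter_le S hy.1).1
  have h1 := hg ⟨y, hyR⟩
  have hyT : ι ⟨y, hyS⟩ ∈ (T₀ : Subgroup G) := by rw [hT₀]; exact ⟨_, rfl⟩
  have hKS : inducedFunctor W S ≤ S := Cfsg.Agent.Lib.helper39.ind_le S
  have hcomm : ∀ n ∈ Subgroup.normalizer
      ((inducedFunctor W (T₀ : Subgroup G) : Subgroup G) : Set G),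
      n * ι ⟨y, hyS⟩ = ι ⟨y, hyS⟩ * n := by
    intro n hn
    have hpTop : IsPGroup p (⊤ : Subgroup S) := hS.to_subgroup _
    have hWT : inducedFunctor W (T₀ : Subgroup G) = (W ↥S).map ι := by
      rw [hT₀, MonoidHom.range_eq_map,
        ← Cfsg.Agent.Lib.helper39.ind_map hW ι (⊤ : Subgroup S) hpTop hinj.injOn, ind_topW hW S hS]
    have hmem' : ∀ k : inducedFunctor W S, ∃ s : S,
        (s : Ω) ∈ inducedFunctor W S ∧ ι s = n * ι ⟨k, hKS k.2⟩ * n⁻¹ := by
      intro k
      obtain ⟨k', hk', hkk⟩ := k.2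
      have hin : ι ⟨k, hKS k.2⟩ ∈ (W ↥S).map ι := by
        refine ⟨k', hk', ?_⟩
        congr 1
        exact Subtype.ext hkk
      rw [← hWT] at hin
      have hout := (Subgroup.mem_normalizer_iff.mp hn _).mp hin
      rw [hWT] at hout
      obtain ⟨s, hs, hsn⟩ := hout
      exact ⟨s, ⟨s, hs, rfl⟩, hsn⟩
    choose f hfK hfι using hmem'
    have hfmul : ∀ a b : inducedFunctor W S, f (a * b) = f a * f b := by
      intro a b
      apply hinj
      rw [hfι, map_mul, hfι, hfι]
      have e : (⟨((a * b : inducedFunctor W S) : Ω), hKS (a * b).2⟩ : S) =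
          ⟨a, hKS a.2⟩ * ⟨b, hKS b.2⟩ := rfl
      rw [e, map_mul]
      group
    let θ : inducedFunctor W S →* Ω := S.subtype.comp (MonoidHom.mk' f hfmul)
    have hθS : ∀ k, θ k ∈ S := fun k => (f k).2
    have hθE : θ ∈ (normSys F R hRS hRn).Hom (inducedFunctor W S) :=
      (hreal.2 _ hKS θ hθS).mpr ⟨n, fun k => hfι k⟩
    have hθF : θ ∈ F.Hom (inducedFunctor W S) := normSys_le F R hRS hRn _ hθE
    have hθr : θ.range = inducedFunctor W S :=
      range_eq_of_forall_mem F hθF (fun k => hfK k)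
    have h4 : θ ⟨y, hyK⟩ = y := hy.2 θ hθF hθr hyK
    have h5 := hfι ⟨y, hyK⟩
    have h6 : f ⟨y, hyK⟩ = ⟨y, hyS⟩ := Subtype.ext h4
    rw [h6] at h5
    calc n * ι ⟨y, hyS⟩ = (n * ι ⟨y, hyS⟩ * n⁻¹) * n := by group
      _ = ι ⟨y, hyS⟩ * n := by rw [← h5]
  -- `ι(y)` is a product of `p`-th powers of elements of `Z(T₀)`
  have hyclos : ι ⟨y, hyS⟩ ∈ Subgroup.closure ((fun z : G => z ^ p) ''
      (((T₀ : Subgroup G) ⊓ Subgroup.centralizer ((T₀ : Subgroup G) : Set G) : Subgroup G) :
        Set G)) := by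
    have hle : powCenter p S ≤ ((Subgroup.closure ((fun z : G => z ^ p) ''
        (((T₀ : Subgroup G) ⊓ Subgroup.centralizer ((T₀ : Subgroup G) : Set G) : Subgroup G) :
          Set G))).comap ι).map S.subtype := by
      unfold powCenter
      rw [Subgroup.closure_le]
      rintro _ ⟨z, hz, rfl⟩
      refine ⟨(⟨z, hz.1⟩ : S) ^ p, ?_, rfl⟩
      show ι ((⟨z, hz.1⟩ : S) ^ p) ∈ Subgroup.closure ((fun z : G => z ^ p) ''
        (((T₀ : Subgroup G) ⊓ Subgroup.centralizer ((T₀ : Subgroup G) : Set G) : Subgroup G) :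
          Set G))
      rw [map_pow]
      apply Subgroup.subset_closure
      refine ⟨ι ⟨z, hz.1⟩, ⟨?_, ?_⟩, rfl⟩
      · show ι ⟨z, hz.1⟩ ∈ (T₀ : Subgroup G)
        rw [hT₀]; exact ⟨_, rfl⟩
      · show ι ⟨z, hz.1⟩ ∈ Subgroup.centralizer ((T₀ : Subgroup G) : Set G)
        rw [Subgroup.mem_centralizer_iff]
        intro t ht
        have ht' : t ∈ (T₀ : Subgroup G) := ht
        rw [hT₀] at ht'
        obtain ⟨s, rfl⟩ := ht'
        rw [← map_mul, ← map_mul]
        congr 1
        apply Subtype.ext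
        exact (Subgroup.mem_centralizer_iff.mp hz.2) (s : Ω) s.2
    obtain ⟨y', hy', hyy⟩ := hle hy.1
    have e : (⟨y, hyS⟩ : S) = y' := Subtype.ext hyy.symm
    rw [e]
    exact hy'
  have hyZ : ι ⟨y, hyS⟩ ∈ Subgroup.center G :=
    pow_center_of_quad hW hq _ G rfl hcon4 T₀ _ hyclos hcomm
  have hwc : g * ι ⟨y, hyS⟩ * g⁻¹ = ι ⟨y, hyS⟩ := by
    have h7 := (Subgroup.mem_center_iff.mp hyZ) g
    rw [h7]; group
  have h2 : ι ⟨(ψ.comp (Subgroup.inclusion hRext)) ⟨y, hyR⟩, hval _⟩ = ι ⟨y, hyS⟩ := h1.trans hwc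
  have h3 : (ψ.comp (Subgroup.inclusion hRext)) ⟨y, hyR⟩ = y :=
    congrArg (fun s : S => (s : Ω)) (hinj h2)
  rw [← hψφ y hyU (hUext hyU)]
  exact h3

end pfus

section pmain

variable {Ω : Type u} [Group Ω] {p : ℕ} [Fact p.Prime]
  {W : ∀ (Q : Type u) [Group Q], Subgroup Q}

/-- The maps of `F` from a well-placed subgroup `U` onto itself fix the elements of `U` that are
central in `S` and fixed by `Aut_F(W(S))` (given the statement for smaller `p`-groups). -/
theorem chainP (hmodel : ModelHyp.{u} p) (hW : IsCharPFunctor.{u} p W)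
    (hWZ : CenterLeFunctor.{u} p W) (hq : QuadHyp.{u} p W) {S : Subgroup Ω} [Finite S]
    (hS : IsPGroup p S) (F : FusionSystem S) (hF : F.IsSaturated p)
    (ih : ∀ (N : Subgroup Ω) [Finite N], Nat.card N < Nat.card S → IsPGroup p N →
      ∀ E : FusionSystem N, E.IsSaturated p → ∀ y, PFix p W E y → y ∈ E.center)
    {y : Ω} (hy : PFix p W F y) :
    ∀ U : Subgroup Ω, WellPlaced W F U → ∀ hyU : y ∈ U, ∀ φ ∈ F.Hom U, φ.range = U →
      φ ⟨y, hyU⟩ = y := by
  intro U hU
  induction hU with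
  | mk U hfn _ ih' =>
    intro hyU φ hφ hφr
    have hUS : U ≤ S := hfn.1
    by_cases hN : normalizerIn S U = S
    · have hn : S ≤ Subgroup.normalizer (U : Set Ω) := by
        intro s hs
        have : s ∈ normalizerIn S U := by rw [hN]; exact hs
        exact this.2
      exact stepOneP hmodel hW hq hS F hF hy (center_le_indW hWZ S hS (powCenter_le S hy.1)) hUS hn hyU hφ hφr
    · have hNS : normalizerIn S U ≤ S := inf_le_left
      have hfinN : Finite (normalizerIn S U) :=
        Finite.of_injective (Subgroup.inclusion hNS) (Subgroup.inclusion_injective hNS)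
      have hcard : Nat.card (normalizerIn S U) < Nat.card S :=
        card_lt_of_lt_le le_rfl (lt_of_le_of_ne hNS hN)
      have hsat := Cfsg.Agent.S5098.result p hS F hF U hfn (normalizerSystem F U hUS)
        (isNormalizerSystem_normalizerSystem F U hUS)
      have hyS := powCenter_le S hy.1
      have hyN : y ∈ normalizerIn S U := by
        refine ⟨hyS.1, ?_⟩
        apply mem_normalizer_of_mem_centralizer
        rw [Subgroup.mem_centralizer_iff]
        intro u hu
        exact (Subgroup.mem_centralizer_iff.mp hyS.2) u (hUS hu)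
      have hKF : PFix p W (normalizerSystem F U hUS) y := by
        refine ⟨?_, fun β hβ hβr hyV => ?_⟩
        · refine powCenter_mono_of ?_ hy.1
          intro z hz
          refine ⟨⟨hz.1, ?_⟩, ?_⟩
          · apply mem_normalizer_of_mem_centralizer
            rw [Subgroup.mem_centralizer_iff]
            intro u hu
            exact (Subgroup.mem_centralizer_iff.mp hz.2) u (hUS hu)
          · show z ∈ Subgroup.centralizer ((normalizerIn S U : Subgroup Ω) : Set Ω)
            rw [Subgroup.mem_centralizer_iff]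
            intro g hg
            exact (Subgroup.mem_centralizer_iff.mp hz.2) g (hNS hg)
        · have hβF : β ∈ F.Hom (inducedFunctor W (normalizerIn S U)) := by
            have h1 := (isNormalizerSystem_normalizerSystem F U hUS)
              (inducedFunctor W (normalizerIn S U))
            rw [h1] at hβ
            exact hβ.1
          exact ih' hN hyV β hβF hβr
      have hcen := ih (normalizerIn S U) hcard (hS.to_le hNS) (normalizerSystem F U hUS) hsat y hKF
      have hφN : φ ∈ (normalizerSystem F U hUS).Hom U := by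
        rw [(isNormalizerSystem_normalizerSystem F U hUS) U, mem_normalizerHom_iff]
        have hr : ∀ x : U, φ x ∈ U := fun x => by
          have : φ x ∈ φ.range := ⟨x, rfl⟩
          rw [hφr] at this; exact this
        exact ⟨hφ, le_normalizerIn hUS, fun x => le_normalizerIn hUS (hr x), U, φ, hφ, le_rfl,
          le_rfl, fun _ _ _ => rfl, fun q hq _ => hr ⟨q, hq⟩⟩
      exact Cfsg.Agent.S5294.center_fixed_gen (normalizerSystem F U hUS) hcen hφN hyU

/-- A product of `p`-th powers of elements of `Z(S)` fixed by the automorphisms in `F` of `W(S)` lies in the centre of `F`. -/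
theorem mem_center_of_pFix (hmodel : ModelHyp.{u} p) (hW : IsCharPFunctor.{u} p W)
    (hWZ : CenterLeFunctor.{u} p W) (hq : QuadHyp.{u} p W) :
    ∀ (n : ℕ) (S : Subgroup Ω) [Finite S], Nat.card S = n → IsPGroup p S →
      ∀ F : FusionSystem S, F.IsSaturated p → ∀ y, PFix p W F y → y ∈ F.center := by
  intro n
  induction n using Nat.strong_induction_on with
  | _ n ihn =>
    intro S _ hcard hS F hF y hy
    have ih : ∀ (N : Subgroup Ω) [Finite N], Nat.card N < Nat.card S → IsPGroup p N →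
        ∀ E : FusionSystem N, E.IsSaturated p → ∀ y, PFix p W E y → y ∈ E.center := by
      intro N _ hlt hN E hE y' hy'
      exact ihn (Nat.card N) (by rw [← hcard]; exact hlt) N rfl hN E hE y' hy'
    have hyS := powCenter_le S hy.1
    have hQS : Subgroup.zpowers y ≤ S := by rw [Subgroup.zpowers_le]; exact hyS.1
    have hQc : ∀ x ∈ Subgroup.zpowers y, ∀ s ∈ S, s * x * s⁻¹ = x := by
      intro x hx s hs
      obtain ⟨k, rfl⟩ := Subgroup.mem_zpowers_iff.mp hx
      have h1 : y ^ k ∈ Subgroup.centralizer (S : Set Ω) := Subgroup.zpow_mem _ hyS.2 k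
      have h2 := (Subgroup.mem_centralizer_iff.mp h1) s hs
      rw [h2]; group
    have hle : ∀ P : Subgroup Ω, F.Hom P ⊆ (fixSystem F (Subgroup.zpowers y) hQc).Hom P := by
      apply hom_subset_of_wellPlaced hS hW F _ hF
      intro R hR _ α hα
      have hRS : R ≤ S := hR.fullyNormalized.1
      have key : ∀ β : MulAut R, β ∈ F.autGroup R → ∀ z : R, (z : Ω) ∈ Subgroup.zpowers y →
          ((β z : R) : Ω) = z := by
        intro β hβ z hz
        obtain ⟨k, hk⟩ := Subgroup.mem_zpowers_iff.mp hz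
        have hKF : PFix p W F (z : Ω) := by rw [← hk]; exact hy.zpow hWZ hS k
        have hβF := (mem_autGroup_iff F hRS β).mp hβ
        exact chainP hmodel hW hWZ hq hS F hF ih hKF R hR z.2 _ hβF (range_subtype_comp_equiv β)
      refine ⟨(mem_autGroup_iff F hRS α).mp hα, fun z hz => ?_⟩
      show ((α z : R) : Ω) = z
      rcases hz with hz | hz
      · exact key α hα z hz
      · have hz' : ((α z : R) : Ω) ∈ Subgroup.zpowers y := hz
        have h1 := key α⁻¹ (Subgroup.inv_mem _ hα) (α z) hz'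
        rw [MulAut.inv_apply_self] at h1
        exact h1.symm
    have hzp : F.IsCentral (Subgroup.zpowers y) := by
      rw [Cfsg.Agent.S5084.result p hS F hF (Subgroup.zpowers y)]
      refine ⟨hQS, ?_⟩
      rintro x hx y' ⟨φ, hφ, rfl⟩
      exact (hle _ hφ).2 ⟨x, Subgroup.mem_zpowers x⟩ (Or.inl hx)
    exact (le_sSup (a := Subgroup.zpowers y) hzp) (Subgroup.mem_zpowers y)

/-- **Control of `p`-th powers of the centre.** For a functor `W` with `Z(Q) ≤ W(Q)` satisfying
the quadratic-element hypothesis, every product of `p`-th powers of elements of `Z(S)` lying in the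
centre of the normalizer system of `W(S)` lies in the centre of `F`. -/
theorem pow_center_le (hmodel : ModelHyp.{u} p) (hW : IsCharPFunctor.{u} p W)
    (hWZ : CenterLeFunctor.{u} p W) (hq : QuadHyp.{u} p W) {S : Subgroup Ω} [Finite S]
    (hS : IsPGroup p S) (F : FusionSystem S) (hF : F.IsSaturated p)
    (N : FusionSystem (normalizerIn S (inducedFunctor W S)))
    (hN : F.IsNormalizerSystem (inducedFunctor W S) N) :
    powCenter p S ⊓ N.center ≤ F.center := by
  have hKS : inducedFunctor W S ≤ S := Cfsg.Agent.Lib.helper39.ind_le S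
  have hKn : S ≤ Subgroup.normalizer ((inducedFunctor W S : Subgroup Ω) : Set Ω) := by
    intro s hs
    exact mem_normalizer_ind hW hS (Subgroup.le_normalizer hs)
  have hNS : normalizerIn S (inducedFunctor W S) = S := le_antisymm inf_le_left (le_inf le_rfl hKn)
  have hfinN : Finite (normalizerIn S (inducedFunctor W S)) :=
    Finite.of_injective (Subgroup.inclusion hNS.le) (Subgroup.inclusion_injective hNS.le)
  have hmemN : ∀ {R : Subgroup Ω} {ψ : R →* Ω}, ψ ∈ F.Hom R → inducedFunctor W S ≤ R →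
      (∀ (q : Ω) (hq : q ∈ inducedFunctor W S) (hR : q ∈ R), ψ ⟨q, hR⟩ ∈ inducedFunctor W S) →
      ψ ∈ N.Hom R := by
    intro R ψ hψ hKR h2
    rw [hN R, mem_normalizerHom_iff]
    refine ⟨hψ, ?_, ?_, R, ψ, hψ, le_rfl, hKR, fun _ _ _ => rfl, h2⟩
    · rw [hNS]; exact le_of_hom F hψ
    · intro x
      rw [hNS]; exact range_le_of_hom F hψ ⟨x, rfl⟩
  rintro x ⟨hxP, hx⟩
  apply mem_center_of_pFix hmodel hW hWZ hq _ S rfl hS F hF
  refine ⟨hxP, fun φ hφ hφr hxK => ?_⟩
  have hφN : φ ∈ N.Hom (inducedFunctor W S) := by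
    apply hmemN hφ le_rfl
    intro q hq hR
    have : φ ⟨q, hR⟩ ∈ φ.range := ⟨_, rfl⟩
    rw [hφr] at this; exact this
  exact Cfsg.Agent.S5294.center_fixed_gen N hx hφN hxK

end pmain

end Cfsg.Agent.Lib.helper90
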