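import Cfsg.Agent.Lib.helper90.CenterChain
import Cfsg.Agent.Lib.helper90.PowFusion
import Cfsg.Agent.Lib.helper88.TH1
import Cfsg.Agent.Lib.helper88.SecFree4

/-!
Glauberman's theorem on the centre of `N_F(J(S))` for saturated fusion systems, reduced to the
group statement (weak closure of the elements of `Z(N_G(J(S)))`), via the generalized centre chain
(helper90).
-/

set_option autoImplicit false

namespace Cfsg.Agent.Lib.helper90

open Cfsg Cfsg.FusionSystem Cfsg.Agent.Lib.helper89

universe u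

/-- The Thompson subgroup (abelian version) as a functor on groups. -/
def funJ : ∀ (Q : Type u) [Group Q], Subgroup Q := fun Q _ => Cfsg.thompsonSubgroupA Q

theorem ind_funJ {Ω : Type u} [Group Ω] (S : Subgroup Ω) :
    inducedFunctor funJ S = Cfsg.thompsonSubgroupAOf S := rfl

theorem isCharPFunctor_funJ (p : ℕ) [Fact p.Prime] : IsCharPFunctor.{u} p funJ := by
  refine ⟨fun Q _ _ hQ hnt => ?_, fun Q R _ _ _ hQ φ => ?_⟩
  · have hne : (⊤ : Subgroup Q) ≠ ⊥ := top_ne_bot
    have h := Cfsg.Agent.Lib.helper88.thompsonSubgroupAOf_ne_bot (p := p) (⊤ : Subgroup Q)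
      (hQ.to_subgroup _) hne
    have e : Cfsg.thompsonSubgroupAOf (⊤ : Subgroup Q) = Cfsg.thompsonSubgroupA Q :=
      Cfsg.Agent.Lib.helper88.thompsonSubgroupA_map (Subgroup.topEquiv : (⊤ : Subgroup Q) ≃* Q)
    rw [e] at h
    exact h
  · exact Cfsg.Agent.Lib.helper88.thompsonSubgroupA_map φ

theorem centerLeFunctor_funJ (p : ℕ) : CenterLeFunctor.{u} p funJ := by
  intro Q _ _ _
  classical
  have hbot : IsMulCommutative (⊥ : Subgroup Q) := by
    rw [Cfsg.Agent.Lib.helper88.isMulCommutative_iff_forall]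
    intro x hx y hy
    rw [Subgroup.mem_bot] at hx hy
    rw [hx, hy]
  obtain ⟨A, hA, hmax⟩ := Set.exists_max_image {A : Subgroup Q | IsMulCommutative A}
    (fun A => Nat.card A) (Set.toFinite _) ⟨⊥, hbot⟩
  have hAm : A ∈ Cfsg.maxAbelianSubgroups Q := ⟨hA, fun B hB => hmax B hB⟩
  have hAc := (Cfsg.Agent.Lib.helper88.isMulCommutative_iff_forall A).mp hA
  have hBc : IsMulCommutative (A ⊔ Subgroup.center Q : Subgroup Q) := by
    rw [Cfsg.Agent.Lib.helper88.isMulCommutative_iff_forall]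
    have hmem : ∀ x ∈ A ⊔ Subgroup.center Q, ∃ a ∈ A, ∃ z ∈ Subgroup.center Q, a * z = x := by
      intro x hx
      have h1 : x ∈ ((A ⊔ Subgroup.center Q : Subgroup Q) : Set Q) := hx
      rw [Subgroup.mul_normal] at h1
      exact Set.mem_mul.mp h1
    intro x hx y hy
    obtain ⟨a, ha, z, hz, rfl⟩ := hmem x hx
    obtain ⟨b, hb, w, hw, rfl⟩ := hmem y hy
    have h1 := Subgroup.mem_center_iff.mp hz
    have h2 := Subgroup.mem_center_iff.mp hw
    calc a * z * (b * w) = a * (b * z) * w := by rw [h1 b]; group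
      _ = (a * b) * z * w := by group
      _ = (b * a) * z * w := by rw [hAc a ha b hb]
      _ = b * (a * w) * z := by rw [mul_assoc (b * a), ← h1 w]; group
      _ = b * (w * a) * z := by rw [h2 a]
      _ = b * w * (a * z) := by group
  have hle : A ≤ A ⊔ Subgroup.center Q := le_sup_left
  have hcard := hmax _ hBc
  have heq : A = A ⊔ Subgroup.center Q := Subgroup.eq_of_le_of_card_ge hle hcard
  have hZA : Subgroup.center Q ≤ A := by
    rw [heq]
    exact le_sup_right
  exact hZA.trans (le_sSup hAm)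

/-- The group statement: weak closure of the elements of `S ∩ Z(N_G(J(S)))` (the statement of
S2799 for groups in the universe `u`). -/
def GlaubermanJHyp (p : ℕ) [Fact p.Prime] : Prop :=
  ∀ (G : Type u) [Group G] [Finite G] (S : Sylow p G) (x : G), x ∈ (S : Subgroup G) →
    x ∈ (Subgroup.center ↥(Subgroup.normalizer
      ((Cfsg.thompsonSubgroupAOf (S : Subgroup G)) : Set G))).map
        (Subgroup.normalizer ((Cfsg.thompsonSubgroupAOf (S : Subgroup G)) : Set G)).subtype →
    (p ≠ 2 ∨ (∃ z ∈ (S : Subgroup G) ⊓ Subgroup.centralizer ((S : Subgroup G) : Set G),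
      z ^ p = x) ∨ ¬ Cfsg.Involves (Equiv.Perm (Fin 4)) G) →
    ∀ g : G, g * x * g⁻¹ ∈ (S : Subgroup G) → g * x * g⁻¹ = x

section loc

variable {Ω : Type u} [Group Ω] {S : Subgroup Ω} {p : ℕ} [Fact p.Prime]

omit [Fact p.Prime] in
/-- Every element of the subgroup generated by the `p`-th powers of `Z(S)` is a `p`-th power of
an element of `Z(S)`. -/
theorem exists_pow_of_mem_powCenter {y : Ω} (hy : y ∈ powCenter p S) :
    ∃ z ∈ S ⊓ Subgroup.centralizer (S : Set Ω), z ^ p = y := by
  unfold powCenter at hy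
  induction hy using Subgroup.closure_induction with
  | mem x hx =>
    obtain ⟨z, hz, rfl⟩ := hx
    exact ⟨z, hz, rfl⟩
  | one => exact ⟨1, Subgroup.one_mem _, one_pow p⟩
  | mul a b _ _ iha ihb =>
    obtain ⟨z1, hz1, rfl⟩ := iha
    obtain ⟨z2, hz2, rfl⟩ := ihb
    refine ⟨z1 * z2, Subgroup.mul_mem _ hz1 hz2, ?_⟩
    have hc : Commute z1 z2 := ((Subgroup.mem_centralizer_iff.mp hz1.2) z2 hz2.1).symm
    exact hc.mul_pow p
  | inv a _ iha =>
    obtain ⟨z, hz, rfl⟩ := iha
    exact ⟨z⁻¹, Subgroup.inv_mem _ hz, inv_pow z p⟩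

omit [Fact p.Prime] in
/-- A model of the system `normSys F R` over `S` is a model of the normalizer system of `R` over
`N_S(R) = S`. -/
theorem isModel_normalizerSystem_of_normSys [Finite S] (F : FusionSystem S) (R : Subgroup Ω)
    (hRS : R ≤ S) (hRn : S ≤ Subgroup.normalizer (R : Set Ω)) {G : Type u} [Group G]
    (ι : S →* G) (hM : (normSys F R hRS hRn).IsModel p G ι) :
    (normalizerSystem F R hRS).IsModel p G
      (ι.comp (Subgroup.inclusion ((inf_le_left : normalizerIn S R ≤ S)))) := by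
  obtain ⟨hfin, hreal, ⟨T₀, hT₀⟩, hcen⟩ := hM
  have hle : S ≤ normalizerIn S R := le_inf le_rfl hRn
  refine ⟨hfin, ⟨hreal.1.comp (Subgroup.inclusion_injective _), fun P hP φ hφ => ?_⟩,
    ⟨T₀, ?_⟩, hcen⟩
  · have hPS : P ≤ S := hP.trans ((inf_le_left : normalizerIn S R ≤ S))
    have hφS : ∀ x : P, φ x ∈ S := fun x => (inf_le_left : normalizerIn S R ≤ S) (hφ x)
    have h1 := hreal.2 P hPS φ hφS
    have h2 : φ ∈ (normalizerSystem F R hRS).Hom P ↔ φ ∈ (normSys F R hRS hRn).Hom P := by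
      rw [mem_normSys_iff]
      constructor
      · intro h
        have h' := (mem_normalizerSystemOn_iff F R (normalizerIn S R) hRS le_rfl φ).mp h
        exact ⟨h'.1, h'.2.2.2⟩
      · intro h
        exact (mem_normalizerSystemOn_iff F R (normalizerIn S R) hRS le_rfl φ).mpr
          ⟨h.1, hP, hφ, h.2⟩
    rw [h2, h1]
    rfl
  · rw [hT₀]
    ext g
    constructor
    · rintro ⟨s, rfl⟩
      exact ⟨⟨s, hle s.2⟩, rfl⟩
    · rintro ⟨s, rfl⟩
      exact ⟨_, rfl⟩

/-- A subgroup `R` normal in `S` with `C_S(R) ≤ R` is centric in a saturated fusion system. -/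
theorem isCentric_of_normal_of_centralizerIn_le [Finite S] (hS : IsPGroup p S)
    (F : FusionSystem S) (hF : F.IsSaturated p) (R : Subgroup Ω)
    (hRS : R ≤ S) (hRn : S ≤ Subgroup.normalizer (R : Set Ω)) (hRc : centralizerIn S R ≤ R) :
    F.IsCentric R := by
  have hfn := fullyNormalized_of_normal F hRS hRn
  have hN := isNormalizerSystem_normalizerSystem F R hRS
  apply Cfsg.Agent.Lib.helper88.isCentric_of_normalizerSystem hS F hF hfn
    (normalizerSystem F R hRS) hN ?_ le_rfl
  refine ⟨le_normalizerIn hRS, ?_⟩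
  rintro R' ⟨φ, hφ, rfl⟩
  have hφ' := hφ
  rw [hN R, mem_normalizerHom_iff] at hφ'
  obtain ⟨hφF, -, -, X, ψ, hψ, hPX, hQX, h1, h2⟩ := hφ'
  have hr : φ.range = R := by
    apply range_eq_of_forall_mem F hφF
    intro x
    rw [← h1 x x.2 (hQX x.2)]
    exact h2 x x.2 (hQX x.2)
  rw [hr]
  intro c hc
  exact hRc ⟨(inf_le_left : normalizerIn S R ≤ S) hc.1, hc.2⟩

/-- **The local step.** In a model `G` of `N_F(R)`, `R` normal in `S` with `C_S(R) ≤ R`, an element
of `Z(S)` centralized by `N_G(J(S))` is central, given the group statement and one of its three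
alternative hypotheses. -/
theorem loc_of_glauberman (hG : GlaubermanJHyp.{u} p) [Finite S]
    (F : FusionSystem S) (R : Subgroup Ω) (hRS : R ≤ S)
    (hRn : S ≤ Subgroup.normalizer (R : Set Ω)) (hRc : centralizerIn S R ≤ R)
    (G : Type u) [Group G] (ι : S →* G) (hM : (normSys F R hRS hRn).IsModel p G ι)
    (T₀ : Sylow p G) (hT₀ : (T₀ : Subgroup G) = ι.range) (y : S)
    (hyZ : (y : Ω) ∈ S ⊓ Subgroup.centralizer (S : Set Ω))
    (hcomm : ∀ n ∈ Subgroup.normalizer
      ((inducedFunctor funJ (T₀ : Subgroup G) : Subgroup G) : Set G), n * ι y = ι y * n)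
    (hgood : p ≠ 2 ∨ (∃ z ∈ (T₀ : Subgroup G) ⊓
      Subgroup.centralizer ((T₀ : Subgroup G) : Set G), z ^ p = ι y) ∨
        ¬ Cfsg.Involves (Equiv.Perm (Fin 4)) G) :
    ι y ∈ Subgroup.center G := by
  have hfin : Finite G := hM.1
  have hyT : ι y ∈ (T₀ : Subgroup G) := by rw [hT₀]; exact ⟨y, rfl⟩
  have hyNW : ι y ∈ Subgroup.normalizer
      ((Cfsg.thompsonSubgroupAOf (T₀ : Subgroup G) : Subgroup G) : Set G) :=
    Cfsg.Agent.Lib.helper88.normalizer_le_normalizer_thompsonSubgroupAOf (T₀ : Subgroup G)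
      (Subgroup.le_normalizer hyT)
  have hxZ : ι y ∈ (Subgroup.center ↥(Subgroup.normalizer
      ((Cfsg.thompsonSubgroupAOf (T₀ : Subgroup G)) : Set G))).map
        (Subgroup.normalizer ((Cfsg.thompsonSubgroupAOf (T₀ : Subgroup G)) : Set G)).subtype := by
    refine ⟨⟨ι y, hyNW⟩, ?_, rfl⟩
    refine Subgroup.mem_center_iff.mpr ?_
    intro n
    apply Subtype.ext
    exact hcomm n n.2
  have hwc := hG G T₀ (ι y) hyT hxZ hgood
  have hyR : (y : Ω) ∈ R := by
    apply hRc
    refine ⟨hyZ.1, ?_⟩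
    show (y : Ω) ∈ Subgroup.centralizer (R : Set Ω)
    rw [Subgroup.mem_centralizer_iff]
    intro r hr
    exact (Subgroup.mem_centralizer_iff.mp hyZ.2) r (hRS hr)
  have hQn : (pCore p G).Normal := Cfsg.Agent.Lib.helper39.pCore_normal p G
  have hyP : ι y ∈ pCore p G := by
    have hnorm : ((R.subgroupOf S).map ι).Normal := by
      constructor
      rintro _ ⟨q, hq, rfl⟩ g'
      obtain ⟨q', hq', hqq⟩ := Cfsg.Agent.Lib.helper87.model_conj_mem hM
        (normSys_isNormal F R hRS hRn) g' q (Subgroup.mem_subgroupOf.mp hq)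
      rw [← hqq]
      exact ⟨q', Subgroup.mem_subgroupOf.mpr hq', rfl⟩
    have hle : (R.subgroupOf S).map ι ≤ (T₀ : Subgroup G) := by
      rintro _ ⟨q, -, rfl⟩
      rw [hT₀]
      exact ⟨q, rfl⟩
    have hpg : IsPGroup p ↥((R.subgroupOf S).map ι) := T₀.2.to_le hle
    exact Cfsg.Agent.Lib.helper39.le_pCore hnorm hpg
      ⟨y, Subgroup.mem_subgroupOf.mpr hyR, rfl⟩
  refine Subgroup.mem_center_iff.mpr ?_
  intro g
  have h1 : g * ι y * g⁻¹ ∈ (T₀ : Subgroup G) :=
    Cfsg.Agent.Lib.helper39.pCore_le_sylow T₀ (hQn.conj_mem _ hyP g)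
  have h2 := hwc g h1
  calc g * ι y = (g * ι y * g⁻¹) * g := by group
    _ = ι y * g := by rw [h2]

end loc

section hyps

variable {p : ℕ} [Fact p.Prime]

/-- The chain hypotheses for `Z(S)`, in the class of systems that are `S₄`-free if `p = 2`. -/
theorem centerChainHyp_center (hG : GlaubermanJHyp.{u} p) :
    CenterChainHyp.{u} p funJ
      (fun _ _ _ F => p ≠ 2 ∨ F.IsSectionFree p (Equiv.Perm (Fin 4)))
      (fun Ω _ S => S ⊓ Subgroup.centralizer (S : Set Ω)) := by
  refine ⟨fun Ω _ S => le_rfl, fun Ω _ S S' h => h, ?_, ?_⟩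
  · intro Ω _ S _ hS F hF hCF U hfn
    rcases hCF with h | h
    · exact Or.inl h
    · exact Or.inr (Cfsg.Agent.Lib.helper88.sectionFree_normalizer hS F hF _ h hfn
        (normalizerSystem F U hfn.1) (isNormalizerSystem_normalizerSystem F U hfn.1))
  · intro Ω _ S _ hS F hF hCF R hRS hRn hRc G _ ι hM T₀ hT₀ y hy hcomm
    apply loc_of_glauberman hG F R hRS hRn hRc G ι hM T₀ hT₀ y hy hcomm
    rcases hCF with h | h
    · exact Or.inl h
    · refine Or.inr (Or.inr ?_)
      exact h R (fullyNormalized_of_normal F hRS hRn)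
        (isCentric_of_normal_of_centralizerIn_le hS F hF R hRS hRn hRc)
        (normalizerSystem F R hRS) (isNormalizerSystem_normalizerSystem F R hRS) G _
        (isModel_normalizerSystem_of_normSys F R hRS hRn ι hM)

/-- The chain hypotheses for the `p`-th powers of `Z(S)`, in the class of all systems. -/
theorem centerChainHyp_pow (hG : GlaubermanJHyp.{u} p) :
    CenterChainHyp.{u} p funJ (fun _ _ _ _ => True) (fun _ _ S => powCenter p S) := by
  refine ⟨fun Ω _ S => powCenter_le S, fun Ω _ S S' h => powCenter_mono_of h, ?_, ?_⟩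
  · intro Ω _ S _ hS F hF hCF U hfn
    trivial
  · intro Ω _ S _ hS F hF hCF R hRS hRn hRc G _ ι hM T₀ hT₀ y hy hcomm
    obtain ⟨z, hz, hzy⟩ := exists_pow_of_mem_powCenter hy
    apply loc_of_glauberman hG F R hRS hRn hRc G ι hM T₀ hT₀ y (powCenter_le S hy) hcomm
    refine Or.inr (Or.inl ⟨ι ⟨z, hz.1⟩, ⟨?_, ?_⟩, ?_⟩)
    · rw [hT₀]; exact ⟨_, rfl⟩
    · show ι ⟨z, hz.1⟩ ∈ Subgroup.centralizer ((T₀ : Subgroup G) : Set G)
      rw [Subgroup.mem_centralizer_iff]
      intro t ht
      rw [SetLike.mem_coe, hT₀] at ht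
      obtain ⟨s, rfl⟩ := ht
      rw [← map_mul, ← map_mul]
      congr 1
      apply Subtype.ext
      exact (Subgroup.mem_centralizer_iff.mp hz.2) s s.2
    · rw [← map_pow]
      congr 1
      apply Subtype.ext
      exact hzy

end hyps

section main

variable {Ω : Type u} [Group Ω] {S : Subgroup Ω} {p : ℕ} [Fact p.Prime]

/-- **Glauberman's theorem for fusion systems**, from the group statement. -/
theorem thompson_center_fusion (hmodel : ModelHyp.{u} p) (hG : GlaubermanJHyp.{u} p)
    [Finite S] (hS : IsPGroup p S) (F : FusionSystem S) (hF : F.IsSaturated p)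
    (N : FusionSystem (normalizerIn S (Cfsg.thompsonSubgroupAOf S)))
    (hN : F.IsNormalizerSystem (Cfsg.thompsonSubgroupAOf S) N) :
    Subgroup.closure ((fun z : Ω => z ^ p) ''
      ((S ⊓ Subgroup.centralizer (S : Set Ω) : Subgroup Ω) : Set Ω)) ⊓ N.center ≤ F.center ∧
      (p ≠ 2 ∨ F.IsSectionFree p (Equiv.Perm (Fin 4)) → N.center = F.center) := by
  have hW := isCharPFunctor_funJ.{u} p
  have hWZ := centerLeFunctor_funJ.{u} p
  refine ⟨?_, fun h => ?_⟩
  · exact zs_inf_center_le hmodel hW hWZ (centerChainHyp_pow hG) hS F hF trivial N hN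
  · apply le_antisymm
    · intro x hx
      have h1 := zs_inf_center_le hmodel hW hWZ (centerChainHyp_center hG) hS F hF h N hN
      apply h1
      refine ⟨?_, hx⟩
      have hKn : S ≤ Subgroup.normalizer ((Cfsg.thompsonSubgroupAOf S : Subgroup Ω) : Set Ω) :=
        fun s hs => Cfsg.Agent.Lib.helper88.normalizer_le_normalizer_thompsonSubgroupAOf S
          (Subgroup.le_normalizer hs)
      have hNS : normalizerIn S (Cfsg.thompsonSubgroupAOf S) = S :=
        le_antisymm inf_le_left (le_inf le_rfl hKn)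
      have hfinN : Finite (normalizerIn S (Cfsg.thompsonSubgroupAOf S)) :=
        Finite.of_injective (Subgroup.inclusion hNS.le) (Subgroup.inclusion_injective hNS.le)
      have hxZ := center_le_center N hx
      rw [hNS] at hxZ
      exact hxZ
    · exact center_le_center_normalizerSystem hW hWZ hS F N hN

end main

end Cfsg.Agent.Lib.helper90
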