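import Mathlib
import Cfsg.Prelude.Def_FusionSystem
import Cfsg.Prelude.Def_FusionComponents
import Cfsg.Agent.Lib.helper90.FusIsoA
import Cfsg.Agent.Lib.helper90.FusIsoB
import Cfsg.Agent.Lib.helper90.FusIsoC

/-!
Composition of isomorphisms of fusion systems in relational form; automorphisms of the base
group of an invariant subsystem induced by the big system; images of subnormal subsystems under
maps of the system are subnormal (helper90).
-/

set_option autoImplicit false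

namespace Cfsg.Agent.Lib.helper90

open Cfsg Cfsg.FusionSystem

section comp

variable {Ω : Type*} [Group Ω] {Ω' : Type*} [Group Ω'] {Ω'' : Type*} [Group Ω'']
  {R₁ : Subgroup Ω} {R₁' : Subgroup Ω'} {R₂ : Subgroup Ω'} {R₂' : Subgroup Ω''}
  {R₃' : Subgroup Ω''}

/-- `e₃` is the composite of `e₁` and `e₂` (elementwise). -/
def CompRel (e₁ : R₁ ≃* R₁') (e₂ : R₂ ≃* R₂') (e₃ : R₁ ≃* R₃') : Prop :=
  ∀ x : R₁, ∃ h2 : ((e₁ x : R₁') : Ω') ∈ R₂, ((e₃ x : R₃') : Ω'') = ((e₂ ⟨e₁ x, h2⟩ : R₂') : Ω'')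

theorem SubCorr.comp {e₁ : R₁ ≃* R₁'} {e₂ : R₂ ≃* R₂'} {e₃ : R₁ ≃* R₃'} (H : CompRel e₁ e₂ e₃)
    {P : Subgroup Ω} {P' : Subgroup Ω'} {P'' : Subgroup Ω''} (h₁ : SubCorr e₁ P P')
    (h₂ : SubCorr e₂ P' P'') : SubCorr e₃ P P'' := by
  refine ⟨h₁.1, ?_, fun x => ?_⟩
  · intro y hy
    have hx' : ((e₂.symm ⟨y, h₂.2.1 hy⟩ : R₂) : Ω') ∈ P' := (h₂.mem_symm ⟨y, h₂.2.1 hy⟩).mp hy
    have hx : ((e₁.symm ⟨_, h₁.2.1 hx'⟩ : R₁) : Ω) ∈ P := (h₁.mem_symm ⟨_, h₁.2.1 hx'⟩).mp hx'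
    obtain ⟨h2, h3⟩ := H (e₁.symm ⟨_, h₁.2.1 hx'⟩)
    have h4 : (⟨((e₁ (e₁.symm ⟨_, h₁.2.1 hx'⟩) : R₁') : Ω'), h2⟩ : R₂) = e₂.symm ⟨y, h₂.2.1 hy⟩ := by
      apply Subtype.ext
      show ((e₁ (e₁.symm ⟨_, h₁.2.1 hx'⟩) : R₁') : Ω') = _
      rw [e₁.apply_symm_apply]
    rw [h4, e₂.apply_symm_apply] at h3
    have h5 : y = ((e₃ (e₁.symm ⟨_, h₁.2.1 hx'⟩) : R₃') : Ω'') := h3.symm
    rw [h5]
    exact (e₃ _).2
  · obtain ⟨h2, h3⟩ := H x
    rw [h3, h₁.2.2 x]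
    exact h₂.2.2 ⟨_, h2⟩

theorem MapCorr.comp {e₁ : R₁ ≃* R₁'} {e₂ : R₂ ≃* R₂'} {e₃ : R₁ ≃* R₃'} (H : CompRel e₁ e₂ e₃)
    {P : Subgroup Ω} {φ : P →* Ω} {P' : Subgroup Ω'} {φ' : P' →* Ω'} {P'' : Subgroup Ω''}
    {φ'' : P'' →* Ω''} (h₁ : MapCorr e₁ φ φ') (h₂ : MapCorr e₂ φ' φ'') : MapCorr e₃ φ φ'' := by
  refine ⟨SubCorr.comp H h₁.1 h₂.1, fun x hx hx'' => ?_⟩
  have hx' : ((e₁ x : R₁') : Ω') ∈ P' := (h₁.1.2.2 x).mp hx
  obtain ⟨y₁, hy₁, hy₁'⟩ := h₁.2 x hx hx'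
  obtain ⟨h2, h3⟩ := H x
  have hx''' : ((e₂ ⟨e₁ x, h2⟩ : R₂') : Ω'') ∈ P'' := (h₂.1.2.2 ⟨_, h2⟩).mp hx'
  obtain ⟨y₂, hy₂, hy₂'⟩ := h₂.2 ⟨e₁ x, h2⟩ hx' hx'''
  refine ⟨y₁, hy₁, ?_⟩
  obtain ⟨h2', h3'⟩ := H y₁
  have h4 : (⟨((e₁ y₁ : R₁') : Ω'), h2'⟩ : R₂) = y₂ := by
    apply Subtype.ext
    show ((e₁ y₁ : R₁') : Ω') = y₂
    rw [← hy₁', ← hy₂]
  rw [h3', h4, ← hy₂']
  congr 1
  exact Subtype.ext h3

/-- **Composition of isomorphisms of fusion systems.** -/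
theorem SysCorr.comp {e₁ : R₁ ≃* R₁'} {e₂ : R₂ ≃* R₂'} {e₃ : R₁ ≃* R₃'} (H : CompRel e₁ e₂ e₃)
    {T : Subgroup Ω} {X : FusionSystem T} {T' : Subgroup Ω'} {X' : FusionSystem T'}
    {T'' : Subgroup Ω''} {X'' : FusionSystem T''} (h₁ : SysCorr e₁ X X')
    (h₂ : SysCorr e₂ X' X'') : SysCorr e₃ X X'' := by
  refine ⟨SubCorr.comp H h₁.1 h₂.1, fun P φ hφ P₃ φ₃ hc => ?_, fun P₃ φ₃ hφ₃ P φ hc => ?_⟩
  · have hPT := (X.le_of_mem hφ).1
    have hP₁ := subCorr_imgSub e₁ (hPT.trans h₁.1.1)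
    have hφR : ∀ x, φ x ∈ R₁ := fun x => h₁.1.1 ((X.le_of_mem hφ).2 x)
    have hc₁ := pushMap_corr hP₁ φ hφR
    have hφ' := h₁.push hφ hc₁
    have hP'T' := (X'.le_of_mem hφ').1
    have hP₂ := subCorr_imgSub e₂ (hP'T'.trans h₂.1.1)
    have hφ'R : ∀ x, pushMap hP₁ φ hφR x ∈ R₂ := fun x => h₂.1.1 ((X'.le_of_mem hφ').2 x)
    have hc₂ := pushMap_corr hP₂ _ hφ'R
    have hφ'' := h₂.push hφ' hc₂
    have hc₃ := MapCorr.comp H hc₁ hc₂
    obtain rfl := SubCorr.unique hc₃.1 hc.1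
    rw [MapCorr.unique hc hc₃]
    exact hφ''
  · obtain ⟨P', φ', hφ', hc₂⟩ := h₂.exists_pull hφ₃
    obtain ⟨P₀, φ₀, hφ₀, hc₁⟩ := h₁.exists_pull hφ'
    have hc₃ := MapCorr.comp H hc₁ hc₂
    obtain rfl := SubCorr.unique_left hc₃.1 hc.1
    rw [MapCorr.unique_left hc hc₃]
    exact hφ₀

end comp

section conj

variable {Ω : Type*} [Group Ω]

/-- An automorphism of the base group of an invariant subsystem induced by the big system carries
maps of the subsystem to maps of the subsystem. -/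
theorem invariant_push {U S : Subgroup Ω} {D : FusionSystem U} {F : FusionSystem S}
    (hinv : D.IsInvariantIn F) {α : MulAut U} (hα : α ∈ F.autGroup U) {P : Subgroup Ω}
    {φ : P →* Ω} (hφ : φ ∈ D.Hom P) {P' : Subgroup Ω} {φ' : P' →* Ω}
    (hc : MapCorr (R := U) (R' := U) α φ φ') : φ' ∈ D.Hom P' := by
  have hPU : P ≤ U := (D.le_of_mem hφ).1
  obtain ⟨χ, hχ, hχeq⟩ := hinv.2.2.1 P hPU φ hφ α hα
  have hQ : SubCorr (R := U) (R' := U) α P
      ((P.subgroupOf U).map (U.subtype.comp α.toMonoidHom)) := by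
    have h1 := subCorr_imgSub (R := U) (R' := U) α hPU
    have h2 : imgSub (R := U) (R' := U) α P =
        (P.subgroupOf U).map (U.subtype.comp α.toMonoidHom) := by
      unfold imgSub
      rw [Subgroup.map_map]
    rwa [h2] at h1
  have hχc : MapCorr (R := U) (R' := U) α φ χ := by
    refine ⟨hQ, fun x hx hx' => ⟨⟨φ ⟨x, hx⟩, (D.le_of_mem hφ).2 _⟩, rfl, ?_⟩⟩
    exact hχeq ⟨x, hx⟩ ((D.le_of_mem hφ).2 _) hx'
  obtain rfl := SubCorr.unique hQ hc.1
  rw [MapCorr.unique hc hχc]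
  exact hχ

/-- An automorphism of the base group of an invariant subsystem induced by the big system is an
automorphism of the subsystem. -/
theorem sysCorr_of_mem_autGroup {U S : Subgroup Ω} {D : FusionSystem U} {F : FusionSystem S}
    (hinv : D.IsInvariantIn F) {α : MulAut U} (hα : α ∈ F.autGroup U) :
    SysCorr (R := U) (R' := U) α D D :=
  ⟨subCorr_self (R := U) (R' := U) α, fun _ _ hφ _ _ hc => invariant_push hinv hα hφ hc,
    fun _ _ hφ' _ _ hc =>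
      invariant_push hinv ((F.autGroup U).inv_mem hα) hφ' (MapCorr.symm (R := U) (R' := U) hc)⟩

/-- An automorphism of `S` in the system carries maps of the system to maps of the system. -/
theorem aut_push {S : Subgroup Ω} (F : FusionSystem S) {α : MulAut S}
    (hα : α ∈ F.autGroup S) {P : Subgroup Ω} {φ : P →* Ω} (hφ : φ ∈ F.Hom P) {P' : Subgroup Ω}
    {φ' : P' →* Ω} (hc : MapCorr (R := S) (R' := S) α φ φ') : φ' ∈ F.Hom P' := by
  have hPc := hc.1
  have hP'S : P' ≤ S := hPc.2.1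
  have ha : S.subtype.comp α.toMonoidHom ∈ F.Hom S :=
    (Cfsg.Agent.Lib.helper89.mem_autGroup_iff F le_rfl α).mp hα
  have ha' : S.subtype.comp (α⁻¹ : MulAut S).toMonoidHom ∈ F.Hom S :=
    (Cfsg.Agent.Lib.helper89.mem_autGroup_iff F le_rfl α⁻¹).mp ((F.autGroup S).inv_mem hα)
  have hψ := Cfsg.Agent.Lib.helper88.restrict_mem F hP'S ha'
  have h1 : ∀ y : P', ((S.subtype.comp (α⁻¹ : MulAut S).toMonoidHom).comp
      (Subgroup.inclusion hP'S)) y ∈ P := fun y => (hPc.mem_symm ⟨y, hP'S y.2⟩).mp y.2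
  have hχ₁ := F.comp_mem hψ hφ h1
  have h2 : ∀ y : P', (φ.comp (((S.subtype.comp (α⁻¹ : MulAut S).toMonoidHom).comp
      (Subgroup.inclusion hP'S)).codRestrict P h1)) y ∈ S := fun y => (F.le_of_mem hφ).2 _
  have hχ₂ := F.comp_mem hχ₁ ha h2
  have heq : φ' = (S.subtype.comp α.toMonoidHom).comp ((φ.comp (((S.subtype.comp
      (α⁻¹ : MulAut S).toMonoidHom).comp (Subgroup.inclusion hP'S)).codRestrict P h1)).codRestrict
      S h2) := by
    ext y
    have h3 := hc.apply ((subEquiv hPc).symm y)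
    rw [(subEquiv hPc).apply_symm_apply] at h3
    rw [h3]
    rfl
  rw [heq]
  exact hχ₂

theorem sysCorr_of_aut {S : Subgroup Ω} (F : FusionSystem S) {α : MulAut S}
    (hα : α ∈ F.autGroup S) : SysCorr (R := S) (R' := S) α F F :=
  ⟨subCorr_self (R := S) (R' := S) α, fun _ _ hφ _ _ hc => aut_push F hα hφ hc,
    fun _ _ hφ' _ _ hc =>
      aut_push F ((F.autGroup S).inv_mem hα) hφ' (MapCorr.symm (R := S) (R' := S) hc)⟩

/-- **The image of a subnormal subsystem under a map of the system is subnormal.**  Here the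
image is given in relational form: `e` is an isomorphism from the base group `T` onto a subgroup
`R'`, a map of `F` when read with values in the ambient group. -/
theorem conj_isSubnormalIn {p : ℕ} {T S : Subgroup Ω} {C : FusionSystem T} {F : FusionSystem S}
    (h : C.IsSubnormalIn F p) :
    ∀ [Fact p.Prime] [Finite S], IsPGroup p S → F.IsSaturated p → ∀ {R' : Subgroup Ω}
      (e : T ≃* R'), R'.subtype.comp e.toMonoidHom ∈ F.Hom T → ∀ {T' : Subgroup Ω}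
      (C' : FusionSystem T'), SysCorr e C C' → C'.IsSubnormalIn F p := by
  induction h with
  | refl F p =>
    intro _ _ hS hFsat R' e hγ T' C' hC'
    have hR' : R' = T := by
      rw [← Cfsg.Agent.Lib.helper89.range_eq_top_of_hom F hγ]
      ext y
      constructor
      · intro hy
        exact ⟨e.symm ⟨y, hy⟩, by
          show ((e (e.symm ⟨y, hy⟩) : R') : Ω) = y
          rw [e.apply_symm_apply]⟩
      · rintro ⟨x, rfl⟩
        exact (e x).2
    subst hR'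
    have hα : (e : MulAut _) ∈ F.autGroup _ :=
      (Cfsg.Agent.Lib.helper89.mem_autGroup_iff F le_rfl e).mpr hγ
    have hFe := sysCorr_of_aut F hα
    exact Cfsg.Agent.Lib.helper88.transport F C' (hFe.hom_eq hC')
      (fun U Y => Y.IsSubnormalIn F p) (IsSubnormalIn.refl F p)
  | @step U S C D F p hED hDF ih =>
    intro _ _ hS hFsat R' e hγ T' C' hC'
    have hUS : U ≤ S := hDF.1.2.2.2.1.1
    have hTU : T ≤ U := le_of_isSubnormalIn hED
    have hfinU : Finite U :=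
      Finite.of_injective (Subgroup.inclusion hUS) (Subgroup.inclusion_injective hUS)
    have hfinT : Finite T :=
      Finite.of_injective (Subgroup.inclusion hTU) (Subgroup.inclusion_injective hTU)
    have hU : IsPGroup p U := hS.to_le hUS
    have hDsat : D.IsSaturated p := hDF.1.1
    obtain ⟨α, hα, φ₀, hφ₀, heq⟩ := hDF.1.2.2.2.2.2 T hTU _ hγ
    have hφ₀inj := D.injective_of_mem hφ₀
    have hγ₀ : φ₀.range.subtype.comp (MonoidHom.ofInjective hφ₀inj).toMonoidHom ∈ D.Hom T := by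
      have h1 : φ₀.range.subtype.comp (MonoidHom.ofInjective hφ₀inj).toMonoidHom = φ₀ := by
        ext x
        rfl
      rw [h1]
      exact hφ₀
    obtain ⟨C₀, hC₀⟩ := exists_sysCorr (MonoidHom.ofInjective hφ₀inj) le_rfl C
    have ih₀ : C₀.IsSubnormalIn D p := ih hU hDsat (MonoidHom.ofInjective hφ₀inj) hγ₀ C₀ hC₀
    have hT₀U : imgSub (MonoidHom.ofInjective hφ₀inj) T ≤ U := le_of_isSubnormalIn ih₀
    have hDα := sysCorr_of_mem_autGroup hDF.1.2.2 hα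
    have hfinT₀ : Finite ↥(imgSub (MonoidHom.ofInjective hφ₀inj) T) := hC₀.1.finite
    obtain ⟨C₁, hC₁⟩ := exists_sysCorr (R := U) (R' := U) α hT₀U C₀
    have h₁ : C₁.IsSubnormalIn D p := hDα.isSubnormalIn hC₁ hU ih₀
    have h₂ : C₁.IsSubnormalIn F p := IsSubnormalIn.step h₁ hDF
    have H : CompRel (R₁ := T) (R₂ := U) (R₂' := U) (MonoidHom.ofInjective hφ₀inj) α e := by
      intro x
      have hx : φ₀ x ∈ U := (D.le_of_mem hφ₀).2 x
      exact ⟨hx, heq x hx⟩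
    have hcomp : SysCorr e C C₁ := SysCorr.comp H hC₀ hC₁
    exact Cfsg.Agent.Lib.helper88.transport C₁ C' (hcomp.hom_eq hC')
      (fun U Y => Y.IsSubnormalIn F p) h₂

/-- **An `F`-conjugate of a component is a component.** -/
theorem conj_isComponentIn {S : Subgroup Ω} [Finite S] {p : ℕ} [Fact p.Prime]
    (hS : IsPGroup p S) (F : FusionSystem S) (hF : F.IsSaturated p) {T : Subgroup Ω}
    (C : FusionSystem T) (hC : C.IsComponentIn F p) (γ : T →* Ω) (hγ : γ ∈ F.Hom T)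
    (E : FusionSystem γ.range) (hE : C.IsFactorSystem ⊥ γ E) : E.IsComponentIn F p := by
  have hinj := F.injective_of_mem hγ
  have hTS : T ≤ S := (F.le_of_mem hγ).1
  have hfinT : Finite T :=
    Finite.of_injective (Subgroup.inclusion hTS) (Subgroup.inclusion_injective hTS)
  have hres : resHom (MonoidHom.ofInjective hinj) (le_refl T) = γ := by
    ext x
    rfl
  have hCE : SysCorr (MonoidHom.ofInjective hinj) C E :=
    sysCorr_of_isFactorSystem (MonoidHom.ofInjective hinj) le_rfl (by rw [hres]; exact hE)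
  have hγ' : γ.range.subtype.comp (MonoidHom.ofInjective hinj).toMonoidHom ∈ F.Hom T := by
    have h1 : γ.range.subtype.comp (MonoidHom.ofInjective hinj).toMonoidHom = γ := by
      ext x
      rfl
    rw [h1]
    exact hγ
  exact ⟨conj_isSubnormalIn hC.1 hS hF (MonoidHom.ofInjective hinj) hγ' E hCE,
    hCE.quasisimple (hS.to_le hTS) hC.2⟩

end conj

end Cfsg.Agent.Lib.helper90
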