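import Mathlib
import Cfsg.Prelude.Def_FusionSystem
import Cfsg.Prelude.Def_FusionComponents
import Cfsg.Agent.Lib.helper90.FusIsoA
import Cfsg.Agent.Lib.helper90.FusIsoE
import Cfsg.Agent.Lib.helper88.Invariant
import Cfsg.Agent.Lib.helper88.NormalSub
import Cfsg.Agent.Lib.helper88.Saturated

/-!
The `p'`-residual subsystem of a weakly normal subsystem is weakly normal (helper90; part 1 of
Craven's Theorem A, requested by helper87).

* `residual_sysCorr`: an automorphism of `T` that is an automorphism of the system `E` over `T` is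
  an automorphism of the `p'`-residual subsystem of `E`.
* `residual_autInvariant`: if `E` is invariant in `F`, its `p'`-residual is `Aut_F(T)`-invariant.
* `residual_weaklyNormal`: if `E` is weakly normal in `F`, so is its `p'`-residual.
-/

set_option autoImplicit false

namespace Cfsg.Agent.Lib.helper90

open Cfsg Cfsg.FusionSystem

variable {Ω : Type*} [Group Ω]

/-- The transported system of the residual contains the residual (pull direction). -/
theorem residual_pull {T : Subgroup Ω} [Finite T] {p : ℕ} [Fact p.Prime] (hT : IsPGroup p T)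
    {E D : FusionSystem T} (hD : E.IsPPrimeResidual p D) {α : MulAut T}
    (hα : SysCorr (R := T) (R' := T) α E E) {P P' : Subgroup Ω} {φ : P →* Ω} {φ' : P' →* Ω}
    (hφ' : φ' ∈ D.Hom P') (hc : MapCorr (R := T) (R' := T) α φ φ') : φ ∈ D.Hom P := by
  obtain ⟨X₀, hX₀⟩ := exists_sysCorr (R := T) (R' := T) α le_rfl D
  have key : ∀ (T' : Subgroup Ω) (X' : FusionSystem T'), T = T' →
      SysCorr (R := T) (R' := T) α D X' → ∀ Q : Subgroup Ω, D.Hom Q ⊆ X'.Hom Q := by
    intro T' X' hT' hX'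
    subst hT'
    refine hD.2.2 X' (hX'.isSaturated hT hD.1) ⟨hα.isSubsystemOf hX' hD.2.1.1, ?_⟩
    intro Q' hQ'T
    have hQ := exists_subCorr (R := T) (R' := T) α hQ'T
    generalize imgSub (R := T) (R' := T) (MulEquiv.symm α) Q' = Q at hQ
    have hQT : Q ≤ T := hQ.1
    rw [Subgroup.map_le_iff_le_comap, Subgroup.closure_le]
    rintro β' ⟨k, hk⟩
    show (β' : MulAut Q') ∈ X'.autGroup Q'
    obtain ⟨β, hβ⟩ : ∃ β : MulAut Q, MulAut.congr (subEquiv hQ) β = (β' : MulAut Q') :=
      ⟨(MulAut.congr (subEquiv hQ)).symm (β' : MulAut Q'), MulEquiv.apply_symm_apply _ _⟩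
    have hβE : β ∈ E.autGroup Q := by
      rw [hα.mem_autGroup_iff hQ hQT β, hβ]
      exact β'.2
    have hord : orderOf (⟨β, hβE⟩ : E.autGroup Q) = p ^ k := by
      rw [← hk, ← Subgroup.orderOf_coe, ← Subgroup.orderOf_coe,
        ← (MulAut.congr (subEquiv hQ)).orderOf_eq β, hβ]
    have hβD : β ∈ D.autGroup Q :=
      hD.2.1.2 Q hQT ⟨⟨β, hβE⟩, Subgroup.subset_closure ⟨k, hord⟩, rfl⟩
    rw [← hβ]
    exact (hX'.mem_autGroup_iff hQ hQT β).mp hβD
  have h1 := key _ X₀ ((subCorr_self (R := T) (R' := T) α).eq_imgSub) hX₀ P' hφ'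
  exact hX₀.pull h1 hc

/-- **An automorphism of `E` is an automorphism of its `p'`-residual subsystem.** -/
theorem residual_sysCorr {T : Subgroup Ω} [Finite T] {p : ℕ} [Fact p.Prime] (hT : IsPGroup p T)
    {E D : FusionSystem T} (hD : E.IsPPrimeResidual p D) {α : MulAut T}
    (hα : SysCorr (R := T) (R' := T) α E E) : SysCorr (R := T) (R' := T) α D D := by
  refine ⟨subCorr_self (R := T) (R' := T) α, fun P φ hφ P' φ' hc => ?_,
    fun P' φ' hφ' P φ hc => residual_pull hT hD hα hφ' hc⟩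
  exact residual_pull hT hD (SysCorr.symm (R := T) (R' := T) hα) hφ
    (MapCorr.symm (R := T) (R' := T) hc)

/-- If `E` is invariant in `F`, then the `p'`-residual subsystem of `E` is invariant under
`Aut_F(T)`. -/
theorem residual_autInvariant {S T : Subgroup Ω} [Finite T] {p : ℕ} [Fact p.Prime]
    (hT : IsPGroup p T) {F : FusionSystem S} {E D : FusionSystem T} (hinv : E.IsInvariantIn F)
    (hD : E.IsPPrimeResidual p D) : Cfsg.Agent.Lib.helper88.AutInvariant D F := by
  intro P hPT φ hφ α hα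
  have hDα := residual_sysCorr hT hD (sysCorr_of_mem_autGroup hinv hα)
  have hQ : SubCorr (R := T) (R' := T) α P
      ((P.subgroupOf T).map (T.subtype.comp α.toMonoidHom)) := by
    have h1 := subCorr_imgSub (R := T) (R' := T) α hPT
    have h2 : imgSub (R := T) (R' := T) α P =
        (P.subgroupOf T).map (T.subtype.comp α.toMonoidHom) := by
      unfold imgSub
      rw [Subgroup.map_map]
    rwa [h2] at h1
  have hφT : ∀ x : P, φ x ∈ T := fun x => (D.le_of_mem hφ).2 x
  have hc := pushMap_corr hQ φ hφT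
  refine ⟨pushMap hQ φ hφT, hDα.push hφ hc, fun x hφx hαx => ?_⟩
  obtain ⟨y, hy, hy'⟩ := hc.2 ⟨x, hPT x.2⟩ x.2 hαx
  have h3 : (⟨φ x, hφx⟩ : T) = y := Subtype.ext hy
  rw [h3]
  exact hy'

/-- **The `p'`-residual subsystem of a weakly normal subsystem is weakly normal.** -/
theorem residual_weaklyNormal {S : Subgroup Ω} [Finite S] (p : ℕ) [Fact p.Prime]
    (hS : IsPGroup p S) (F : FusionSystem S) (hF : F.IsSaturated p) {T : Subgroup Ω}
    (E : FusionSystem T) (hE : E.IsWeaklyNormalIn F p) (D : FusionSystem T)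
    (hD : E.IsPPrimeResidual p D) : D.IsWeaklyNormalIn F p := by
  obtain ⟨hEsat, -, hinv⟩ := hE
  have hsc : F.StronglyClosed T := hinv.2.1
  have hTS : T ≤ S := hsc.1
  have hfinT : Finite T :=
    Finite.of_injective (Subgroup.inclusion hTS) (Subgroup.inclusion_injective hTS)
  have hT : IsPGroup p T := hS.to_le hTS
  have hDF : D.IsSubsystemOf F := fun P => (hD.2.1.1 P).trans (hinv.1 P)
  have hai := residual_autInvariant hT hinv hD
  refine ⟨hD.1, hF, hDF, hsc, hai, ?_⟩
  refine Cfsg.Agent.Lib.helper88.frattini_of_normal_family hS F hF hsc D hDF hai ?_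
  intro R hRT hRfn
  refine ⟨Subgroup.closure {β : MulAut R | β ∈ E.autGroup R ∧ ∃ k : ℕ, orderOf β = p ^ k},
    ?_, ?_, ?_⟩
  · rw [Subgroup.closure_le]
    rintro β ⟨hβE, k, hk⟩
    have hord : orderOf (⟨β, hβE⟩ : E.autGroup R) = p ^ k := by
      rw [← hk, ← Subgroup.orderOf_coe]
    exact hD.2.1.2 R hRT ⟨⟨β, hβE⟩, Subgroup.subset_closure ⟨k, hord⟩, rfl⟩
  · intro c hc
    have hcE : c ∈ E.autGroup R := Cfsg.Agent.Lib.helper88.autInducedBy_le_autGroup E hRT hc
    have hp := Cfsg.Agent.Lib.helper88.isPGroup_autInducedBy hT R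
    obtain ⟨k, hk⟩ := (IsPGroup.iff_orderOf.mp hp) ⟨c, hc⟩
    refine Subgroup.subset_closure ⟨hcE, k, ?_⟩
    rw [← hk, ← Subgroup.orderOf_coe]
  · intro a ha k hk
    have hle : Subgroup.closure {β : MulAut R | β ∈ E.autGroup R ∧ ∃ k : ℕ, orderOf β = p ^ k} ≤
        (Subgroup.closure {β : MulAut R | β ∈ E.autGroup R ∧ ∃ k : ℕ, orderOf β = p ^ k}).comap
          (MulAut.conj a).toMonoidHom := by
      rw [Subgroup.closure_le]
      rintro β ⟨hβE, j, hj⟩
      refine Subgroup.subset_closure ⟨?_, j, ?_⟩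
      · exact Cfsg.Agent.Lib.helper88.conj_mem_autGroup_of_invariant hinv hRT ha hβE
      · rw [← hj]
        exact (MulAut.conj a).orderOf_eq β
    exact hle hk

end Cfsg.Agent.Lib.helper90
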