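import Mathlib

set_option autoImplicit false

namespace Cfsg.Agent.Lib.helper90

/-! ### Coprime automorphisms of `p`-groups and elements of order `p` (or `4`)

The main result `coprime_family_trivial` is an abstract form of the classical theorem that a
`p'`-automorphism of a `p`-group fixing all elements of order `p` (and `4` when `p = 2`) is trivial:
a family `𝒜` of endomorphisms of coprime order, normalized by a family `𝒢 ⊇ 𝒜`, is trivial as soon
as on every `𝒢`-invariant subgroup `R = [R, 𝒜]` all of whose elements have order dividing `p`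
(or `4`) the family `𝒜` acts trivially modulo a proper `𝒢`-invariant subgroup. -/

/-- Power of a product when the commutator is central. -/
theorem mul_pow_of_comm_central {G : Type*} [Group G] (x y c : G) (hc : y * x = c * (x * y))
    (hcx : Commute c x) (hcy : Commute c y) (n : ℕ) :
    (x * y) ^ n = x ^ n * y ^ n * c ^ (n * (n - 1) / 2) := by
  have hyx : ∀ k : ℕ, y ^ k * x = c ^ k * x * y ^ k := by
    intro k
    induction k with
    | zero => simp
    | succ k ih =>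
      calc y ^ (k + 1) * x = y ^ k * (y * x) := by rw [pow_succ]; group
        _ = y ^ k * (c * (x * y)) := by rw [hc]
        _ = c * (y ^ k * x) * y := by
          rw [← mul_assoc, ← (hcy.pow_right k).eq]; group
        _ = c * (c ^ k * x * y ^ k) * y := by rw [ih]
        _ = c ^ (k + 1) * x * y ^ (k + 1) := by rw [pow_succ' c, pow_succ y]; group
  induction n with
  | zero => simp
  | succ n ih =>
    have ht : (n + 1) * (n + 1 - 1) / 2 = n * (n - 1) / 2 + n := Nat.triangle_succ n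
    rw [ht, pow_succ, ih]
    have hT : Commute (c ^ (n * (n - 1) / 2)) (x * y) := (hcx.mul_right hcy).pow_left _
    have hcn : Commute (c ^ n) (x ^ n) := (hcx.pow_left _).pow_right _
    have hcn2 : Commute (c ^ n) (x ^ (n + 1) * y ^ (n + 1)) :=
      ((hcx.pow_left _).pow_right _).mul_right ((hcy.pow_left _).pow_right _)
    calc x ^ n * y ^ n * c ^ (n * (n - 1) / 2) * (x * y)
        = x ^ n * y ^ n * (c ^ (n * (n - 1) / 2) * (x * y)) := by group
      _ = x ^ n * y ^ n * ((x * y) * c ^ (n * (n - 1) / 2)) := by rw [hT.eq]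
      _ = x ^ n * (y ^ n * x) * y * c ^ (n * (n - 1) / 2) := by group
      _ = x ^ n * (c ^ n * x * y ^ n) * y * c ^ (n * (n - 1) / 2) := by rw [hyx]
      _ = (x ^ n * c ^ n) * x * y ^ n * y * c ^ (n * (n - 1) / 2) := by group
      _ = (c ^ n * x ^ n) * x * y ^ n * y * c ^ (n * (n - 1) / 2) := by rw [hcn.eq]
      _ = c ^ n * (x ^ (n + 1) * y ^ (n + 1)) * c ^ (n * (n - 1) / 2) := by
          rw [pow_succ x, pow_succ y]; group
      _ = (x ^ (n + 1) * y ^ (n + 1)) * c ^ n * c ^ (n * (n - 1) / 2) := by rw [hcn2.eq]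
      _ = x ^ (n + 1) * y ^ (n + 1) * c ^ (n * (n - 1) / 2 + n) := by
          rw [mul_assoc (x ^ (n + 1) * y ^ (n + 1)), ← pow_add, Nat.add_comm n (n * (n - 1) / 2)]

/-- If the commutator `c = x y x⁻¹ y⁻¹` commutes with `x`, then `x^n y x^{-n} y⁻¹ = c^n`. -/
theorem comm_pow_of_comm {G : Type*} [Group G] (x y : G)
    (h : Commute (x * y * x⁻¹ * y⁻¹) x) (n : ℕ) :
    x ^ n * y * (x ^ n)⁻¹ * y⁻¹ = (x * y * x⁻¹ * y⁻¹) ^ n := by
  induction n with
  | zero => simp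
  | succ n ih =>
    calc x ^ (n + 1) * y * (x ^ (n + 1))⁻¹ * y⁻¹
        = x * (x ^ n * y * (x ^ n)⁻¹ * y⁻¹) * (y * x⁻¹ * y⁻¹) := by
          rw [pow_succ']; group
      _ = x * (x * y * x⁻¹ * y⁻¹) ^ n * (y * x⁻¹ * y⁻¹) := by rw [ih]
      _ = (x * y * x⁻¹ * y⁻¹) ^ n * x * (y * x⁻¹ * y⁻¹) := by rw [(h.pow_left n).eq]
      _ = (x * y * x⁻¹ * y⁻¹) ^ n * (x * y * x⁻¹ * y⁻¹) := by group
      _ = (x * y * x⁻¹ * y⁻¹) ^ (n + 1) := by rw [pow_succ]

/-- An element of a `p`-group killed by a number prime to `p` is trivial. -/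
theorem eq_one_of_pow_coprime {Q : Type*} [Group Q] {p : ℕ} (hQ : IsPGroup p Q) (d : Q) (m : ℕ)
    (hm : m.Coprime p) (h : d ^ m = 1) : d = 1 := by
  obtain ⟨k, hk⟩ := hQ d
  have h1 : orderOf d ∣ m := orderOf_dvd_of_pow_eq_one h
  have h2 : orderOf d ∣ p ^ k := orderOf_dvd_of_pow_eq_one hk
  have h3 : m.Coprime (p ^ k) := Nat.Coprime.pow_right k hm
  exact orderOf_eq_one_iff.mp (Nat.eq_one_of_dvd_coprimes h3 h1 h2)

/-- An endomorphism `α` of a `p`-group with `α^m = 1`, `m` prime to `p`, fixes `x` as soon as it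
fixes `x⁻¹ α(x)`. -/
theorem fix_of_fix_comm {Q : Type*} [Group Q] {p : ℕ} (hQ : IsPGroup p Q) (α : Q →* Q) (m : ℕ)
    (hm : m.Coprime p) (hαm : ∀ x, α^[m] x = x) (x : Q) (hd : α (x⁻¹ * α x) = x⁻¹ * α x) :
    α x = x := by
  have hx : α x = x * (x⁻¹ * α x) := by group
  have hk : ∀ k : ℕ, α^[k] x = x * (x⁻¹ * α x) ^ k := by
    intro k
    induction k with
    | zero => simp
    | succ k ih =>
      rw [Function.iterate_succ_apply', ih, map_mul, map_pow, hd, pow_succ', ← mul_assoc, ← hx]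
  have h1 := hk m
  rw [hαm] at h1
  have h2 : (x⁻¹ * α x) ^ m = 1 := by
    have h3 : x * (x⁻¹ * α x) ^ m = x * 1 := by rw [← h1, mul_one]
    exact mul_left_cancel h3
  have h3 := eq_one_of_pow_coprime hQ _ m hm h2
  rw [hx, h3, mul_one]

/-- In a nontrivial finite `p`-group `R` (a subgroup of `Q`), the subgroup generated by the `p`-th
powers and the commutators is proper. -/
theorem frattiniLike_ne {Q : Type*} [Group Q] [Finite Q] {p : ℕ} [Fact p.Prime]
    (hQ : IsPGroup p Q) (R : Subgroup Q) (hbot : R ≠ ⊥) :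
    Subgroup.closure ({y | ∃ x ∈ R, y = x ^ p} ∪
      {y | ∃ x ∈ R, ∃ z ∈ R, y = x * z * x⁻¹ * z⁻¹}) ≠ R := by
  have hpp : p.Prime := Fact.out
  obtain ⟨n, hn⟩ := IsPGroup.iff_card.mp (hQ.to_subgroup R)
  have hn0 : n ≠ 0 := by
    rintro rfl
    rw [pow_zero] at hn
    exact hbot (Subgroup.card_eq_one.mp hn)
  obtain ⟨K, hK⟩ := Sylow.exists_subgroup_card_pow_prime (G := ↥R) p (n := n - 1)
    (by rw [hn]; exact pow_dvd_pow p (Nat.sub_le n 1))
  have hidx : K.index = p := by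
    have h1 := K.card_mul_index
    rw [hK, hn] at h1
    have h2 : p ^ n = p ^ (n - 1) * p := by
      rw [← pow_succ]; congr 1; omega
    rw [h2] at h1
    exact Nat.eq_of_mul_eq_mul_left (pow_pos hpp.pos _) h1
  have hKn : K.Normal := by
    apply Subgroup.normal_of_index_eq_minFac_card
    rw [hidx, hn, Nat.pow_minFac hn0, Nat.Prime.minFac_eq hpp]
  have hcyc : IsCyclic (↥R ⧸ K) :=
    isCyclic_of_prime_card (p := p) (by rw [← Subgroup.index_eq_card]; exact hidx)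
  have hcomm : ∀ a b : ↥R, a * b * a⁻¹ * b⁻¹ ∈ K := by
    intro a b
    rw [← QuotientGroup.eq_one_iff]
    have h1 := (IsCyclic.isMulCommutative (α := ↥R ⧸ K)).is_comm.comm (a : ↥R ⧸ K) (b : ↥R ⧸ K)
    show ((a : ↥R ⧸ K) * (b : ↥R ⧸ K) * (a : ↥R ⧸ K)⁻¹ * (b : ↥R ⧸ K)⁻¹) = 1
    rw [h1, mul_inv_cancel_right, mul_inv_cancel]
  have hpow : ∀ a : ↥R, a ^ p ∈ K := by
    intro a
    have := K.pow_index_mem a
    rwa [hidx] at this
  intro heq
  have hle : R ≤ K.map R.subtype := by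
    conv_lhs => rw [← heq]
    rw [Subgroup.closure_le]
    rintro _ (⟨x, hx, rfl⟩ | ⟨x, hx, z, hz, rfl⟩)
    · exact ⟨⟨x, hx⟩ ^ p, hpow _, rfl⟩
    · exact ⟨⟨x, hx⟩ * ⟨z, hz⟩ * ⟨x, hx⟩⁻¹ * ⟨z, hz⟩⁻¹, hcomm _ _, rfl⟩
  have h1 := Subgroup.card_le_of_le hle
  rw [Subgroup.card_map_of_injective R.subtype_injective, hK, hn] at h1
  have h2 : p ^ (n - 1) < p ^ n := Nat.pow_lt_pow_right hpp.one_lt (by omega)
  omega

/-- **Coprime families acting on a `p`-group.** Let `𝒜 ⊆ 𝒢` be sets of endomorphisms of a finite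
`p`-group `Q`, every member of `𝒜` of finite order prime to `p`, and `𝒜` normalized by `𝒢`.
Suppose that every nontrivial `𝒢`-invariant subgroup `R` of exponent `p` (or `4` if `p = 2`) with
`R = [R, 𝒜]` has a proper `𝒢`-invariant subgroup `M` with `[R, 𝒜] ≤ M`. Then `𝒜` is trivial. -/
theorem coprime_family_trivial {Q : Type*} [Group Q] [Finite Q] {p : ℕ} [Fact p.Prime]
    (hQ : IsPGroup p Q) (𝒢 𝒜 : Set (Q →* Q)) (hAG : 𝒜 ⊆ 𝒢)
    (hord : ∀ α ∈ 𝒜, ∃ m : ℕ, m.Coprime p ∧ ∀ x, α^[m] x = x)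
    (hconj : ∀ g ∈ 𝒢, ∀ α ∈ 𝒜, ∃ α' ∈ 𝒜, ∀ x, g (α x) = α' (g x))
    (hc : ∀ R : Subgroup Q, R ≠ ⊥ → (∀ g ∈ 𝒢, ∀ x ∈ R, g x ∈ R) →
      (∀ x ∈ R, x ^ p = 1 ∨ (p = 2 ∧ x ^ 4 = 1)) →
      R ≤ Subgroup.closure {y | ∃ α ∈ 𝒜, ∃ x ∈ R, y = x⁻¹ * α x} →
      ∃ M : Subgroup Q, M ≤ R ∧ M ≠ R ∧ (∀ g ∈ 𝒢, ∀ x ∈ M, g x ∈ M) ∧
        ∀ α ∈ 𝒜, ∀ x ∈ R, x⁻¹ * α x ∈ M) :
    ∀ α ∈ 𝒜, ∀ x, α x = x := by
  have hpp : p.Prime := Fact.out
  -- the exponent `e`
  obtain ⟨e, e₁, hee, hpe, hsmall⟩ : ∃ e e₁ : ℕ, e = e₁ * p ∧ p ∣ e * (e - 1) / 2 ∧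
      ∀ x : Q, x ^ e = 1 → (x ^ p = 1 ∨ (p = 2 ∧ x ^ 4 = 1)) := by
    by_cases h2 : p = 2
    · refine ⟨4, 2, by rw [h2], by rw [h2]; decide, fun x hx => Or.inr ⟨h2, hx⟩⟩
    · refine ⟨p, 1, by rw [one_mul], ?_, fun x hx => Or.inl hx⟩
      obtain ⟨k, hk⟩ := hpp.odd_of_ne_two h2
      have h1 : p * (p - 1) / 2 = p * k := by
        have h1 : p - 1 = 2 * k := by omega
        rw [h1, ← mul_assoc, mul_comm p 2, mul_assoc, Nat.mul_div_cancel_left _ (by norm_num)]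
      rw [h1]
      exact dvd_mul_right p k
  have key : ∀ (n : ℕ) (R : Subgroup Q), Nat.card R = n → (∀ g ∈ 𝒢, ∀ x ∈ R, g x ∈ R) →
      ∀ α ∈ 𝒜, ∀ x ∈ R, α x = x := by
    intro n
    induction n using Nat.strong_induction_on with
    | _ n ih =>
    intro R hcard hinv
    -- smaller invariant subgroups are fixed
    have ih' : ∀ R₁ : Subgroup Q, R₁ ≤ R → R₁ ≠ R → (∀ g ∈ 𝒢, ∀ x ∈ R₁, g x ∈ R₁) →
        ∀ α ∈ 𝒜, ∀ x ∈ R₁, α x = x := by
      intro R₁ hle hne hinv₁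
      refine ih (Nat.card R₁) ?_ R₁ rfl hinv₁
      rw [← hcard]
      by_contra hlt
      exact hne (Subgroup.eq_of_le_of_card_ge hle (not_lt.mp hlt))
    -- reduction: if `x⁻¹ α(x)` is fixed then `x` is fixed
    have hfix : ∀ α ∈ 𝒜, ∀ x : Q, α (x⁻¹ * α x) = x⁻¹ * α x → α x = x := by
      intro α hα x hx
      obtain ⟨m, hm, hαm⟩ := hord α hα
      exact fix_of_fix_comm hQ α m hm hαm x hx
    by_cases hbot : R = ⊥
    · intro α hα x hx
      rw [hbot, Subgroup.mem_bot] at hx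
      rw [hx, map_one]
    -- the commutator subgroup `[R, 𝒜]`
    have hDR : Subgroup.closure {y | ∃ α ∈ 𝒜, ∃ x ∈ R, y = x⁻¹ * α x} ≤ R := by
      rw [Subgroup.closure_le]
      rintro _ ⟨α, hα, x, hx, rfl⟩
      exact R.mul_mem (R.inv_mem hx) (hinv α (hAG hα) x hx)
    have hDinv : ∀ g ∈ 𝒢, ∀ x ∈ Subgroup.closure {y | ∃ α ∈ 𝒜, ∃ x ∈ R, y = x⁻¹ * α x},
        g x ∈ Subgroup.closure {y | ∃ α ∈ 𝒜, ∃ x ∈ R, y = x⁻¹ * α x} := by
      intro g hg
      have : Subgroup.closure {y | ∃ α ∈ 𝒜, ∃ x ∈ R, y = x⁻¹ * α x} ≤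
          (Subgroup.closure {y | ∃ α ∈ 𝒜, ∃ x ∈ R, y = x⁻¹ * α x}).comap g := by
        rw [Subgroup.closure_le]
        rintro _ ⟨α, hα, x, hx, rfl⟩
        obtain ⟨α', hα', h⟩ := hconj g hg α hα
        rw [SetLike.mem_coe, Subgroup.mem_comap, map_mul, map_inv, h]
        exact Subgroup.subset_closure ⟨α', hα', g x, hinv g hg x hx, rfl⟩
      intro x hx
      exact this hx
    by_cases hDne : Subgroup.closure {y | ∃ α ∈ 𝒜, ∃ x ∈ R, y = x⁻¹ * α x} ≠ R
    · intro α hα x hx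
      apply hfix α hα
      exact ih' _ hDR hDne hDinv α hα _ (Subgroup.subset_closure ⟨α, hα, x, hx, rfl⟩)
    have hDeq : Subgroup.closure {y | ∃ α ∈ 𝒜, ∃ x ∈ R, y = x⁻¹ * α x} = R := not_not.mp hDne
    -- the Frattini-like subgroup
    obtain ⟨M₀, hM₀⟩ : ∃ M₀ : Subgroup Q, M₀ = Subgroup.closure ({y | ∃ x ∈ R, y = x ^ p} ∪
      {y | ∃ x ∈ R, ∃ z ∈ R, y = x * z * x⁻¹ * z⁻¹}) := ⟨_, rfl⟩
    have hM₀R : M₀ ≤ R := by
      rw [hM₀, Subgroup.closure_le]
      rintro _ (⟨x, hx, rfl⟩ | ⟨x, hx, z, hz, rfl⟩)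
      · exact R.pow_mem hx p
      · exact R.mul_mem (R.mul_mem (R.mul_mem hx hz) (R.inv_mem hx)) (R.inv_mem hz)
    have hM₀inv : ∀ g : Q →* Q, (∀ x ∈ R, g x ∈ R) → ∀ x ∈ M₀, g x ∈ M₀ := by
      intro g hg
      have : M₀ ≤ M₀.comap g := by
        rw [hM₀, Subgroup.closure_le]
        rintro _ (⟨x, hx, rfl⟩ | ⟨x, hx, z, hz, rfl⟩)
        · rw [SetLike.mem_coe, Subgroup.mem_comap, map_pow]
          exact Subgroup.subset_closure (Or.inl ⟨g x, hg x hx, rfl⟩)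
        · rw [SetLike.mem_coe, Subgroup.mem_comap, map_mul, map_mul, map_mul, map_inv, map_inv]
          exact Subgroup.subset_closure (Or.inr ⟨g x, hg x hx, g z, hg z hz, rfl⟩)
      intro x hx
      exact this hx
    have hM₀ne : M₀ ≠ R := by
      rw [hM₀]
      exact frattiniLike_ne hQ R hbot
    have hM₀fix := ih' M₀ hM₀R hM₀ne (fun g hg => hM₀inv g (hinv g hg))
    have hpowM : ∀ x ∈ R, x ^ p ∈ M₀ := by
      intro x hx
      rw [hM₀]
      exact Subgroup.subset_closure (Or.inl ⟨x, hx, rfl⟩)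
    have hcommM : ∀ x ∈ R, ∀ z ∈ R, x * z * x⁻¹ * z⁻¹ ∈ M₀ := by
      intro x hx z hz
      rw [hM₀]
      exact Subgroup.subset_closure (Or.inr ⟨x, hx, z, hz, rfl⟩)
    -- `M₀` is normalized by `R`
    have hM₀norm : ∀ x ∈ R, ∀ c ∈ M₀, x * c * x⁻¹ ∈ M₀ := by
      intro x hx c hc
      have := hM₀inv (MulAut.conj x).toMonoidHom (fun y hy => by
        show x * y * x⁻¹ ∈ R
        exact R.mul_mem (R.mul_mem hx hy) (R.inv_mem hx)) c hc
      exact this
    -- `M₀` is central in `R`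
    have hM₀cen : ∀ c ∈ M₀, ∀ r ∈ R, c * r = r * c := by
      intro c hc r hr
      have hle : R ≤ Subgroup.centralizer {c} := by
        rw [← hDeq, Subgroup.closure_le]
        rintro _ ⟨α, hα, x, hx, rfl⟩
        rw [SetLike.mem_coe, Subgroup.mem_centralizer_iff]
        intro y hy
        rw [Set.mem_singleton_iff.mp hy]
        have h1 : α (x * c * x⁻¹) = x * c * x⁻¹ := hM₀fix α hα _ (hM₀norm x hx c hc)
        have h2 : α c = c := hM₀fix α hα c hc
        rw [map_mul, map_mul, map_inv, h2] at h1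
        calc c * (x⁻¹ * α x) = x⁻¹ * (x * c * x⁻¹) * α x := by group
          _ = x⁻¹ * (α x * c * (α x)⁻¹) * α x := by rw [h1]
          _ = x⁻¹ * α x * c := by group
      have := hle hr
      rw [Subgroup.mem_centralizer_iff] at this
      exact this c rfl
    -- commutators have order dividing `p`
    have hcp : ∀ x ∈ R, ∀ z ∈ R, (x * z * x⁻¹ * z⁻¹) ^ p = 1 := by
      intro x hx z hz
      have h1 : Commute (x * z * x⁻¹ * z⁻¹) x := hM₀cen _ (hcommM x hx z hz) x hx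
      rw [← comm_pow_of_comm x z h1 p]
      have h2 : x ^ p * z = z * x ^ p := hM₀cen _ (hpowM x hx) z hz
      rw [h2]
      group
    -- the `e`-th power map is multiplicative on `R`
    have hmul : ∀ x ∈ R, ∀ z ∈ R, (x * z) ^ e = x ^ e * z ^ e := by
      intro x hx z hz
      have hcM := hcommM z hz x hx
      have h1 := mul_pow_of_comm_central x z (z * x * z⁻¹ * x⁻¹) (by group)
        (hM₀cen _ hcM x hx) (hM₀cen _ hcM z hz) e
      obtain ⟨j, hj⟩ := hpe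
      rw [h1, hj, pow_mul, hcp z hz x hx, one_pow, mul_one]
    -- `e`-th powers lie in `M₀`
    have hpowe : ∀ x ∈ R, x ^ e ∈ M₀ := by
      intro x hx
      rw [hee, pow_mul]
      exact hpowM _ (R.pow_mem hx e₁)
    -- the subgroup of elements of `R` killed by `e`
    let K : Subgroup Q :=
      { carrier := {x | x ∈ R ∧ x ^ e = 1}
        mul_mem' := by
          rintro a b ⟨ha, ha1⟩ ⟨hb, hb1⟩
          exact ⟨R.mul_mem ha hb, by rw [hmul a ha b hb, ha1, hb1, mul_one]⟩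
        one_mem' := ⟨R.one_mem, one_pow e⟩
        inv_mem' := by
          rintro a ⟨ha, ha1⟩
          exact ⟨R.inv_mem ha, by rw [inv_pow, ha1, inv_one]⟩ }
    have hKR : K ≤ R := fun x hx => hx.1
    have hKinv : ∀ g ∈ 𝒢, ∀ x ∈ K, g x ∈ K := by
      rintro g hg x ⟨hx, hx1⟩
      exact ⟨hinv g hg x hx, by rw [← map_pow, hx1, map_one]⟩
    by_cases hKne : K ≠ R
    · intro α hα x hx
      apply hfix α hα
      have hαx : α x ∈ R := hinv α (hAG hα) x hx
      have hd : x⁻¹ * α x ∈ K := by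
        refine ⟨R.mul_mem (R.inv_mem hx) hαx, ?_⟩
        rw [hmul _ (R.inv_mem hx) _ hαx, ← map_pow, hM₀fix α hα _ (hpowe x hx), inv_pow,
          inv_mul_cancel]
      exact ih' K hKR hKne hKinv α hα _ hd
    have hKeq : K = R := not_not.mp hKne
    -- all elements of `R` are small
    have hsm : ∀ x ∈ R, x ^ p = 1 ∨ (p = 2 ∧ x ^ 4 = 1) := by
      intro x hx
      have hxK : x ∈ K := by rw [hKeq]; exact hx
      exact hsmall x hxK.2
    obtain ⟨M, hMR, hMne, hMinv, hMA⟩ := hc R hbot hinv hsm (le_of_eq hDeq.symm)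
    intro α hα x hx
    apply hfix α hα
    exact ih' M hMR hMne hMinv α hα _ (hMA α hα x hx)
  intro α hα x
  exact key (Nat.card (⊤ : Subgroup Q)) ⊤ rfl (fun _ _ _ _ => Subgroup.mem_top _) α hα x
    (Subgroup.mem_top x)

end Cfsg.Agent.Lib.helper90
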