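import Cfsg.Agent.Lib.helper90.CseTransport
import Cfsg.Agent.Lib.helper88.Invariant

/-!
Transport of "`E ≤ C_F(X)`" along maps of `F` defined on `T ⊔ X`, for an `F`-invariant subsystem
`E` over the strongly closed subgroup `T`; consequences for the largest `Y ≤ C_S(T)` with
`E ≤ C_F(Y)`: it is normal in `S`, and the strong closure / extension statement follows from the
claim that every `F`-map restricted to `U ⊓ Y` extends to `T ⊔ (U ⊓ Y)`.
-/

set_option autoImplicit false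

namespace Cfsg.Agent.Lib.helper90

open Cfsg Cfsg.FusionSystem Cfsg.Agent.Lib.helper88

variable {Ω : Type*} [Group Ω] {S : Subgroup Ω}

/-- Monotonicity of `E ≤ C_F(X)` in `X`. -/
theorem cse_centralizerHom_mono (F : FusionSystem S) {X Y P : Subgroup Ω} (hXY : X ≤ Y)
    {φ : P →* Ω} (hφ : φ ∈ F.centralizerHom Y P) : φ ∈ F.centralizerHom X P := by
  obtain ⟨hφF, hPY, hφY, ψ, hψ, hψP, hψY⟩ := hφ
  have hmono : centralizerIn S Y ≤ centralizerIn S X := by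
    intro g hg
    exact Subgroup.mem_inf.mpr ⟨hg.1, Subgroup.centralizer_le (SetLike.coe_subset_coe.mpr hXY) hg.2⟩
  refine ⟨hφF, hPY.trans hmono, fun x => hmono (hφY x),
    ψ.comp (Subgroup.inclusion (sup_le_sup_left hXY P)),
    restrict_mem F (sup_le_sup_left hXY P) hψ, fun x => hψP x, fun x => ?_⟩
  exact hψY (Subgroup.inclusion hXY x)

/-- **Transport lemma.** Let `E` over the strongly closed `T` be an `F`-invariant subsystem of `F`,
`X ≤ C_S(T)` with `E ≤ C_F(X)` and `ν` a map of `F` on `T ⊔ X`. Then `ν(X) ≤ C_S(T)` and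
`E ≤ C_F(ν(X))`. -/
theorem cse_tr [Finite S] (F : FusionSystem S) {T : Subgroup Ω} (E : FusionSystem T)
    (hEF : E.IsSubsystemOf F) (hT : F.StronglyClosed T) (hinv : AutInvariant E F)
    {X : Subgroup Ω} (hX : X ≤ centralizerIn S T)
    (hEX : ∀ P : Subgroup Ω, E.Hom P ⊆ F.centralizerHom X P)
    {ν : ↥(T ⊔ X) →* Ω} (hν : ν ∈ F.Hom (T ⊔ X)) (X2 : Subgroup Ω)
    (hX2 : ∀ y : Ω, y ∈ X2 ↔ ∃ x : X, ν (Subgroup.inclusion le_sup_right x) = y) :
    X2 ≤ centralizerIn S T ∧ ∀ P : Subgroup Ω, E.Hom P ⊆ F.centralizerHom X2 P := by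
  have hTS := hT.1
  have hfinT : Finite T := finite_of_le hTS
  have hνT := restrict_mem F (le_sup_left : T ≤ T ⊔ X) hν
  have hνTval : ∀ t : T, (ν.comp (Subgroup.inclusion le_sup_left)) t ∈ T :=
    fun t => hT.2 T le_rfl _ hνT t
  obtain ⟨β, hβ⟩ := helper89.exists_aut_of_mem F hνT hνTval
  have hβ' : ∀ t : T, ((β t : T) : Ω) = ν (Subgroup.inclusion le_sup_left t) := hβ
  have hβF : β ∈ F.autGroup T := by
    rw [mem_autGroup_iff' F hTS]
    have h1 : T.subtype.comp β.toMonoidHom = ν.comp (Subgroup.inclusion le_sup_left) := by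
      ext x
      exact hβ x
    rw [h1]
    exact hνT
  have hβinvF : β⁻¹ ∈ F.autGroup T := inv_mem hβF
  have hββ : ∀ t : T, ν (Subgroup.inclusion le_sup_left (β⁻¹ t)) = t := by
    intro t
    rw [← hβ']
    simp
  -- `ν(X) ≤ C_S(T)`
  have hX2Q : X2 ≤ centralizerIn S T := by
    intro y hy
    obtain ⟨x, rfl⟩ := (hX2 y).mp hy
    refine Subgroup.mem_inf.mpr ⟨(F.le_of_mem hν).2 _, ?_⟩
    rw [Subgroup.mem_centralizer_iff]
    intro t ht
    have hx2 : (x : Ω) ∈ Subgroup.centralizer (T : Set Ω) := (hX x.2).2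
    have h1 : Subgroup.inclusion le_sup_left (β⁻¹ ⟨t, ht⟩) * Subgroup.inclusion le_sup_right x
        = Subgroup.inclusion le_sup_right x * Subgroup.inclusion le_sup_left (β⁻¹ ⟨t, ht⟩) := by
      apply Subtype.ext
      exact Subgroup.mem_centralizer_iff.mp hx2 _ (β⁻¹ ⟨t, ht⟩).2
    have h2 := congrArg ν h1
    rw [map_mul, map_mul, hββ] at h2
    exact h2
  refine ⟨hX2Q, ?_⟩
  intro P ε hε
  have hPT : P ≤ T := (E.le_of_mem hε).1
  have hεT : ∀ x : P, ε x ∈ T := (E.le_of_mem hε).2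
  obtain ⟨M, hM⟩ : ∃ M : Subgroup Ω, ∀ y : Ω, y ∈ M ↔
      ∃ x : P, ((β⁻¹ ⟨x, hPT x.2⟩ : T) : Ω) = y := by
    refine ⟨(P.subgroupOf T).map (T.subtype.comp (β⁻¹ : MulAut T).toMonoidHom), fun y => ?_⟩
    constructor
    · rintro ⟨t, ht, rfl⟩
      exact ⟨⟨t, ht⟩, rfl⟩
    · rintro ⟨x, rfl⟩
      exact ⟨⟨x, hPT x.2⟩, x.2, rfl⟩
  obtain ⟨χ, hχ, hχeq⟩ := hinv.exists' hPT hε hβinvF M hM
  have hMT : M ≤ T := (E.le_of_mem hχ).1
  obtain ⟨hχF, -, -, δ, hδ, hδM, hδX⟩ := hEX M hχ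
  have hMX_le : M ⊔ X ≤ T ⊔ X := sup_le_sup_right hMT X
  have hν₁ := restrict_mem F hMX_le hν
  have hνM : ∀ (x : P) (y : M), (y : Ω) = ((β⁻¹ ⟨x, hPT x.2⟩ : T) : Ω) →
      ν (Subgroup.inclusion hMX_le (Subgroup.inclusion le_sup_left y)) = x := by
    intro x y hy
    have h1 : Subgroup.inclusion hMX_le (Subgroup.inclusion le_sup_left y)
        = Subgroup.inclusion le_sup_left (β⁻¹ ⟨x, hPT x.2⟩) := Subtype.ext hy
    rw [h1, hββ]
  have hval : ∀ z : ↥(M ⊔ X), ν (Subgroup.inclusion hMX_le z) ∈ P ⊔ X2 := by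
    have hle : M ⊔ X ≤ ((P ⊔ X2).comap (ν.comp (Subgroup.inclusion hMX_le))).map
        (M ⊔ X).subtype := by
      apply sup_le
      · intro y hy
        obtain ⟨x, hx⟩ := (hM y).mp hy
        refine ⟨Subgroup.inclusion le_sup_left ⟨y, hy⟩, ?_, rfl⟩
        rw [SetLike.mem_coe, Subgroup.mem_comap]
        show ν (Subgroup.inclusion hMX_le (Subgroup.inclusion le_sup_left ⟨y, hy⟩)) ∈ P ⊔ X2
        rw [hνM x ⟨y, hy⟩ hx.symm]
        exact Subgroup.mem_sup_left x.2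
      · intro c hc
        refine ⟨Subgroup.inclusion le_sup_right ⟨c, hc⟩, ?_, rfl⟩
        rw [SetLike.mem_coe, Subgroup.mem_comap]
        exact Subgroup.mem_sup_right ((hX2 _).mpr ⟨⟨c, hc⟩, rfl⟩)
    intro z
    obtain ⟨z', hz', hzz'⟩ := hle z.2
    have h1 : z' = z := Subtype.ext hzz'
    rw [← h1]
    exact hz'
  have hrange : (ν.comp (Subgroup.inclusion hMX_le)).range = P ⊔ X2 := by
    apply le_antisymm
    · rintro _ ⟨z, rfl⟩
      exact hval z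
    · apply sup_le
      · intro x hx
        have hy : ((β⁻¹ ⟨x, hPT hx⟩ : T) : Ω) ∈ M := (hM _).mpr ⟨⟨x, hx⟩, rfl⟩
        exact ⟨Subgroup.inclusion le_sup_left ⟨_, hy⟩, hνM ⟨x, hx⟩ ⟨_, hy⟩ rfl⟩
      · intro y hy
        obtain ⟨x, hx⟩ := (hX2 y).mp hy
        exact ⟨Subgroup.inclusion le_sup_right x, hx⟩
  obtain ⟨e₁, he₁, he₁x⟩ := exists_isoEquiv F hν₁ hrange
  have hδval : ∀ z : ↥(M ⊔ X), δ z ∈ T ⊔ X := by
    have hle : M ⊔ X ≤ ((T ⊔ X).comap δ).map (M ⊔ X).subtype := by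
      apply sup_le
      · intro y hy
        refine ⟨Subgroup.inclusion le_sup_left ⟨y, hy⟩, ?_, rfl⟩
        rw [SetLike.mem_coe, Subgroup.mem_comap, hδM]
        exact Subgroup.mem_sup_left ((E.le_of_mem hχ).2 _)
      · intro c hc
        refine ⟨Subgroup.inclusion le_sup_right ⟨c, hc⟩, ?_, rfl⟩
        rw [SetLike.mem_coe, Subgroup.mem_comap, hδX]
        exact Subgroup.mem_sup_right hc
    intro z
    obtain ⟨z', hz', hzz'⟩ := hle z.2
    have h1 : z' = z := Subtype.ext hzz'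
    rw [← h1]
    exact hz'
  have hcomp := F.comp_mem hδ hν hδval
  have hψ' := F.comp_mem he₁.2 hcomp (fun z => (e₁.symm z).2)
  obtain ⟨ψ', hψ'def⟩ : ∃ ψ' : ↥(P ⊔ X2) →* Ω, ψ' = (ν.comp (δ.codRestrict (T ⊔ X) hδval)).comp
      (((M ⊔ X).subtype.comp e₁.symm.toMonoidHom).codRestrict (M ⊔ X)
        (fun z => (e₁.symm z).2)) := ⟨_, rfl⟩
  rw [← hψ'def] at hψ'
  have hψ'app : ∀ z : ↥(P ⊔ X2), ψ' z = ν ⟨δ (e₁.symm z), hδval _⟩ := by
    intro z
    rw [hψ'def]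
    rfl
  have hψ'P : ∀ x : P, ψ' (Subgroup.inclusion le_sup_left x) = ε x := by
    intro x
    have hy : ((β⁻¹ ⟨x, hPT x.2⟩ : T) : Ω) ∈ M := (hM _).mpr ⟨x, rfl⟩
    have h1 : e₁.symm (Subgroup.inclusion le_sup_left x)
        = Subgroup.inclusion le_sup_left ⟨_, hy⟩ := by
      rw [MulEquiv.symm_apply_eq]
      apply Subtype.ext
      rw [he₁x]
      exact (hνM x ⟨_, hy⟩ rfl).symm
    rw [hψ'app]
    have h2 : (⟨δ (e₁.symm (Subgroup.inclusion le_sup_left x)), hδval _⟩ : ↥(T ⊔ X))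
        = Subgroup.inclusion le_sup_left (β⁻¹ ⟨ε x, hεT x⟩) := by
      apply Subtype.ext
      show δ (e₁.symm (Subgroup.inclusion le_sup_left x)) = _
      rw [h1, hδM]
      exact hχeq x ⟨_, hy⟩ ⟨ε x, hεT x⟩ rfl rfl
    rw [h2, hββ]
  have hψ'X : ∀ y : X2, ψ' (Subgroup.inclusion le_sup_right y) = y := by
    intro y
    obtain ⟨c, hc⟩ := (hX2 y).mp y.2
    have h1 : e₁.symm (Subgroup.inclusion le_sup_right y) = Subgroup.inclusion le_sup_right c := by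
      rw [MulEquiv.symm_apply_eq]
      apply Subtype.ext
      rw [he₁x]
      exact hc.symm
    rw [hψ'app]
    have h2 : (⟨δ (e₁.symm (Subgroup.inclusion le_sup_right y)), hδval _⟩ : ↥(T ⊔ X))
        = Subgroup.inclusion le_sup_right c := by
      apply Subtype.ext
      show δ (e₁.symm (Subgroup.inclusion le_sup_right y)) = c
      rw [h1, hδX]
    rw [h2, hc]
  have hTcX2 : T ≤ centralizerIn S X2 := by
    intro t ht
    refine Subgroup.mem_inf.mpr ⟨hTS ht, ?_⟩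
    rw [Subgroup.mem_centralizer_iff]
    intro y hy
    have h1 : y ∈ Subgroup.centralizer (T : Set Ω) := (hX2Q hy).2
    exact (Subgroup.mem_centralizer_iff.mp h1 t ht).symm
  exact ⟨hEF P hε, hPT.trans hTcX2, fun x => hTcX2 (hεT x), ψ', hψ', hψ'P, hψ'X⟩

/-- With `Y` the largest subgroup of `C_S(T)` such that `E ≤ C_F(Y)`: every `F`-map on `T ⊔ X`,
`X ≤ Y`, maps `X` into `Y`. -/
theorem cse_tr_le [Finite S] (F : FusionSystem S) {T : Subgroup Ω} (E : FusionSystem T)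
    (hEF : E.IsSubsystemOf F) (hT : F.StronglyClosed T) (hinv : AutInvariant E F)
    {Y : Subgroup Ω} (hY : Y ≤ centralizerIn S T)
    (hEY : ∀ P : Subgroup Ω, E.Hom P ⊆ F.centralizerHom Y P)
    (hmax : ∀ Y' : Subgroup Ω, Y' ≤ centralizerIn S T →
      (∀ P : Subgroup Ω, E.Hom P ⊆ F.centralizerHom Y' P) → Y' ≤ Y)
    {X : Subgroup Ω} (hXY : X ≤ Y) {ν : ↥(T ⊔ X) →* Ω} (hν : ν ∈ F.Hom (T ⊔ X)) (x : X) :
    ν (Subgroup.inclusion le_sup_right x) ∈ Y := by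
  have hX2 : ∀ y : Ω, y ∈ (ν.comp (Subgroup.inclusion (le_sup_right : X ≤ T ⊔ X))).range ↔
      ∃ x : X, ν (Subgroup.inclusion le_sup_right x) = y := fun y => Iff.rfl
  obtain ⟨h1, h2⟩ := cse_tr F E hEF hT hinv (hXY.trans hY)
    (fun P φ hφ => cse_centralizerHom_mono F hXY (hEY P hφ)) hν _ hX2
  exact hmax _ h1 h2 ⟨x, rfl⟩

/-- `Y` is normalized by `S`. -/
theorem cse_Y_normal [Finite S] (F : FusionSystem S) {T : Subgroup Ω} (E : FusionSystem T)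
    (hEF : E.IsSubsystemOf F) (hT : F.StronglyClosed T) (hinv : AutInvariant E F)
    {Y : Subgroup Ω} (hY : Y ≤ centralizerIn S T)
    (hEY : ∀ P : Subgroup Ω, E.Hom P ⊆ F.centralizerHom Y P)
    (hmax : ∀ Y' : Subgroup Ω, Y' ≤ centralizerIn S T →
      (∀ P : Subgroup Ω, E.Hom P ⊆ F.centralizerHom Y' P) → Y' ≤ Y)
    {s y : Ω} (hs : s ∈ S) (hy : y ∈ Y) : s * y * s⁻¹ ∈ Y := by
  have hTYS : T ⊔ Y ≤ S := sup_le hT.1 (hY.trans inf_le_left)
  have h := cse_tr_le F E hEF hT hinv hY hEY hmax le_rfl (F.conj_mem hTYS hs) ⟨y, hy⟩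
  exact h

/-- **Strong closure and extension from the claim.** If every map `ν` of `F` with source `U`,
restricted to `U ⊓ Y`, extends to a map of `F` on `T ⊔ (U ⊓ Y)`, then `Y` is strongly closed in
`F` and every map of `F` on a subgroup `A` of `Y` extends to `A ⊔ T`. -/
theorem cse_closed_of_claim [Finite S] (F : FusionSystem S) {T : Subgroup Ω} (E : FusionSystem T)
    (hEF : E.IsSubsystemOf F) (hT : F.StronglyClosed T) (hinv : AutInvariant E F)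
    {Y : Subgroup Ω} (hY : Y ≤ centralizerIn S T)
    (hEY : ∀ P : Subgroup Ω, E.Hom P ⊆ F.centralizerHom Y P)
    (hmax : ∀ Y' : Subgroup Ω, Y' ≤ centralizerIn S T →
      (∀ P : Subgroup Ω, E.Hom P ⊆ F.centralizerHom Y' P) → Y' ≤ Y)
    (hclaim : ∀ U : Subgroup Ω, U ≤ S → ∀ ν ∈ F.Hom U, ∃ ψ ∈ F.Hom (T ⊔ (U ⊓ Y)),
      ∀ x : ↥(U ⊓ Y), ψ (Subgroup.inclusion le_sup_right x) = ν (Subgroup.inclusion inf_le_left x)) :
    F.StronglyClosed Y ∧ ∀ A : Subgroup Ω, A ≤ Y → ∀ φ ∈ F.Hom A, ∃ ψ ∈ F.Hom (A ⊔ T),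
      ∀ x : A, ψ (Subgroup.inclusion le_sup_left x) = φ x := by
  have hYS : Y ≤ S := hY.trans inf_le_left
  refine ⟨⟨hYS, ?_⟩, ?_⟩
  · intro R hRY φ hφ x
    obtain ⟨ψ, hψ, hψeq⟩ := hclaim R (hRY.trans hYS) φ hφ
    have hx : (x : Ω) ∈ R ⊓ Y := Subgroup.mem_inf.mpr ⟨x.2, hRY x.2⟩
    have h1 := cse_tr_le F E hEF hT hinv hY hEY hmax (inf_le_right : R ⊓ Y ≤ Y) hψ ⟨x, hx⟩
    rw [hψeq] at h1
    exact h1
  · intro A hAY φ hφ
    obtain ⟨ψ, hψ, hψeq⟩ := hclaim A (hAY.trans hYS) φ hφ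
    have hle : A ⊔ T ≤ T ⊔ (A ⊓ Y) := by
      rw [inf_eq_left.mpr hAY, sup_comm]
    refine ⟨ψ.comp (Subgroup.inclusion hle), restrict_mem F hle hψ, fun x => ?_⟩
    have hx : (x : Ω) ∈ A ⊓ Y := Subgroup.mem_inf.mpr ⟨x.2, hAY x.2⟩
    exact hψeq ⟨x, hx⟩

end Cfsg.Agent.Lib.helper90
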