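import Mathlib
import Cfsg.Agent.Lib.helper9.Srg77Defs

/-!
S0429, piece B: in a strongly regular graph with parameters (77, 16, 0, 4), two non-adjacent
vertices `x`, `y` have exactly three vertices `z` (non-adjacent to both) such that `x`, `y`, `z`
have no common neighbour.
-/

set_option autoImplicit false

namespace Cfsg.Agent.Lib.helper90

open Finset Cfsg.Agent.Lib.helper9

variable {V : Type*} [Fintype V] [DecidableEq V] {G : SimpleGraph V} [DecidableRel G.Adj]

theorem s77b_arith (c : ℕ) (hc : c ≤ 2) :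
    c * c + 2 = 3 * c + 2 * (if c = 0 then 1 else 0) := by
  interval_cases c <;> simp

theorem card_zset (h : Srg77 G)
    (hA : ∀ x y z : V, Triad G x y z → (nbr G x ∩ nbr G y ∩ nbr G z).card ≤ 2)
    {x y : V} (hne : x ≠ y) (hxy : ¬ G.Adj x y) : (zset G x y).card = 3 := by
  classical
  obtain ⟨T, hT⟩ : ∃ T : Finset V, T = Finset.univ.filter
      (fun z => z ≠ x ∧ z ≠ y ∧ ¬ G.Adj x z ∧ ¬ G.Adj y z) := ⟨_, rfl⟩
  obtain ⟨D, hD⟩ : ∃ D : Finset V, D = nbr G x ∩ nbr G y := ⟨_, rfl⟩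
  have hDcard : D.card = 4 := hD ▸ h.mu x y hne hxy
  have hmemT : ∀ z, z ∈ T ↔ z ≠ x ∧ z ≠ y ∧ ¬ G.Adj x z ∧ ¬ G.Adj y z := by
    intro z
    rw [hT, Finset.mem_filter]
    simp
  have hmemD : ∀ w, w ∈ D ↔ G.Adj x w ∧ G.Adj y w := by
    intro w
    rw [hD, Finset.mem_inter, mem_nbr, mem_nbr]
  -- the complement of `T`
  have hyx : ¬ G.Adj y x := fun hh => hxy hh.symm
  have hU : (nbr G x ∪ nbr G y).card = 28 := by
    have h1 := Finset.card_union_add_card_inter (nbr G x) (nbr G y)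
    rw [h.deg, h.deg, h.mu x y hne hxy] at h1
    omega
  have hy' : y ∉ nbr G x ∪ nbr G y := by
    rw [Finset.mem_union, mem_nbr, mem_nbr]
    rintro (h1 | h1)
    · exact hxy h1
    · exact G.loopless.irrefl y h1
  have hx' : x ∉ insert y (nbr G x ∪ nbr G y) := by
    rw [Finset.mem_insert, Finset.mem_union, mem_nbr, mem_nbr]
    rintro (h1 | h1 | h1)
    · exact hne h1
    · exact G.loopless.irrefl x h1
    · exact hyx h1
  have hcompl : Finset.univ.filter
      (fun z => ¬ (z ≠ x ∧ z ≠ y ∧ ¬ G.Adj x z ∧ ¬ G.Adj y z))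
      = insert x (insert y (nbr G x ∪ nbr G y)) := by
    ext z
    rw [Finset.mem_filter, Finset.mem_insert, Finset.mem_insert, Finset.mem_union, mem_nbr,
      mem_nbr]
    simp only [Finset.mem_univ, true_and]
    tauto
  have hTcard : T.card = 47 := by
    have h1 := Finset.card_filter_add_card_filter_not (s := (Finset.univ : Finset V))
      (fun z => z ≠ x ∧ z ≠ y ∧ ¬ G.Adj x z ∧ ¬ G.Adj y z)
    rw [← hT, hcompl, Finset.card_insert_of_notMem hx', Finset.card_insert_of_notMem hy', hU,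
      Finset.card_univ, h.card] at h1
    omega
  -- neighbours of `w ∈ D` inside `T`
  have hST : ∀ w ∈ D, ∀ S : Finset V, S ⊆ nbr G w → S ∩ T = (S.erase x).erase y := by
    intro w hw S hS
    obtain ⟨hxw, hyw⟩ := (hmemD w).1 hw
    ext u
    rw [Finset.mem_inter, hmemT, Finset.mem_erase, Finset.mem_erase]
    constructor
    · rintro ⟨huS, hux, huy, -, -⟩
      exact ⟨huy, hux, huS⟩
    · rintro ⟨huy, hux, huS⟩
      have hwu : G.Adj w u := mem_nbr.1 (hS huS)
      exact ⟨huS, hux, huy, h.tri w x u hxw.symm hwu, h.tri w y u hyw.symm hwu⟩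
  have h14 : ∀ w ∈ D, (nbr G w ∩ T).card = 14 := by
    intro w hw
    obtain ⟨hxw, hyw⟩ := (hmemD w).1 hw
    rw [hST w hw (nbr G w) (Finset.Subset.refl _)]
    have hxm : x ∈ nbr G w := mem_nbr.2 hxw.symm
    have hym : y ∈ (nbr G w).erase x :=
      Finset.mem_erase.2 ⟨fun hh => hne hh.symm, mem_nbr.2 hyw.symm⟩
    rw [Finset.card_erase_of_mem hym, Finset.card_erase_of_mem hxm, h.deg]
  have h2 : ∀ w ∈ D, ∀ w' ∈ D, w ≠ w' → (nbr G w ∩ nbr G w' ∩ T).card = 2 := by
    intro w hw w' hw' hww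
    obtain ⟨hxw, hyw⟩ := (hmemD w).1 hw
    obtain ⟨hxw', hyw'⟩ := (hmemD w').1 hw'
    rw [hST w hw (nbr G w ∩ nbr G w') Finset.inter_subset_left]
    have hnadj : ¬ G.Adj w w' := h.tri x w w' hxw hxw'
    have hxm : x ∈ nbr G w ∩ nbr G w' :=
      Finset.mem_inter.2 ⟨mem_nbr.2 hxw.symm, mem_nbr.2 hxw'.symm⟩
    have hym : y ∈ (nbr G w ∩ nbr G w').erase x :=
      Finset.mem_erase.2 ⟨fun hh => hne hh.symm,
        Finset.mem_inter.2 ⟨mem_nbr.2 hyw.symm, mem_nbr.2 hyw'.symm⟩⟩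
    rw [Finset.card_erase_of_mem hym, Finset.card_erase_of_mem hxm, h.mu w w' hww hnadj]
  -- first moment
  have hsum1 : ∑ z ∈ T, (nbr G z ∩ D).card = 56 := by
    rw [sum_card_nbr_inter T D, Finset.sum_congr rfl h14, Finset.sum_const, hDcard]
    rfl
  -- second moment
  have hsum2 : ∑ z ∈ T, (nbr G z ∩ D).card * (nbr G z ∩ D).card = 80 := by
    rw [sum_card_mul_card T D D]
    have hin : ∀ w ∈ D, ∑ w' ∈ D, (nbr G w ∩ nbr G w' ∩ T).card = 20 := by
      intro w hw
      have h3 : ∀ w' ∈ D, (nbr G w ∩ nbr G w' ∩ T).card = 2 + (if w = w' then 12 else 0) := by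
        intro w' hw'
        by_cases hww : w = w'
        · subst hww
          rw [if_pos rfl, Finset.inter_self, h14 w hw]
        · rw [if_neg hww, h2 w hw w' hw' hww]
      rw [Finset.sum_congr rfl h3, Finset.sum_add_distrib, Finset.sum_const, hDcard,
        Finset.sum_ite_eq, if_pos hw]
      rfl
    rw [Finset.sum_congr rfl hin, Finset.sum_const, hDcard]
    rfl
  -- the bound `c ≤ 2` on `T`
  have hle : ∀ z ∈ T, (nbr G z ∩ D).card ≤ 2 := by
    intro z hz
    obtain ⟨hzx, hzy, hxz, hyz⟩ := (hmemT z).1 hz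
    have h1 := hA x y z ⟨hne, fun hh => hzx hh.symm, fun hh => hzy hh.symm, hxy, hxz, hyz⟩
    rw [Finset.inter_comm, hD]
    exact h1
  -- `zset` as a filter of `T`
  have hz : zset G x y = T.filter (fun z => (nbr G z ∩ D).card = 0) := by
    ext z
    rw [mem_zset, Finset.mem_filter, hmemT, Finset.card_eq_zero, hD,
      Finset.inter_comm (nbr G z) (nbr G x ∩ nbr G y)]
    tauto
  have hfin : ∑ z ∈ T, ((nbr G z ∩ D).card * (nbr G z ∩ D).card + 2)
      = ∑ z ∈ T, (3 * (nbr G z ∩ D).card + 2 * (if (nbr G z ∩ D).card = 0 then 1 else 0)) :=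
    Finset.sum_congr rfl fun z hzT => s77b_arith _ (hle z hzT)
  rw [Finset.sum_add_distrib, Finset.sum_add_distrib, ← Finset.mul_sum, ← Finset.mul_sum,
    hsum1, hsum2, Finset.sum_const, hTcard, ← Finset.card_filter, ← hz] at hfin
  simp only [smul_eq_mul] at hfin
  omega

end Cfsg.Agent.Lib.helper90
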