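import Mathlib

/-!
A chain of fully invariant subgroups with cyclic steps in a finite abelian `p`-group whose socle
layers `Ω₁(A) ∩ A^(p^j)` drop by at most `p` at each step (helper90).
-/

set_option autoImplicit false

namespace Cfsg.Agent.Lib.helper90

section chain

variable {A : Type*} [CommGroup A] (p : ℕ)

/-- `Ω₁(A) ∩ A^(p^j)`: the elements of order dividing `p` that are `p^j`-th powers. -/
def socleLayer (A : Type*) [CommGroup A] (p j : ℕ) : Subgroup A :=
  (powMonoidHom p : A →* A).ker ⊓ (powMonoidHom (p ^ j) : A →* A).range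

/-- The elements `x` with `x^(p^(i+1)) = 1` whose `p^i`-th power is a `p^j`-th power. -/
def chainSub (A : Type*) [CommGroup A] (p i j : ℕ) : Subgroup A :=
  (powMonoidHom (p ^ (i + 1)) : A →* A).ker ⊓
    ((powMonoidHom (p ^ j) : A →* A).range).comap (powMonoidHom (p ^ i) : A →* A)

theorem mem_socleLayer {j : ℕ} {x : A} :
    x ∈ socleLayer A p j ↔ x ^ p = 1 ∧ ∃ y : A, y ^ (p ^ j) = x := by
  unfold socleLayer
  rw [Subgroup.mem_inf, MonoidHom.mem_ker, powMonoidHom_apply, MonoidHom.mem_range]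
  rfl

theorem mem_chainSub {i j : ℕ} {x : A} :
    x ∈ chainSub A p i j ↔ x ^ (p ^ (i + 1)) = 1 ∧ ∃ y : A, y ^ (p ^ j) = x ^ (p ^ i) := by
  unfold chainSub
  rw [Subgroup.mem_inf, MonoidHom.mem_ker, powMonoidHom_apply, Subgroup.mem_comap,
    MonoidHom.mem_range]
  rfl

theorem map_mem_chainSub {i j : ℕ} (α : A →* A) {x : A} (hx : x ∈ chainSub A p i j) :
    α x ∈ chainSub A p i j := by
  rw [mem_chainSub] at hx ⊢
  obtain ⟨h1, y, hy⟩ := hx
  refine ⟨by rw [← map_pow, h1, map_one], α y, by rw [← map_pow, hy, map_pow]⟩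

theorem chainSub_anti (i j : ℕ) : chainSub A p i (j + 1) ≤ chainSub A p i j := by
  intro x hx
  rw [mem_chainSub] at hx ⊢
  obtain ⟨h1, y, hy⟩ := hx
  exact ⟨h1, y ^ p, by rw [← pow_mul, mul_comm, ← pow_succ, hy]⟩

theorem relIndex_ne_zero_of_finite [Finite A] (H K : Subgroup A) : H.relIndex K ≠ 0 :=
  Subgroup.index_ne_zero_of_finite

theorem relIndex_chainSub_le [Finite A] (i j : ℕ) :
    (chainSub A p i (j + 1)).relIndex (chainSub A p i j) ≤
      (socleLayer A p (j + 1)).relIndex (socleLayer A p j) := by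
  have ha : chainSub A p i j ⊓ (socleLayer A p (j + 1)).comap (powMonoidHom (p ^ i) : A →* A) ≤
      chainSub A p i (j + 1) := by
    intro x hx
    obtain ⟨h1, h2⟩ := Subgroup.mem_inf.mp hx
    rw [mem_chainSub] at h1 ⊢
    rw [Subgroup.mem_comap, mem_socleLayer, powMonoidHom_apply] at h2
    exact ⟨h1.1, h2.2⟩
  have hb : (chainSub A p i j).map (powMonoidHom (p ^ i) : A →* A) ≤ socleLayer A p j := by
    rintro _ ⟨x, hx, rfl⟩
    have hx' := (mem_chainSub p).mp hx
    rw [mem_socleLayer, powMonoidHom_apply]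
    refine ⟨by rw [← pow_mul, ← pow_succ]; exact hx'.1, hx'.2⟩
  calc (chainSub A p i (j + 1)).relIndex (chainSub A p i j)
      ≤ (chainSub A p i j ⊓ (socleLayer A p (j + 1)).comap
          (powMonoidHom (p ^ i) : A →* A)).relIndex (chainSub A p i j) :=
        Subgroup.relIndex_le_of_le_left ha (relIndex_ne_zero_of_finite _ _)
    _ = ((socleLayer A p (j + 1)).comap (powMonoidHom (p ^ i) : A →* A)).relIndex
          (chainSub A p i j) := Subgroup.inf_relIndex_left _ _
    _ = (socleLayer A p (j + 1)).relIndex ((chainSub A p i j).map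
          (powMonoidHom (p ^ i) : A →* A)) := Subgroup.relIndex_comap _ _ _
    _ ≤ (socleLayer A p (j + 1)).relIndex (socleLayer A p j) :=
        Subgroup.relIndex_le_of_le_right hb (relIndex_ne_zero_of_finite _ _)

/-- In a finite `p`-group, a subgroup of relative index at most `p` is a cyclic step below. -/
theorem exists_sup_zpowers_of_relIndex_le {G : Type*} [Group G] [Finite G] [Fact p.Prime]
    (hG : IsPGroup p G) {H K : Subgroup G} (hHK : H ≤ K) (h : H.relIndex K ≤ p) :
    ∃ x : G, K = H ⊔ Subgroup.zpowers x := by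
  have hp : p.Prime := Fact.out
  by_cases hKH : K ≤ H
  · refine ⟨1, ?_⟩
    rw [Subgroup.zpowers_one_eq_bot, sup_bot_eq]
    exact le_antisymm hKH hHK
  obtain ⟨x, hxK, hxH⟩ := SetLike.not_le_iff_exists.mp hKH
  refine ⟨x, ?_⟩
  have hHL : H ≤ H ⊔ Subgroup.zpowers x := le_sup_left
  have hLK : H ⊔ Subgroup.zpowers x ≤ K := sup_le hHK ((Subgroup.zpowers_le).mpr hxK)
  have h1 := Subgroup.relIndex_mul_relIndex H _ K hHL hLK
  have h2 : H.relIndex (H ⊔ Subgroup.zpowers x) ≠ 1 := by
    intro h2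
    apply hxH
    exact (Subgroup.relIndex_eq_one.mp h2) (Subgroup.mem_sup_right (Subgroup.mem_zpowers x))
  obtain ⟨n, hn⟩ := (hG.to_subgroup (H ⊔ Subgroup.zpowers x)).index
    (H.subgroupOf (H ⊔ Subgroup.zpowers x))
  have hn' : H.relIndex (H ⊔ Subgroup.zpowers x) = p ^ n := hn
  have hn0 : n ≠ 0 := by
    rintro rfl
    exact h2 (by rw [hn', pow_zero])
  have h3 : p ≤ H.relIndex (H ⊔ Subgroup.zpowers x) := by
    rw [hn']
    exact Nat.le_self_pow hn0 p
  have h4 : (H ⊔ Subgroup.zpowers x).relIndex K ≠ 0 := Subgroup.index_ne_zero_of_finite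
  have h5 : (H ⊔ Subgroup.zpowers x).relIndex K = 1 := by
    by_contra h5
    have h6 : 2 ≤ (H ⊔ Subgroup.zpowers x).relIndex K := by omega
    have h7 : p * 2 ≤ H.relIndex (H ⊔ Subgroup.zpowers x) * (H ⊔ Subgroup.zpowers x).relIndex K :=
      Nat.mul_le_mul h3 h6
    have := hp.pos
    omega
  exact le_antisymm (Subgroup.relIndex_eq_one.mp h5) hLK

/-- **The chain.** -/
theorem exists_invariant_chain [Finite A] [Fact p.Prime] (hA : IsPGroup p A) (e : ℕ)
    (he : ∀ x : A, x ^ (p ^ e) = 1)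
    (hU : ∀ j, (socleLayer A p (j + 1)).relIndex (socleLayer A p j) ≤ p) :
    ∃ (m : ℕ) (D : Fin (m + 1) → Subgroup A), D 0 = ⊥ ∧ D (Fin.last m) = ⊤ ∧
      (∀ (i : Fin (m + 1)) (α : A →* A), ∀ x ∈ D i, α x ∈ D i) ∧
      ∀ i : Fin m, D i.castSucc ≤ D i.succ ∧
        ∃ x : A, D i.succ = D i.castSucc ⊔ Subgroup.zpowers x := by
  have hstep : ∀ i j : ℕ, chainSub A p i (j + 1) ≤ chainSub A p i j ∧
      ∃ x : A, chainSub A p i j = chainSub A p i (j + 1) ⊔ Subgroup.zpowers x := by
    intro i j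
    exact ⟨chainSub_anti p i j, exists_sup_zpowers_of_relIndex_le p hA (chainSub_anti p i j)
      ((relIndex_chainSub_le p i j).trans (hU j))⟩
  rcases Nat.eq_zero_or_pos e with he0 | hepos
  · have htriv : ∀ x : A, x = 1 := by
      intro x
      have := he x
      rwa [he0, pow_zero, pow_one] at this
    refine ⟨0, fun _ => ⊥, rfl, ?_, ?_, fun i => i.elim0⟩
    · show (⊥ : Subgroup A) = ⊤
      rw [eq_top_iff]
      intro x _
      rw [htriv x]
      exact Subgroup.one_mem _
    · intro i α x hx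
      rw [Subgroup.mem_bot] at hx ⊢
      rw [hx, map_one]
  refine ⟨e * e, fun t => chainSub A p (t.val / e) (e - t.val % e), ?_, ?_, ?_, ?_⟩
  · show chainSub A p ((0 : Fin (e * e + 1)).val / e) (e - (0 : Fin (e * e + 1)).val % e) = ⊥
    rw [Fin.val_zero, Nat.zero_div, Nat.zero_mod, Nat.sub_zero, eq_bot_iff]
    intro x hx
    obtain ⟨-, y, hy⟩ := (mem_chainSub p).mp hx
    rw [pow_zero, pow_one, he y] at hy
    rw [Subgroup.mem_bot, ← hy]
  · show chainSub A p ((Fin.last (e * e)).val / e) (e - (Fin.last (e * e)).val % e) = ⊤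
    rw [Fin.val_last, Nat.mul_div_cancel_left _ hepos, Nat.mul_mod_right, Nat.sub_zero, eq_top_iff]
    intro x _
    rw [mem_chainSub]
    exact ⟨by rw [pow_succ, pow_mul, he, one_pow], x, rfl⟩
  · intro i α x hx
    exact map_mem_chainSub p α hx
  · intro i
    show chainSub A p (i.castSucc.val / e) (e - i.castSucc.val % e) ≤
        chainSub A p (i.succ.val / e) (e - i.succ.val % e) ∧
      ∃ x : A, chainSub A p (i.succ.val / e) (e - i.succ.val % e) =
        chainSub A p (i.castSucc.val / e) (e - i.castSucc.val % e) ⊔ Subgroup.zpowers x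
    rw [Fin.val_castSucc, Fin.val_succ]
    obtain ⟨t, ht⟩ := i
    show chainSub A p (t / e) (e - t % e) ≤ chainSub A p ((t + 1) / e) (e - (t + 1) % e) ∧
      ∃ x : A, chainSub A p ((t + 1) / e) (e - (t + 1) % e) =
        chainSub A p (t / e) (e - t % e) ⊔ Subgroup.zpowers x
    have hs : t % e < e := Nat.mod_lt _ hepos
    have hdm : e * (t / e) + t % e = t := Nat.div_add_mod t e
    have ht1 : t + 1 = e * (t / e) + (t % e + 1) := by omega
    by_cases hs1 : t % e + 1 < e
    · have h1 : (t + 1) / e = t / e := by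
        rw [ht1, Nat.mul_add_div hepos, Nat.div_eq_of_lt hs1, Nat.add_zero]
      have h2 : (t + 1) % e = t % e + 1 := by
        rw [ht1, Nat.mul_add_mod, Nat.mod_eq_of_lt hs1]
      rw [h1, h2]
      have h3 : e - t % e = (e - (t % e + 1)) + 1 := by omega
      rw [h3]
      exact hstep _ _
    · have hse : t % e + 1 = e := by omega
      have h1 : (t + 1) / e = t / e + 1 := by
        rw [ht1, hse, Nat.mul_add_div hepos, Nat.div_self hepos]
      have h2 : (t + 1) % e = 0 := by
        rw [ht1, hse, Nat.mul_add_mod, Nat.mod_self]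
      rw [h1, h2, Nat.sub_zero]
      have h3 : e - t % e = 0 + 1 := by omega
      rw [h3]
      have h4 : chainSub A p (t / e + 1) e = chainSub A p (t / e) 0 := by
        ext x
        rw [mem_chainSub, mem_chainSub]
        constructor
        · rintro ⟨-, y, hy⟩
          rw [he y] at hy
          exact ⟨hy.symm, x ^ p ^ (t / e), by rw [pow_zero, pow_one]⟩
        · rintro ⟨h, -⟩
          exact ⟨by rw [pow_succ, pow_mul, h, one_pow], 1, by rw [one_pow, h]⟩
      rw [h4]
      exact hstep _ _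

end chain

end Cfsg.Agent.Lib.helper90
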