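import Mathlib
import Cfsg.Agent.Lib.helper90.AbChain

/-!
The socle layers `Ω₁(A) ∩ A^(p^j)` of a finite abelian `p`-group with pairwise distinct invariants
drop by at most `p` at each step (helper90).
-/

set_option autoImplicit false

namespace Cfsg.Agent.Lib.helper90

section layer

theorem card_powKer_le_of_cyclic {C : Type*} [CommGroup C] [IsCyclic C] [Finite C] {p : ℕ}
    (hp : 0 < p) : Nat.card (powMonoidHom p : C →* C).ker ≤ p := by
  classical
  have := Fintype.ofFinite C
  have h := IsCyclic.card_pow_eq_one_le (α := C) hp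
  have e : (powMonoidHom p : C →* C).ker ≃ {a : C // a ^ p = 1} :=
    Equiv.subtypeEquivRight (fun a => by rw [MonoidHom.mem_ker, powMonoidHom_apply])
  rw [Nat.card_congr e, Nat.card_eq_fintype_card, Fintype.card_subtype]
  exact h

/-- In a cyclic group of order `p^a` with `a ≠ j + 1`, an element of order dividing `p` that is a
`p^j`-th power is a `p^(j+1)`-th power. -/
theorem exists_pow_succ_of_cyclic {B : Type*} [CommGroup B] [IsCyclic B] [Finite B] {p a j : ℕ}
    (hp : p.Prime) (hcard : Nat.card B = p ^ a) (haj : a ≠ j + 1) {x y : B} (hx : x ^ p = 1)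
    (hy : y ^ (p ^ j) = x) : ∃ w : B, w ^ (p ^ (j + 1)) = x := by
  rcases Nat.lt_or_ge a (j + 1) with h | h
  · have hx1 : x = 1 := by
      rw [← hy]
      have h1 : y ^ (p ^ a) = 1 := by rw [← hcard]; exact pow_card_eq_one'
      obtain ⟨d, rfl⟩ : ∃ d, j = a + d := ⟨j - a, by omega⟩
      rw [pow_add, pow_mul, h1, one_pow]
    exact ⟨1, by rw [one_pow, hx1]⟩
  · have h2 : j + 2 ≤ a := by omega
    obtain ⟨g, hg⟩ := IsCyclic.exists_generator (α := B)
    have hord : orderOf g = p ^ a := by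
      rw [← hcard]; exact orderOf_eq_card_of_forall_mem_zpowers hg
    obtain ⟨n, hn⟩ : ∃ n : ℕ, g ^ n = y := by
      have := hg y
      rw [← mem_powers_iff_mem_zpowers] at this
      exact this
    have h3 : p ^ a ∣ n * p ^ (j + 1) := by
      rw [← hord]
      apply orderOf_dvd_of_pow_eq_one
      rw [pow_mul, hn, pow_succ, pow_mul, hy, hx]
    have h4 : p ∣ n := by
      obtain ⟨d, rfl⟩ : ∃ d, a = (j + 1) + (d + 1) := ⟨a - j - 2, by omega⟩
      rw [pow_add, mul_comm n] at h3
      have h5 := Nat.dvd_of_mul_dvd_mul_left (pow_pos hp.pos _) h3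
      exact (dvd_pow_self p (Nat.succ_ne_zero d)).trans h5
    obtain ⟨n', rfl⟩ := h4
    refine ⟨g ^ n', ?_⟩
    rw [← hy, ← hn, ← pow_mul, ← pow_mul, pow_succ]
    congr 1
    ring

theorem relIndex_socleLayer_pi_le {ι : Type*} [Finite ι] {B : ι → Type*} [∀ k, CommGroup (B k)]
    [∀ k, IsCyclic (B k)] [∀ k, Finite (B k)] {p : ℕ} (hp : p.Prime) (a : ι → ℕ)
    (hcard : ∀ k, Nat.card (B k) = p ^ a k) (hinj : Function.Injective a) (j : ℕ) :
    (socleLayer (∀ k, B k) p (j + 1)).relIndex (socleLayer (∀ k, B k) p j) ≤ p := by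
  classical
  by_cases hk : ∃ k₀, a k₀ = j + 1
  · obtain ⟨k₀, hk₀⟩ := hk
    have hle : socleLayer (∀ k, B k) p j ⊓ (Pi.evalMonoidHom B k₀).ker ≤
        socleLayer (∀ k, B k) p (j + 1) := by
      intro x hx
      obtain ⟨h1, h2⟩ := Subgroup.mem_inf.mp hx
      rw [mem_socleLayer] at h1 ⊢
      obtain ⟨hxp, y, hy⟩ := h1
      refine ⟨hxp, ?_⟩
      have hw : ∀ k, ∃ w : B k, w ^ (p ^ (j + 1)) = x k := by
        intro k
        by_cases hkk : k = k₀
        · subst hkk
          refine ⟨1, ?_⟩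
          rw [one_pow]
          exact (MonoidHom.mem_ker.mp h2).symm
        · have hne : a k ≠ j + 1 := fun h => hkk (hinj (h.trans hk₀.symm))
          exact exists_pow_succ_of_cyclic hp (hcard k) hne (congrFun hxp k) (congrFun hy k)
      choose w hw using hw
      exact ⟨w, funext hw⟩
    have hmap : (socleLayer (∀ k, B k) p j).map (Pi.evalMonoidHom B k₀) ≤
        (powMonoidHom p : B k₀ →* B k₀).ker := by
      rintro _ ⟨x, hx, rfl⟩
      have hx' : x ∈ socleLayer (∀ k, B k) p j := hx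
      rw [mem_socleLayer] at hx'
      rw [MonoidHom.mem_ker, powMonoidHom_apply]
      exact congrFun hx'.1 k₀
    calc (socleLayer (∀ k, B k) p (j + 1)).relIndex (socleLayer (∀ k, B k) p j)
        ≤ (socleLayer (∀ k, B k) p j ⊓ (Pi.evalMonoidHom B k₀).ker).relIndex
            (socleLayer (∀ k, B k) p j) :=
          Subgroup.relIndex_le_of_le_left hle (relIndex_ne_zero_of_finite _ _)
      _ = ((Pi.evalMonoidHom B k₀).ker).relIndex (socleLayer (∀ k, B k) p j) :=
          Subgroup.inf_relIndex_left _ _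
      _ = Nat.card ((socleLayer (∀ k, B k) p j).map (Pi.evalMonoidHom B k₀)) :=
          Subgroup.relIndex_ker _ _
      _ ≤ Nat.card (powMonoidHom p : B k₀ →* B k₀).ker := Subgroup.card_le_of_le hmap
      _ ≤ p := card_powKer_le_of_cyclic hp.pos
  · have hle : socleLayer (∀ k, B k) p j ≤ socleLayer (∀ k, B k) p (j + 1) := by
      intro x h1
      rw [mem_socleLayer] at h1 ⊢
      obtain ⟨hxp, y, hy⟩ := h1
      refine ⟨hxp, ?_⟩
      have hw : ∀ k, ∃ w : B k, w ^ (p ^ (j + 1)) = x k := by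
        intro k
        have hne : a k ≠ j + 1 := fun h => hk ⟨k, h⟩
        exact exists_pow_succ_of_cyclic hp (hcard k) hne (congrFun hxp k) (congrFun hy k)
      choose w hw using hw
      exact ⟨w, funext hw⟩
    rw [Subgroup.relIndex_eq_one.mpr hle]
    exact hp.one_lt.le

theorem socleLayer_comap_equiv {A P : Type*} [CommGroup A] [CommGroup P] (e : A ≃* P) (p j : ℕ) :
    (socleLayer P p j).comap e.toMonoidHom = socleLayer A p j := by
  ext x
  rw [Subgroup.mem_comap, mem_socleLayer, mem_socleLayer]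
  constructor
  · rintro ⟨h1, y, hy⟩
    refine ⟨e.injective (by rw [map_pow, map_one]; exact h1), e.symm y,
      e.injective (by rw [map_pow, e.apply_symm_apply]; exact hy)⟩
  · rintro ⟨h1, y, hy⟩
    exact ⟨by show e x ^ p = 1; rw [← map_pow, h1, map_one], e y,
      by show e y ^ _ = e x; rw [← map_pow, hy]⟩

theorem relIndex_socleLayer_congr {A P : Type*} [CommGroup A] [CommGroup P] (e : A ≃* P)
    (p j : ℕ) : (socleLayer A p (j + 1)).relIndex (socleLayer A p j) =
      (socleLayer P p (j + 1)).relIndex (socleLayer P p j) := by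
  rw [← socleLayer_comap_equiv e p (j + 1), ← socleLayer_comap_equiv e p j,
    Subgroup.relIndex_comap, Subgroup.map_comap_eq_self_of_surjective e.surjective]

theorem exists_prod_of_pi {ι : Type*} [DecidableEq ι] {B : ι → Type*} [∀ k, CommGroup (B k)]
    {k₁ k₂ : ι} (hne : k₁ ≠ k₂) :
    Nonempty ((∀ k, B k) ≃* (B k₁ × B k₂) ×
      ↥((Pi.evalMonoidHom B k₁).ker ⊓ (Pi.evalMonoidHom B k₂).ker)) := by
  obtain ⟨K, hK⟩ : ∃ K : Subgroup (∀ k, B k),
      K = (Pi.evalMonoidHom B k₁).ker ⊓ (Pi.evalMonoidHom B k₂).ker := ⟨_, rfl⟩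
  rw [← hK]
  have hKmem : ∀ z : ∀ k, B k, z ∈ K ↔ z k₁ = 1 ∧ z k₂ = 1 := by
    intro z
    rw [hK, Subgroup.mem_inf, MonoidHom.mem_ker, MonoidHom.mem_ker]
    rfl
  let Φ : (B k₁ × B k₂) × K →* (∀ k, B k) :=
    ((MonoidHom.mulSingle B k₁).coprod (MonoidHom.mulSingle B k₂)).coprod K.subtype
  have hΦ : ∀ (b₁ : B k₁) (b₂ : B k₂) (z : K), Φ ((b₁, b₂), z) =
      Pi.mulSingle k₁ b₁ * Pi.mulSingle k₂ b₂ * (z : ∀ k, B k) := fun _ _ _ => rfl
  have hinj : Function.Injective Φ := by
    rw [injective_iff_map_eq_one]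
    rintro ⟨⟨b₁, b₂⟩, z⟩ h
    rw [hΦ] at h
    obtain ⟨hz1, hz2⟩ := (hKmem _).mp z.2
    have e1 := congrFun h k₁
    have e2 := congrFun h k₂
    simp only [Pi.mul_apply, Pi.mulSingle_eq_same, Pi.mulSingle_eq_of_ne hne,
      Pi.mulSingle_eq_of_ne hne.symm, hz1, hz2, mul_one, one_mul, Pi.one_apply] at e1 e2
    subst e1
    subst e2
    simp only [Pi.mulSingle_one, one_mul] at h
    have hz : z = 1 := Subtype.ext h
    rw [hz]
    rfl
  have hsurj : Function.Surjective Φ := by
    intro x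
    have hz : x * (Pi.mulSingle k₁ (x k₁))⁻¹ * (Pi.mulSingle k₂ (x k₂))⁻¹ ∈ K := by
      rw [hKmem]
      simp only [Pi.mul_apply, Pi.inv_apply, Pi.mulSingle_eq_same, Pi.mulSingle_eq_of_ne hne,
        Pi.mulSingle_eq_of_ne hne.symm, inv_one, mul_one, mul_inv_cancel, and_self]
    refine ⟨((x k₁, x k₂), ⟨_, hz⟩), ?_⟩
    rw [hΦ]
    show Pi.mulSingle k₁ (x k₁) * Pi.mulSingle k₂ (x k₂) *
      (x * (Pi.mulSingle k₁ (x k₁))⁻¹ * (Pi.mulSingle k₂ (x k₂))⁻¹) = x
    generalize Pi.mulSingle k₁ (x k₁) = u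
    generalize Pi.mulSingle k₂ (x k₂) = v
    calc u * v * (x * u⁻¹ * v⁻¹) = x * (u * u⁻¹) * (v * v⁻¹) := by ac_rfl
      _ = x := by rw [mul_inv_cancel, mul_inv_cancel, mul_one, mul_one]
  exact ⟨(MulEquiv.ofBijective Φ ⟨hinj, hsurj⟩).symm⟩

/-- **The layers.** A finite abelian `p`-group without a direct factor `Z/p^n × Z/p^n` has socle
layers dropping by at most `p`. -/
theorem relIndex_socleLayer_le {A : Type*} [CommGroup A] [Finite A] {p : ℕ} [Fact p.Prime]
    (hA : IsPGroup p A)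
    (hno : ¬ ∃ (n : ℕ) (H : Type) (_ : CommGroup H), 0 < n ∧
      Nonempty (A ≃* (Multiplicative (ZMod (p ^ n)) × Multiplicative (ZMod (p ^ n))) × H))
    (j : ℕ) : (socleLayer A p (j + 1)).relIndex (socleLayer A p j) ≤ p := by
  classical
  have hp : p.Prime := Fact.out
  obtain ⟨ι, _, n, hn1, ⟨e⟩⟩ := CommGroup.equiv_prod_multiplicative_zmod_of_finite A
  have hcardB : ∀ k, Nat.card (Multiplicative (ZMod (n k))) = n k := fun k => by
    rw [Nat.card_congr Multiplicative.toAdd, Nat.card_zmod]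
  have hfin : ∀ k, Finite (Multiplicative (ZMod (n k))) := fun k => by
    have : NeZero (n k) := ⟨by have := hn1 k; omega⟩
    infer_instance
  have hpg : ∀ k, IsPGroup p (Multiplicative (ZMod (n k))) := fun k =>
    IsPGroup.of_injective hA (e.symm.toMonoidHom.comp
        (MonoidHom.mulSingle (fun i => Multiplicative (ZMod (n i))) k))
      (by
        intro b b' h
        exact Pi.mulSingle_injective k (e.symm.injective h))
  have hex : ∀ k, ∃ a, n k = p ^ a := fun k => by
    obtain ⟨a, ha⟩ := IsPGroup.iff_card.mp (hpg k)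
    exact ⟨a, by rw [← hcardB k]; exact ha⟩
  choose a ha using hex
  have hinj : Function.Injective a := by
    intro k₁ k₂ h12
    by_contra hne
    apply hno
    obtain ⟨Φ⟩ := exists_prod_of_pi (B := fun k => Multiplicative (ZMod (n k))) hne
    have h1 : n k₁ = p ^ a k₁ := ha k₁
    have h2 : n k₂ = p ^ a k₁ := by rw [h12]; exact ha k₂
    refine ⟨a k₁, _, inferInstance, ?_, ⟨(e.trans Φ).trans (MulEquiv.prodCongr
      (MulEquiv.prodCongr (ZMod.ringEquivCongr h1).toAddEquiv.toMultiplicative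
        (ZMod.ringEquivCongr h2).toAddEquiv.toMultiplicative) (MulEquiv.refl _))⟩⟩
    rcases Nat.eq_zero_or_pos (a k₁) with h0 | h0
    · have := hn1 k₁
      rw [h1, h0, pow_zero] at this
      omega
    · exact h0
  rw [relIndex_socleLayer_congr e]
  exact relIndex_socleLayer_pi_le hp a (fun k => by rw [hcardB, ha]) hinj j

end layer

end Cfsg.Agent.Lib.helper90
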