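import Mathlib
import Cfsg.Prelude.Def_FusionSystem
import Cfsg.Agent.Lib.helper89.AutSystem
import Cfsg.Agent.Lib.helper85.RootInv
import Cfsg.Agent.Lib.helper90.AbelianFusion

/-!
Saturated fusion systems over abelian `p`-groups and chains of strongly closed subgroups with
cyclic steps (helper90).

* `not_hasCyclicChain_autSystem`: the fusion system of a group `B` of automorphisms of an abelian
  `S` has no chain as soon as `B` acts irreducibly on a non-cyclic subgroup.
* `exists_not_hasCyclicChain`: such a system exists when `S ≃* (C × C) × H` with `C` cyclic and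
  `p ∣ |C|`.
-/

set_option autoImplicit false

namespace Cfsg.Agent.Lib.helper90

open Cfsg Cfsg.FusionSystem Cfsg.Agent.Lib.helper89

/-- A chain of strongly closed subgroups from `1` to `S` with cyclic steps. -/
def HasCyclicChain {Ω : Type*} [Group Ω] {S : Subgroup Ω} (F : FusionSystem S) : Prop :=
  ∃ (m : ℕ) (c : Fin (m + 1) → Subgroup Ω), c 0 = ⊥ ∧ c (Fin.last m) = S ∧
    (∀ i : Fin (m + 1), F.StronglyClosed (c i)) ∧
    ∀ i : Fin m, c i.castSucc ≤ c i.succ ∧ ∃ x ∈ S, c i.succ = c i.castSucc ⊔ Subgroup.zpowers x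

theorem exists_first_index {m : ℕ} (P : Fin (m + 1) → Prop) (h0 : ¬ P 0) (hl : P (Fin.last m)) :
    ∃ i : Fin m, ¬ P i.castSucc ∧ P i.succ := by
  by_contra hne
  push Not at hne
  have h : ∀ j : Fin (m + 1), ¬ P j := by
    intro j
    induction j using Fin.induction with
    | zero => exact h0
    | succ i ih => exact fun h => ih (by_contra fun h' => hne i h' h)
  exact h _ hl

section abstract

variable {Ω : Type*} [Group Ω] {S : Subgroup Ω}

/-- The fusion system of a group `B` of automorphisms of an abelian `S` has no chain of strongly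
closed subgroups with cyclic steps when `B` acts irreducibly on a non-cyclic subgroup `V`. -/
theorem not_hasCyclicChain_autSystem (hcomm : ∀ x y : S, x * y = y * x)
    (B : Subgroup (MulAut S)) (hB : Cfsg.Inn S ≤ B)
    (V : Subgroup S) (hVnc : ¬ IsCyclic V) (hVinv : ∀ b ∈ B, ∀ v ∈ V, b v ∈ V)
    (hirr : ∀ W : Subgroup S, W ≤ V → (∀ b ∈ B, ∀ w ∈ W, b w ∈ W) → W = ⊥ ∨ W = V) :
    ¬ HasCyclicChain (autSystem S B hB) := by
  rintro ⟨m, c, h0, hl, hsc, hstep⟩
  have hinv : ∀ i, ∀ b ∈ B, ∀ w : S, (w : Ω) ∈ c i → ((b w : S) : Ω) ∈ c i := by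
    intro i b hb w hw
    have hle := (hsc i).1
    have hφ : (S.subtype.comp b.toMonoidHom).comp (Subgroup.inclusion hle) ∈
        (autSystem S B hB).Hom (c i) := ⟨hle, b, hb, fun x => rfl⟩
    exact (hsc i).2 (c i) le_rfl _ hφ ⟨w, hw⟩
  have hV1 : V ≠ ⊥ := by
    intro h
    apply hVnc
    rw [h]
    infer_instance
  obtain ⟨i, hi1, hi2⟩ := exists_first_index (fun j => ∀ v ∈ V, (v : Ω) ∈ c j)
    (by
      intro h
      apply hV1
      rw [eq_bot_iff]
      intro v hv
      have h1 := h v hv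
      rw [h0, Subgroup.mem_bot] at h1
      rw [Subgroup.mem_bot]
      exact Subtype.ext h1)
    (by
      intro v _
      rw [hl]
      exact v.2)
  obtain ⟨hle, x, hxS, hx⟩ := hstep i
  obtain ⟨N, hNdef⟩ : ∃ N : Subgroup S, N = (c i.castSucc).subgroupOf S := ⟨_, rfl⟩
  have hNmem : ∀ s : S, s ∈ N ↔ (s : Ω) ∈ c i.castSucc := by
    intro s
    rw [hNdef, Subgroup.mem_subgroupOf]
  have hW : V ⊓ N = ⊥ := by
    rcases hirr (V ⊓ N) inf_le_left (fun b hb w hw => by
      refine Subgroup.mem_inf.mpr ⟨hVinv b hb w hw.1, ?_⟩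
      rw [hNmem]
      exact hinv _ b hb w ((hNmem w).mp hw.2)) with h | h
    · exact h
    · exfalso
      apply hi1
      intro v hv
      have : v ∈ V ⊓ N := by rw [h]; exact hv
      exact (hNmem v).mp this.2
  have hNn : N.Normal := by
    refine ⟨fun n hn g => ?_⟩
    rw [hcomm g n, mul_inv_cancel_right]
    exact hn
  have hmap : (c i.succ).subgroupOf S = N ⊔ Subgroup.zpowers (⟨x, hxS⟩ : S) := by
    apply Subgroup.map_injective S.subtype_injective
    rw [Subgroup.map_sup, MonoidHom.map_zpowers, hNdef,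
      Subgroup.map_subgroupOf_eq_of_le (hsc i.succ).1,
      Subgroup.map_subgroupOf_eq_of_le (hsc i.castSucc).1, hx]
    rfl
  have hπ : ∀ v ∈ V, QuotientGroup.mk' N v ∈
      Subgroup.zpowers (QuotientGroup.mk' N (⟨x, hxS⟩ : S)) := by
    intro v hv
    have h1 : v ∈ (c i.succ).subgroupOf S := by
      rw [Subgroup.mem_subgroupOf]
      exact hi2 v hv
    rw [hmap] at h1
    have h2 : QuotientGroup.mk' N v ∈ (N ⊔ Subgroup.zpowers (⟨x, hxS⟩ : S)).map
        (QuotientGroup.mk' N) := ⟨v, h1, rfl⟩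
    rw [Subgroup.map_sup, QuotientGroup.map_mk'_self, bot_sup_eq, MonoidHom.map_zpowers] at h2
    exact h2
  apply hVnc
  refine isCyclic_of_injective (((QuotientGroup.mk' N).comp V.subtype).codRestrict
    (Subgroup.zpowers (QuotientGroup.mk' N (⟨x, hxS⟩ : S))) (fun v => hπ v v.2)) ?_
  rw [injective_iff_map_eq_one]
  intro v hv
  have h1 : QuotientGroup.mk' N (v : S) = 1 := congrArg Subtype.val hv
  rw [QuotientGroup.mk'_apply, QuotientGroup.eq_one_iff] at h1
  have h2 : (v : S) ∈ V ⊓ N := ⟨v.2, h1⟩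
  rw [hW, Subgroup.mem_bot] at h2
  exact Subtype.ext h2

end abstract

section concrete

theorem card_ker_pow_le {C : Type*} [CommGroup C] [IsCyclic C] [Finite C] {p : ℕ} (hp : 0 < p) :
    Nat.card (powMonoidHom p : C →* C).ker ≤ p := by
  classical
  have := Fintype.ofFinite C
  have h := IsCyclic.card_pow_eq_one_le (α := C) hp
  have e : (powMonoidHom p : C →* C).ker ≃ {a : C // a ^ p = 1} :=
    Equiv.subtypeEquivRight (fun a => by rw [MonoidHom.mem_ker, powMonoidHom_apply])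
  rw [Nat.card_congr e, Nat.card_eq_fintype_card, Fintype.card_subtype]
  exact h

/-- In a finite cyclic group, the elements of order dividing `p` are the powers of any one of them
other than `1`. -/
theorem exists_zpow_eq_of_pow_eq_one {C : Type*} [CommGroup C] [IsCyclic C] [Finite C] {p : ℕ}
    [Fact p.Prime] {a x : C} (ha1 : a ≠ 1) (ha : a ^ p = 1) (hx : x ^ p = 1) :
    ∃ k : ℤ, a ^ k = x := by
  have hp : p.Prime := Fact.out
  have hle : Subgroup.zpowers a ≤ (powMonoidHom p : C →* C).ker := by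
    rw [Subgroup.zpowers_le, MonoidHom.mem_ker, powMonoidHom_apply]
    exact ha
  have hcard : Nat.card (powMonoidHom p : C →* C).ker ≤ Nat.card (Subgroup.zpowers a) := by
    rw [Nat.card_zpowers, orderOf_eq_prime ha ha1]
    exact card_ker_pow_le hp.pos
  have heq := Subgroup.eq_of_le_of_card_ge hle hcard
  have hxk : x ∈ Subgroup.zpowers a := by
    rw [heq, MonoidHom.mem_ker, powMonoidHom_apply]
    exact hx
  exact Subgroup.mem_zpowers_iff.mp hxk

/-- The automorphism `(a, b) ↦ (b, a⁻¹ b⁻¹)` of order three of `C × C`. -/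
def rhoEquiv (C : Type*) [CommGroup C] : C × C ≃* C × C where
  toFun x := (x.2, x.1⁻¹ * x.2⁻¹)
  invFun x := (x.1⁻¹ * x.2⁻¹, x.1)
  left_inv x := by ext <;> simp
  right_inv x := by ext <;> simp
  map_mul' x y := by ext <;> simp [mul_comm, mul_left_comm, mul_assoc]

/-- If `S ≃* (C × C) × H` with `C` cyclic containing an element of order `p`, then some saturated
fusion system over the abelian `p`-group `S` has no chain of strongly closed subgroups with cyclic
steps. -/
theorem exists_not_hasCyclicChain {Ω : Type*} [Group Ω] {S : Subgroup Ω} [Finite S] {p : ℕ}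
    [Fact p.Prime] (hS : IsPGroup p S)
    (hcomm : ∀ x y : S, x * y = y * x) {C H : Type*} [CommGroup C] [IsCyclic C] [Group H]
    (e : S ≃* (C × C) × H) (g₀ : C) (hg1 : g₀ ≠ 1) (hgp : g₀ ^ p = 1) :
    ∃ F : FusionSystem S, F.IsSaturated p ∧ ¬ HasCyclicChain F := by
  classical
  have hp : p.Prime := Fact.out
  have hfinC : Finite C := Finite.of_injective (fun c : C => e.symm ((c, 1), 1)) (by
    intro c c' h
    have h1 := e.symm.injective h
    simpa using h1)
  obtain ⟨V, hVdef⟩ : ∃ V : Subgroup S, V = (Subgroup.prod (powMonoidHom p : C × C →* C × C).ker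
      (⊥ : Subgroup H)).comap e.toMonoidHom := ⟨_, rfl⟩
  have hmemV : ∀ s : S, s ∈ V ↔ (e s).1.1 ^ p = 1 ∧ (e s).1.2 ^ p = 1 ∧ (e s).2 = 1 := by
    intro s
    rw [hVdef, Subgroup.mem_comap, Subgroup.mem_prod, MonoidHom.mem_ker, powMonoidHom_apply,
      Subgroup.mem_bot, Prod.ext_iff, and_assoc]
    rfl
  have hInn : ∀ B : Subgroup (MulAut S), Cfsg.Inn S ≤ B := by
    rintro B _ ⟨g, rfl⟩
    have h1 : (MulAut.conj g : MulAut S) = 1 := by
      ext x
      simp [MulAut.conj_apply, hcomm g x]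
    rw [h1]
    exact B.one_mem
  have hVp : ∀ v ∈ V, v ^ p = 1 := by
    intro v hv
    obtain ⟨h1, h2, h3⟩ := (hmemV v).mp hv
    apply e.injective
    rw [map_pow, map_one]
    ext
    · simpa using h1
    · simpa using h2
    · simp [h3]
  have hVnc : ¬ IsCyclic V := by
    intro hc
    obtain ⟨w, hw⟩ := hc.exists_generator
    have hu₁ : e.symm ((g₀, 1), 1) ∈ V := by
      rw [hmemV]; simp [hgp]
    have hu₂ : e.symm ((1, g₀), 1) ∈ V := by
      rw [hmemV]; simp [hgp]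
    obtain ⟨a, ha⟩ := Subgroup.mem_zpowers_iff.mp (hw ⟨_, hu₁⟩)
    obtain ⟨b, hb⟩ := Subgroup.mem_zpowers_iff.mp (hw ⟨_, hu₂⟩)
    have h3 : (⟨_, hu₁⟩ : V) ^ b = ⟨_, hu₂⟩ ^ a := by
      rw [← ha, ← hb, ← zpow_mul, ← zpow_mul, mul_comm]
    have h4 : (e.symm ((g₀, 1), 1)) ^ b = (e.symm ((1, g₀), 1)) ^ a := congrArg Subtype.val h3
    have h5 := congrArg e h4
    rw [map_zpow, map_zpow, e.apply_symm_apply, e.apply_symm_apply] at h5
    have h6 : g₀ ^ a = 1 := by
      have := congrArg (fun x : (C × C) × H => x.1.2) h5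
      simpa using this.symm
    have h7 : ((orderOf g₀ : ℕ) : ℤ) ∣ a := orderOf_dvd_iff_zpow_eq_one.mpr h6
    rw [orderOf_eq_prime hgp hg1] at h7
    obtain ⟨a', rfl⟩ := h7
    have hwp : w ^ (p : ℤ) = 1 := by
      rw [zpow_natCast]
      apply Subtype.ext
      rw [Subgroup.coe_pow]
      exact hVp w w.2
    rw [zpow_mul, hwp, one_zpow] at ha
    have h8 : e.symm ((g₀, 1), 1) = 1 := (congrArg Subtype.val ha).symm
    have h9 := congrArg e h8
    rw [e.apply_symm_apply, map_one] at h9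
    exact hg1 (congrArg (fun x : (C × C) × H => x.1.1) h9)
  have hend : ∀ W : Subgroup S, ∀ t ∈ W, ∀ t₂ ∈ W, ∀ a₁ a₂ : C, a₁ ≠ 1 → a₁ ^ p = 1 → a₂ ≠ 1 →
      a₂ ^ p = 1 → e t = ((a₁, 1), 1) → e t₂ = ((1, a₂), 1) → V ≤ W := by
    intro W t ht t₂ ht₂ a₁ a₂ h1 h1p h2 h2p het het₂ v hv
    obtain ⟨hx, hy, hh⟩ := (hmemV v).mp hv
    obtain ⟨k, hk⟩ := exists_zpow_eq_of_pow_eq_one h1 h1p hx
    obtain ⟨l, hl⟩ := exists_zpow_eq_of_pow_eq_one h2 h2p hy
    have hv' : v = t ^ k * t₂ ^ l := by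
      apply e.injective
      rw [map_mul, map_zpow, map_zpow, het, het₂]
      ext
      · simp [hk]
      · simp [hl]
      · simp [hh]
    rw [hv']
    exact W.mul_mem (W.zpow_mem ht k) (W.zpow_mem ht₂ l)
  have key : ∀ (B : Subgroup (MulAut S)) (m : ℕ), m.Coprime p → (∀ b ∈ B, b ^ m = 1) →
      (∀ b ∈ B, ∀ v ∈ V, b v ∈ V) →
      (∀ W : Subgroup S, W ≤ V → (∀ b ∈ B, ∀ w ∈ W, b w ∈ W) → W = ⊥ ∨ W = V) →
      ∃ F : FusionSystem S, F.IsSaturated p ∧ ¬ HasCyclicChain F := by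
    intro B m hm hBm hVinv hirr
    exact ⟨autSystem S B (hInn B), autSystem_saturated S hS B (hInn B) m hm
      (fun b hb => by rw [hBm b hb]; exact Subgroup.one_mem _),
      not_hasCyclicChain_autSystem hcomm B (hInn B) V hVnc hVinv hirr⟩
  have hclos : ∀ (G : Set (MulAut S)), (∀ g ∈ G, ∀ v, v ∈ V ↔ g v ∈ V) →
      ∀ b ∈ Subgroup.closure G, ∀ v ∈ V, b v ∈ V := by
    intro G hG b hb
    have h1 : ∀ v, v ∈ V ↔ b v ∈ V := by
      refine Subgroup.closure_induction (p := fun (b : MulAut S) _ => ∀ v, v ∈ V ↔ b v ∈ V)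
        ?_ ?_ ?_ ?_ hb
      · intro g hg
        exact hG g hg
      · intro v
        rfl
      · intro x y _ _ hx hy v
        rw [MulAut.mul_apply, ← hx, ← hy]
      · intro x _ hx v
        rw [hx (x⁻¹ v), MulAut.apply_inv_self]
    intro v hv
    exact (h1 v).mp hv
  have hT : ∀ (g : MulAut ((C × C) × H)) (s : S), e (MulAut.congr e.symm g s) = g (e s) := by
    intro g s
    simp [MulAut.congr]
  obtain ⟨σ, hσ⟩ : ∃ σ : MulAut S, ∀ s, e (σ s) = (((e s).1.2, (e s).1.1), (e s).2) :=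
    ⟨MulAut.congr e.symm (MulEquiv.prodCongr MulEquiv.prodComm (MulEquiv.refl H)), fun s => by
      rw [hT]; rfl⟩
  obtain ⟨δ, hδ⟩ : ∃ δ : MulAut S, ∀ s, e (δ s) = (((e s).1.1, (e s).1.2⁻¹), (e s).2) :=
    ⟨MulAut.congr e.symm (MulEquiv.prodCongr (MulEquiv.prodCongr (MulEquiv.refl C)
      (MulEquiv.inv C)) (MulEquiv.refl H)), fun s => by rw [hT]; rfl⟩
  obtain ⟨ρ, hρ⟩ : ∃ ρ : MulAut S,
      ∀ s, e (ρ s) = (((e s).1.2, (e s).1.1⁻¹ * (e s).1.2⁻¹), (e s).2) :=
    ⟨MulAut.congr e.symm (MulEquiv.prodCongr (rhoEquiv C) (MulEquiv.refl H)), fun s => by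
      rw [hT]; rfl⟩
  have hcoord : ∀ w ∈ V, ∃ a b : C, e w = ((a, b), 1) ∧ a ^ p = 1 ∧ b ^ p = 1 := by
    intro w hw
    obtain ⟨ha, hb, hh⟩ := (hmemV w).mp hw
    exact ⟨(e w).1.1, (e w).1.2, by ext <;> simp [hh], ha, hb⟩
  by_cases hp2 : p = 2
  · -- the automorphism of order three
    have hρ3 : ρ ^ 3 = 1 := by
      refine MulEquiv.ext fun s => e.injective ?_
      simp only [pow_succ, pow_zero, one_mul, MulAut.mul_apply, MulAut.one_apply, hρ]
      ext <;> simp
    have hBm : ∀ b ∈ Subgroup.closure ({ρ} : Set (MulAut S)), b ^ 3 = 1 := by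
      intro b hb
      rw [← Subgroup.zpowers_eq_closure] at hb
      obtain ⟨k, rfl⟩ := Subgroup.mem_zpowers_iff.mp hb
      rw [← zpow_natCast, ← zpow_mul, mul_comm, zpow_mul, zpow_natCast, hρ3, one_zpow]
    have hρV : ∀ v, v ∈ V ↔ ρ v ∈ V := by
      intro v
      rw [hmemV, hmemV, hρ]
      constructor
      · rintro ⟨h1, h2, h3⟩
        exact ⟨h2, by rw [mul_pow, inv_pow, inv_pow, h1, h2]; simp, h3⟩
      · rintro ⟨h2, h1, h3⟩
        refine ⟨?_, h2, h3⟩
        rw [mul_pow, inv_pow, inv_pow, h2] at h1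
        simpa using h1
    refine key (Subgroup.closure {ρ}) 3 (by rw [hp2]; decide) hBm
      (hclos {ρ} (fun g hg v => by rw [Set.mem_singleton_iff.mp hg]; exact hρV v)) ?_
    intro W hWV hWinv
    by_cases hW : W = ⊥
    · exact Or.inl hW
    right
    refine le_antisymm hWV ?_
    have hρW : ∀ w ∈ W, ρ w ∈ W := fun w hw => hWinv ρ (Subgroup.subset_closure rfl) w hw
    obtain ⟨⟨w, hwW⟩, hw1⟩ := (Subgroup.ne_bot_iff_exists_ne_one).mp hW
    have hw1' : w ≠ 1 := fun h => hw1 (Subtype.ext h)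
    obtain ⟨a, b, hew, ha, hb⟩ := hcoord w (hWV hwW)
    rw [hp2] at ha hb
    have hinvp : ∀ c : C, c ^ 2 = 1 → c⁻¹ ^ p = 1 := by
      intro c hc
      rw [hp2, inv_pow, hc, inv_one]
    have hpp : ∀ c : C, c ^ 2 = 1 → c ^ p = 1 := by
      intro c hc
      rw [hp2, hc]
    obtain ⟨t, htW, a₁, ha₁, ha₁p, het⟩ : ∃ t ∈ W, ∃ a₁ : C, a₁ ≠ 1 ∧ a₁ ^ 2 = 1 ∧
        e t = ((a₁, 1), 1) := by
      by_cases hb1 : b = 1
      · refine ⟨w, hwW, a, ?_, ha, by rw [hew, hb1]⟩
        intro ha1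
        apply hw1'
        apply e.injective
        rw [hew, ha1, hb1, map_one]
        rfl
      by_cases ha1 : a = 1
      · refine ⟨ρ (ρ w), hρW _ (hρW w hwW), b⁻¹, inv_ne_one.mpr hb1, by rw [inv_pow, hb, inv_one],
          ?_⟩
        rw [hρ, hρ, hew, ha1]
        ext <;> simp
      · have hab : a = b := by
          obtain ⟨k, hk⟩ := exists_zpow_eq_of_pow_eq_one (p := p) ha1 (hpp a ha) (hpp b hb)
          rcases Int.even_or_odd k with ⟨j, hj⟩ | ⟨j, hj⟩
          · exfalso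
            apply hb1
            rw [← hk, hj, ← two_mul, zpow_mul, zpow_ofNat, ha, one_zpow]
          · rw [← hk, hj, zpow_add, zpow_mul, zpow_ofNat, ha, one_zpow, one_mul, zpow_one]
        refine ⟨ρ w, hρW w hwW, a, ha1, ha, ?_⟩
        rw [hρ, hew, ← hab]
        have h2 : a⁻¹ * a⁻¹ = 1 := by rw [← mul_inv_rev, ← pow_two, ha, inv_one]
        ext <;> simp [h2]
    refine hend W t htW (ρ t) (hρW t htW) a₁ a₁⁻¹ ha₁ (hpp a₁ ha₁p) (inv_ne_one.mpr ha₁)
      (hinvp a₁ ha₁p) het ?_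
    rw [hρ, het]
    ext <;> simp
  · -- the dihedral group of order eight
    have hσσ : σ * σ = 1 := by
      refine MulEquiv.ext fun s => e.injective ?_
      simp only [MulAut.mul_apply, MulAut.one_apply, hσ]
    have hδδ : δ * δ = 1 := by
      refine MulEquiv.ext fun s => e.injective ?_
      simp only [MulAut.mul_apply, MulAut.one_apply, hδ, inv_inv]
    have hτ4' : (σ * δ) ^ 4 = 1 := by
      refine MulEquiv.ext fun s => e.injective ?_
      simp only [pow_succ, pow_zero, one_mul, MulAut.mul_apply, MulAut.one_apply, hσ, hδ, inv_inv]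
    have hτ4 : (σ * δ) ^ 2 ^ 2 = 1 := hτ4'
    have h2grp := Cfsg.Agent.Lib.helper85.isPGroup_two_closure_pair hσσ hδδ (k := 2) hτ4
    obtain ⟨n, hn⟩ := (IsPGroup.iff_card).mp h2grp
    have hBm : ∀ b ∈ Subgroup.closure ({σ, δ} : Set (MulAut S)), b ^ 2 ^ n = 1 := by
      intro b hb
      have h1 := pow_card_eq_one' (x := (⟨b, hb⟩ : Subgroup.closure ({σ, δ} : Set (MulAut S))))
      rw [hn] at h1
      exact congrArg Subtype.val h1
    have hcop : Nat.Coprime 2 p := (Nat.coprime_primes Nat.prime_two hp).mpr (Ne.symm hp2)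
    have hσV : ∀ v, v ∈ V ↔ σ v ∈ V := by
      intro v
      rw [hmemV, hmemV, hσ]
      tauto
    have hδV : ∀ v, v ∈ V ↔ δ v ∈ V := by
      intro v
      rw [hmemV, hmemV, hδ, inv_pow, inv_eq_one]
    refine key (Subgroup.closure {σ, δ}) (2 ^ n) (Nat.Coprime.pow_left n hcop) hBm
      (hclos {σ, δ} (fun g hg v => by
        rcases hg with rfl | hg
        · exact hσV v
        · rw [Set.mem_singleton_iff.mp hg]; exact hδV v)) ?_
    intro W hWV hWinv
    by_cases hW : W = ⊥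
    · exact Or.inl hW
    right
    refine le_antisymm hWV ?_
    have hσW : ∀ w ∈ W, σ w ∈ W :=
      fun w hw => hWinv σ (Subgroup.subset_closure (Set.mem_insert _ _)) w hw
    have hδW : ∀ w ∈ W, δ w ∈ W :=
      fun w hw => hWinv δ (Subgroup.subset_closure (Set.mem_insert_of_mem _ rfl)) w hw
    obtain ⟨⟨w, hwW⟩, hw1⟩ := (Subgroup.ne_bot_iff_exists_ne_one).mp hW
    have hw1' : w ≠ 1 := fun h => hw1 (Subtype.ext h)
    obtain ⟨a, b, hew, ha, hb⟩ := hcoord w (hWV hwW)
    have hsq : ∀ c : C, c ≠ 1 → c ^ p = 1 → c * c ≠ 1 := by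
      intro c hc1 hcp h
      have h2 : orderOf c ∣ 2 := orderOf_dvd_of_pow_eq_one (by rw [pow_two]; exact h)
      rw [orderOf_eq_prime hcp hc1] at h2
      exact hp2 ((Nat.prime_dvd_prime_iff_eq hp Nat.prime_two).mp h2)
    have hsqp : ∀ c : C, c ^ p = 1 → (c * c) ^ p = 1 := by
      intro c hc
      rw [mul_pow, hc, one_mul]
    obtain ⟨t, htW, a₁, ha₁, ha₁p, het⟩ : ∃ t ∈ W, ∃ a₁ : C, a₁ ≠ 1 ∧ a₁ ^ p = 1 ∧
        e t = ((a₁, 1), 1) := by
      by_cases ha1 : a = 1
      · have hb1 : b ≠ 1 := by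
          intro hb1
          apply hw1'
          apply e.injective
          rw [hew, ha1, hb1, map_one]
          rfl
        refine ⟨σ (w * (δ w)⁻¹), hσW _ (W.mul_mem hwW (W.inv_mem (hδW w hwW))), b * b,
          hsq b hb1 hb, hsqp b hb, ?_⟩
        rw [hσ, map_mul, map_inv, hδ, hew, ha1]
        ext <;> simp
      · refine ⟨w * δ w, W.mul_mem hwW (hδW w hwW), a * a, hsq a ha1 ha, hsqp a ha, ?_⟩
        rw [map_mul, hδ, hew]
        ext <;> simp
    refine hend W t htW (σ t) (hσW t htW) a₁ a₁ ha₁ ha₁p ha₁ ha₁p het ?_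
    rw [hσ, het]

end concrete

end Cfsg.Agent.Lib.helper90
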