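import Mathlib
import Cfsg.Prelude.Def_FusionSystem
import Cfsg.Agent.Lib.helper90.AbSuper
import Cfsg.Agent.Lib.helper90.AbChain
import Cfsg.Agent.Lib.helper90.AbLayer

/-!
Saturated fusion systems over an abelian `p`-group `S` are all supersoluble iff the invariants of
`S` are pairwise distinct: the two directions (helper90).
-/

set_option autoImplicit false

namespace Cfsg.Agent.Lib.helper90

open Cfsg Cfsg.FusionSystem

variable {Ω : Type*} [Group Ω] {S : Subgroup Ω}

theorem hasCyclicChain_of_no_repeat [Finite S] {p : ℕ} [Fact p.Prime] (hS : IsPGroup p S)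
    (hcomm : ∀ x y : S, x * y = y * x)
    (hno : ¬ ∃ (n : ℕ) (H : Type) (_ : CommGroup H), 0 < n ∧
      Nonempty (↥S ≃* (Multiplicative (ZMod (p ^ n)) × Multiplicative (ZMod (p ^ n))) × H))
    (F : FusionSystem S) (hF : F.IsSaturated p) : HasCyclicChain F := by
  let _ : CommGroup S := { (inferInstance : Group S) with mul_comm := hcomm }
  obtain ⟨e, he⟩ := IsPGroup.iff_card.mp hS
  have hexp : ∀ x : S, x ^ (p ^ e) = 1 := fun x => by rw [← he]; exact pow_card_eq_one'
  obtain ⟨m, D, hD0, hDl, hDinv, hDstep⟩ := exists_invariant_chain (A := S) p hS e hexp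
    (fun j => relIndex_socleLayer_le hS hno j)
  have hab' : ∀ x ∈ S, ∀ y ∈ S, x * y = y * x := fun x hx y hy =>
    congrArg Subtype.val (hcomm ⟨x, hx⟩ ⟨y, hy⟩)
  refine ⟨m, fun i => (D i).map S.subtype, ?_, ?_, ?_, ?_⟩
  · show (D 0).map S.subtype = ⊥
    rw [hD0, Subgroup.map_bot]
  · show (D (Fin.last m)).map S.subtype = S
    rw [hDl, ← MonoidHom.range_eq_map, Subgroup.range_subtype]
  · intro i
    refine ⟨Subgroup.map_subtype_le _, ?_⟩
    intro R hR φ hφ x
    obtain ⟨hRS, ψ, hψ, hψx⟩ := abelian_hom_subset_restr F hS hF hab' R hφ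
    rw [hψx x]
    have hψS : ∀ y : S, ψ y ∈ S := fun y => (F.le_of_mem hψ).2 y
    obtain ⟨y, hy, hyx⟩ := hR x.2
    have hxy : Subgroup.inclusion hRS x = y := Subtype.ext hyx.symm
    rw [hxy]
    exact ⟨(ψ.codRestrict S hψS) y, hDinv i (ψ.codRestrict S hψS) y hy, rfl⟩
  · intro i
    obtain ⟨h1, x, hx⟩ := hDstep i
    refine ⟨Subgroup.map_mono h1, (x : Ω), x.2, ?_⟩
    show (D i.succ).map S.subtype = (D i.castSucc).map S.subtype ⊔ Subgroup.zpowers (x : Ω)
    rw [hx, Subgroup.map_sup, MonoidHom.map_zpowers]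
    rfl

theorem exists_saturated_not_hasCyclicChain [Finite S] {p : ℕ} [Fact p.Prime] (hS : IsPGroup p S)
    (hcomm : ∀ x y : S, x * y = y * x) {n : ℕ} (hn : 0 < n) {H : Type*} [CommGroup H]
    (e : ↥S ≃* (Multiplicative (ZMod (p ^ n)) × Multiplicative (ZMod (p ^ n))) × H) :
    ∃ F : FusionSystem S, F.IsSaturated p ∧ ¬ HasCyclicChain F := by
  have hp : p.Prime := Fact.out
  have : NeZero (p ^ n) := ⟨(pow_pos hp.pos n).ne'⟩
  have hcard : Nat.card (Multiplicative (ZMod (p ^ n))) = p ^ n := by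
    rw [Nat.card_congr Multiplicative.toAdd, Nat.card_zmod]
  obtain ⟨g₀, hg⟩ := exists_prime_orderOf_dvd_card' p (G := Multiplicative (ZMod (p ^ n)))
    (by rw [hcard]; exact dvd_pow_self p hn.ne')
  exact exists_not_hasCyclicChain hS hcomm e g₀
    (by intro h; rw [h, orderOf_one] at hg; exact hp.one_lt.ne hg)
    (by have h := pow_orderOf_eq_one g₀; rwa [hg] at h)

end Cfsg.Agent.Lib.helper90
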