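import Mathlib
import Cfsg.Agent.Lib.helper90.BG1363B
import Cfsg.Agent.Lib.helper69.BG1363KP
import Cfsg.Agent.Lib.helper56.BGT3B
import Cfsg.Agent.Lib.helper71.BGNAN4
import Cfsg.Agent.S1417

/-!
# S1363, piece T2, step 3 (helper90)

`U₂ ≤ U` normalized by `K`, `A ≤ H` elementary abelian of order `r ^ 2` (`r ∈ τ₂(H)`) normalized by
`U₂` and `K` and containing `X ≤ U` of order `r` normalized by `K`: then `U₂` centralizes `A`.
See `tools/S1363_SPEC.md` (PIECE T2, step 3).
-/

set_option autoImplicit false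

namespace Cfsg.Agent.Lib.helper90.BG1363

open Cfsg

variable {G : Type*} [Group G]

theorem h90_t2_step3 [Finite G] (hG : IsMinSimpleOddOrder G) {M K U : Subgroup G} (c : Ctx M K U)
    (r : ℕ) (X : Subgroup G) (hXU : X ≤ U) (hX : Nat.card X = r)
    (hKX : K ≤ Subgroup.normalizer (X : Set G))
    (H : Subgroup G) (hH : IsCoatom H) (hrH : r ∈ tau2 H)
    (U2 : Subgroup G) (hU2 : U2 ≤ U) (hU2H : U2 ≤ H)
    (hKU2 : K ≤ Subgroup.normalizer (U2 : Set G))
    (A : Subgroup G) (hAH : A ≤ H) (hA : IsElementaryAbelian r A) (hAcard : Nat.card A = r ^ 2)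
    (hXA : X ≤ A) (hU2A : U2 ≤ Subgroup.normalizer (A : Set G))
    (hKA : K ≤ Subgroup.normalizer (A : Set G)) :
    ∀ a ∈ A, ∀ w ∈ U2, a * w = w * a := by
  have hr : r.Prime := hrH.1
  have : Fact r.Prime := ⟨hr⟩
  have hcomm := ctx_comm hG c
  obtain ⟨k, hkK, hk1, -, -⟩ := h69_prime_gen K (ctx_Kprime hG c)
  have hUX : ∀ u ∈ U, u ∈ Subgroup.normalizer (X : Set G) := by
    intro u hu
    rw [Subgroup.mem_normalizer_iff]
    intro x
    have comm : ∀ y ∈ X, u * y = y * u := fun y hy => hcomm u hu y (hXU hy)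
    constructor
    · intro hx
      have e : u * x * u⁻¹ = x := by rw [comm x hx]; group
      rw [e]
      exact hx
    · intro hx
      have e : x = u⁻¹ * (u * x * u⁻¹) * u := by group
      have e2 : u⁻¹ * (u * x * u⁻¹) * u = u * x * u⁻¹ := by
        rw [mul_assoc, ← comm _ hx]
        group
      rw [e, e2]
      exact hx
  have hAp : IsPGroup r A := IsPGroup.of_card (n := 2) hAcard
  have hle : U2 ≤ Subgroup.centralizer (A : Set G) := by
    apply Cfsg.Agent.Lib.helper71.BGNA.le_of_forall_sylow_le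
    intro q hqf Q
    have hq : q.Prime := hqf.out
    rintro _ ⟨w, hwQ, rfl⟩
    obtain ⟨j, hj⟩ := Q.isPGroup' ⟨w, hwQ⟩
    have hj' : (w : G) ^ q ^ j = 1 := by
      have h1 := congrArg Subtype.val (congrArg Subtype.val hj)
      simpa using h1
    have hord : orderOf (w : G) ∣ q ^ j := orderOf_dvd_of_pow_eq_one hj'
    by_cases hqr : q = r
    · -- an `r`-element: use an abelian Sylow `r`-subgroup of `H`
      subst hqr
      have hWp : IsPGroup q (Subgroup.zpowers (w : G)) := by
        apply IsPGroup.of_card (n := (Nat.factorization (orderOf (w : G))) q)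
        rw [Nat.card_zpowers]
        obtain ⟨i, -, hi⟩ := (Nat.dvd_prime_pow hq).mp hord
        rw [hi, Nat.Prime.factorization_pow hq]
        simp
      have hWN : Subgroup.zpowers (w : G) ≤ Subgroup.normalizer (A : Set G) := by
        rw [Subgroup.zpowers_le]
        exact hU2A w.2
      have hBp : IsPGroup q (Subgroup.zpowers (w : G) ⊔ A : Subgroup G) :=
        IsPGroup.to_sup_of_normal_right' hWp hAp hWN
      have hBH : Subgroup.zpowers (w : G) ⊔ A ≤ H :=
        sup_le (by rw [Subgroup.zpowers_le]; exact hU2H w.2) hAH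
      have hBp' : IsPGroup q ((Subgroup.zpowers (w : G) ⊔ A).subgroupOf H) :=
        hBp.of_equiv (Subgroup.subgroupOfEquivOfLe hBH).symm
      obtain ⟨P, hP⟩ := hBp'.exists_le_sylow
      have hPc := ((Cfsg.Agent.S1417.result hG H hH q hrH A ⟨hAH, hA, hAcard⟩).2.1 P).1
      have hwP : (⟨(w : G), hU2H w.2⟩ : ↥H) ∈ (P : Subgroup ↥H) :=
        hP (Subgroup.mem_subgroupOf.mpr
          ((le_sup_left : Subgroup.zpowers (w : G) ≤ _) (Subgroup.mem_zpowers _)))
      rw [Subgroup.mem_centralizer_iff]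
      intro a ha
      have haP : (⟨a, hAH ha⟩ : ↥H) ∈ (P : Subgroup ↥H) :=
        hP (Subgroup.mem_subgroupOf.mpr ((le_sup_right : A ≤ _) ha))
      have h1 := hPc.is_comm.comm (⟨⟨a, hAH ha⟩, haP⟩ : ↥(P : Subgroup ↥H))
        ⟨⟨(w : G), hU2H w.2⟩, hwP⟩
      have h2 := congrArg Subtype.val (congrArg Subtype.val h1)
      exact h2
    · -- an `r'`-element: a commutator
      have hcop : (orderOf (w : G)).Coprime r :=
        Nat.Coprime.coprime_dvd_left hord
          (Nat.Coprime.pow_left j ((Nat.coprime_primes hq hr).mpr hqr))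
      obtain ⟨v, hv, hwv⟩ := ctx_comm_surj hG c U2 hU2 hKU2 k hkK hk1 (w : G) w.2
      have h1 : v * k * v⁻¹ * k⁻¹ ∈ Subgroup.centralizer (A : Set G) := by
        apply Cfsg.Agent.Lib.helper56.BGT3.comm_centralizes_norm A X hA hAcard hXA hX
          (hU2A hv) (hUX v (hU2 hv)) (hKA hkK) (hKX hkK)
        rw [← hwv]
        exact hcop
      simp only [Subgroup.coe_subtype]
      rw [hwv]
      exact h1
  intro a ha w hw
  exact Subgroup.mem_centralizer_iff.mp (hle hw) a ha

end Cfsg.Agent.Lib.helper90.BG1363
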