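import Mathlib
import Cfsg.Agent.Lib.helper90.BG1363B
import Cfsg.Agent.Lib.helper29.Trans
import Cfsg.Agent.Lib.helper28.PConn
import Cfsg.Agent.Lib.helper71.BGTenA

/-!
# S1363, piece T2, step 4 (helper90)

`U = (U ⊓ H_σ) U₂`, `A ≤ H` elementary abelian of order `r ^ 2` centralized by `U₂`, `H_σ`
nilpotent, `|K| ∉ σ(H)`: contradiction.  See `tools/S1363_SPEC.md` (PIECE T2, step 4).
-/

set_option autoImplicit false

namespace Cfsg.Agent.Lib.helper90.BG1363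

open Cfsg

variable {G : Type*} [Group G]

theorem h90_t2_step4 [Finite G] (hG : IsMinSimpleOddOrder G) {M K U : Subgroup G} (c : Ctx M K U)
    (r : ℕ) (hr : r.Prime) (hrU : r ∣ Nat.card U)
    (H : Subgroup G) (hH : IsCoatom H) (hUH : U ≤ H) (hKH : K ≤ H)
    (hq : Nat.card K ∉ sigma H) (hnil : Group.IsNilpotent ↥(sigmaCore H))
    (U2 : Subgroup G) (hU2 : U2 ≤ U)
    (hfac : ∀ u ∈ U, ∃ u1 ∈ U ⊓ sigmaCore H, ∃ u2 ∈ U2, u = u1 * u2)
    (A : Subgroup G) (hAH : A ≤ H) (hAc : IsMulCommutative ↥A) (hAe : ∀ a ∈ A, a ^ r = 1)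
    (hAcard : Nat.card ↥A = r ^ 2) (hcent : ∀ a ∈ A, ∀ w ∈ U2, a * w = w * a) : False := by
  have hcomm := ctx_comm hG c
  have hqp := ctx_Kprime hG c
  have hnorm := Cfsg.Agent.Lib.helper71.BGA.le_normalizer_sigmaCore H
  have hHsn : ∀ h ∈ H, ∀ x ∈ sigmaCore H, h * x * h⁻¹ ∈ sigmaCore H := fun h hh x hx =>
    (Subgroup.mem_normalizer_iff.mp (hnorm hh) x).mp hx
  have hKσ : ∀ k ∈ K, k ∈ sigmaCore H → k = 1 := by
    intro k hk hkσ
    by_contra hk1
    apply hq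
    have ho : orderOf k = Nat.card K := by
      have h1 : orderOf k ∣ Nat.card K := Subgroup.orderOf_dvd_natCard K hk
      rcases (Nat.dvd_prime hqp).mp h1 with h | h
      · exact absurd (orderOf_eq_one_iff.mp h) hk1
      · exact h
    have h2 : Nat.card K ∣ Nat.card (sigmaCore H) := by
      rw [← ho]
      exact Subgroup.orderOf_dvd_natCard _ hkσ
    exact Cfsg.Agent.Lib.helper29.prime_mem_of_dvd_card_piCoreOf (sigma H) H _ hqp h2
  have hconjU : ∀ n : G, (∀ v ∈ U ⊓ sigmaCore H, n * v * n⁻¹ ∈ U) →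
      (∀ w ∈ U2, n * w = w * n) → ∀ u ∈ U, n * u * n⁻¹ ∈ U := by
    intro n h1 h2 u hu
    obtain ⟨u1, hu1, u2, hu2, rfl⟩ := hfac u hu
    have e : n * (u1 * u2) * n⁻¹ = n * u1 * n⁻¹ * u2 := by
      calc n * (u1 * u2) * n⁻¹ = n * u1 * n⁻¹ * (n * u2) * n⁻¹ := by group
        _ = n * u1 * n⁻¹ * (u2 * n) * n⁻¹ := by rw [h2 u2 hu2]
        _ = n * u1 * n⁻¹ * u2 := by group
    rw [e]
    exact U.mul_mem (h1 u1 hu1) (hU2 hu2)
  have hmemN : ∀ n : G, (∀ u ∈ U, n * u * n⁻¹ ∈ U) → (∀ u ∈ U, n⁻¹ * u * n⁻¹⁻¹ ∈ U) →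
      n ∈ Subgroup.normalizer (U : Set G) := by
    intro n h1 h2
    rw [Subgroup.mem_normalizer_iff]
    intro x
    constructor
    · exact h1 x
    · intro hx
      have h3 := h2 _ hx
      have e : n⁻¹ * (n * x * n⁻¹) * n⁻¹⁻¹ = x := by group
      rwa [e] at h3
  by_cases hC : ∀ x ∈ sigmaCore H, (∀ w ∈ U2, x * w = w * x) → x ∈ U
  · -- (α) `A ≤ N_G(U) ≤ M`
    have hA1 : ∀ a ∈ A, ∀ u ∈ U, a * u * a⁻¹ ∈ U := by
      intro a ha
      apply hconjU a _ (hcent a ha)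
      intro v hv
      obtain ⟨hvU, hvσ⟩ := Subgroup.mem_inf.mp hv
      apply hC _ (hHsn a (hAH ha) v hvσ)
      intro w hw
      have e1 : a⁻¹ * w * a = w := by
        rw [mul_assoc, ← hcent a ha w hw]
        group
      calc a * v * a⁻¹ * w = a * v * (a⁻¹ * w * a) * a⁻¹ := by group
        _ = a * (v * w) * a⁻¹ := by rw [e1]; group
        _ = a * (w * v) * a⁻¹ := by rw [hcomm v hvU w (hU2 hw)]
        _ = (a * w) * v * a⁻¹ := by group
        _ = w * a * v * a⁻¹ := by rw [hcent a ha w hw]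
        _ = w * (a * v * a⁻¹) := by group
    have hAM : A ≤ M := by
      intro a ha
      apply c.hNU
      exact hmemN a (hA1 a ha) (hA1 a⁻¹ (A.inv_mem ha))
    apply (Cfsg.Agent.Lib.helper28.not_pRankLE_subgroup_iff r 1 M).mpr _ (c.hrk r hr hrU)
    refine ⟨A, hAM, ⟨hAc, hAe⟩, ?_⟩
    rw [hAcard]
    exact Nat.pow_lt_pow_right hr.one_lt (by norm_num)
  · -- (β) the normalizer condition in `C = H_σ ∩ C(U₂)`
    push Not at hC
    obtain ⟨x, hxσ, hxc, hxU⟩ := hC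
    obtain ⟨C, hCdef⟩ : ∃ C : Subgroup G,
        C = sigmaCore H ⊓ Subgroup.centralizer (U2 : Set G) := ⟨_, rfl⟩
    have hCσ : C ≤ sigmaCore H := by
      rw [hCdef]
      exact inf_le_left
    have hCmem : ∀ z : G, z ∈ C ↔ z ∈ sigmaCore H ∧ ∀ w ∈ U2, z * w = w * z := by
      intro z
      rw [hCdef, Subgroup.mem_inf, Subgroup.mem_centralizer_iff]
      constructor
      · rintro ⟨h1, h2⟩
        exact ⟨h1, fun w hw => (h2 w hw).symm⟩
      · rintro ⟨h1, h2⟩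
        exact ⟨h1, fun w hw => (h2 w hw).symm⟩
    have hU1C : U ⊓ sigmaCore H ≤ C := by
      intro v hv
      obtain ⟨hvU, hvσ⟩ := Subgroup.mem_inf.mp hv
      exact (hCmem v).mpr ⟨hvσ, fun w hw => hcomm v hvU w (hU2 hw)⟩
    have hnilC : Group.IsNilpotent ↥C := by
      apply Subgroup.isNilpotent_of_ker_le_center (Subgroup.inclusion hCσ)
      rw [(Subgroup.inclusion hCσ).ker_eq_bot_iff.mpr (Subgroup.inclusion_injective hCσ)]
      exact bot_le
    have hlt : (U ⊓ sigmaCore H).subgroupOf C < ⊤ := by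
      rw [lt_top_iff_ne_top]
      intro h
      have h1 : C ≤ U ⊓ sigmaCore H := Subgroup.subgroupOf_eq_top.mp h
      exact hxU (h1 ((hCmem x).mpr ⟨hxσ, hxc⟩)).1
    have hnc := Group.normalizerCondition_of_isNilpotent (G := ↥C) _ hlt
    obtain ⟨n, hn, hnU⟩ := SetLike.exists_of_lt hnc
    have hnσ : (n : G) ∈ sigmaCore H := ((hCmem n).mp n.2).1
    have hncent : ∀ w ∈ U2, (n : G) * w = w * n := ((hCmem n).mp n.2).2
    have hconj1 : ∀ m : ↥C, m ∈ Subgroup.normalizer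
        (((U ⊓ sigmaCore H).subgroupOf C : Subgroup ↥C) : Set ↥C) →
        ∀ v ∈ U ⊓ sigmaCore H, (m : G) * v * (m : G)⁻¹ ∈ U := by
      intro m hm v hv
      have h1 := (Subgroup.mem_normalizer_iff.mp hm ⟨v, hU1C hv⟩).mp
        (by rw [Subgroup.mem_subgroupOf]; exact hv)
      rw [Subgroup.mem_subgroupOf] at h1
      have h2 : (m : G) * v * (m : G)⁻¹ ∈ U ⊓ sigmaCore H := by simpa using h1
      exact h2.1
    have hnN : (n : G) ∈ Subgroup.normalizer (U : Set G) := by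
      apply hmemN
      · exact hconjU (n : G) (hconj1 n hn) hncent
      · have h1 := hconj1 n⁻¹ (Subgroup.inv_mem _ hn)
        have h2 : ∀ w ∈ U2, (n : G)⁻¹ * w = w * (n : G)⁻¹ := by
          intro w hw
          calc (n : G)⁻¹ * w = (n : G)⁻¹ * (w * n) * (n : G)⁻¹ := by group
            _ = (n : G)⁻¹ * (n * w) * (n : G)⁻¹ := by rw [hncent w hw]
            _ = w * (n : G)⁻¹ := by group
        have h3 := hconjU (n : G)⁻¹ (by simpa using h1) h2
        exact h3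
    obtain ⟨u, hu, k, hk, hnuk⟩ := ctx_norm hG c (n : G) hnN
    by_cases hk1 : k = 1
    · apply hnU
      rw [Subgroup.mem_subgroupOf]
      refine Subgroup.mem_inf.mpr ⟨?_, hnσ⟩
      rw [hnuk, hk1, mul_one]
      exact hu
    · obtain ⟨v, hv, huv⟩ := ctx_comm_surj hG c U le_rfl c.hKU.normal k hk hk1 u hu
      have e : k = v⁻¹ * (n : G) * v⁻¹⁻¹ := by
        rw [hnuk, huv]
        group
      apply hk1
      apply hKσ k hk
      rw [e]
      exact hHsn v⁻¹ (H.inv_mem (hUH hv)) _ hnσ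

end Cfsg.Agent.Lib.helper90.BG1363
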