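/-
S1430 (O-c), pieces K3 (`t3_fix : HFix G`) of `tools/S1430_OC_Skel.lean.txt` (helper8's split), with
the shared lemmas `cent_E_of_exists` / `cent_E_common`: an element `c` of `M_σ` centralized by one
element of order `s` of the complement `E` for every prime `s` dividing `|E|` is centralized by `E`
(all Sylow subgroups of `E` are cyclic when `τ₂(M) = ∅`; S1427).
-/
import Mathlib
import Cfsg.Agent.Lib.helper8.BGT3Defs
import Cfsg.Agent.S1426
import Cfsg.Agent.S1427
import Cfsg.Agent.S1428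
import Cfsg.Agent.Lib.helper13.BG11a
import Cfsg.Agent.Lib.helper8.BGTen1
import Cfsg.Agent.Lib.helper8.BGTen5
import Cfsg.Agent.Lib.helper66.PGroupAction
import Cfsg.Agent.Lib.helper97.BGEight1
import Cfsg.Agent.Lib.helper87.BGNAN3

set_option autoImplicit false
open Cfsg Cfsg.Agent.Lib.helper8.BGT3

namespace Cfsg.Agent.Lib.helper90.BGT3

variable {G : Type*} [Group G]

/-- If `τ₂(M) = ∅` and for every prime `s ∣ |E|` some element of order `s` of `E` commutes with
`c ∈ M_σ`, then `E` centralizes `c`. -/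
theorem cent_E_of_exists [Finite G] (hG : IsMinSimpleOddOrder G) (M : Subgroup G)
    (hM : IsCoatom M) (E : Subgroup G) (hE : IsComplIn E (sigmaCore M) M)
    (hT2 : ∀ q : ℕ, q ∉ tau2 M) (c : G) (hc : c ∈ sigmaCore M)
    (h : ∀ s : ℕ, s.Prime → s ∣ Nat.card E →
      ∃ x : G, x ∈ E ∧ orderOf x = s ∧ x * c = c * x) :
    c ∈ Subgroup.centralizer (E : Set G) := by
  classical
  have hU := Cfsg.Agent.Lib.helper13.bgx_uniq hG
  have hodd : Odd (Nat.card G) := hG.1
  have hEM : E ≤ M := hE.1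
  have hC0E : E ⊓ Subgroup.centralizer ({c} : Set G) = E := by
    apply Cfsg.Agent.Lib.helper66.eq_of_forall_sylow_le inf_le_left
    intro q hFq
    by_cases hqE : q ∣ Nat.card E
    · obtain ⟨x, hxE, hxo, hxc⟩ := h q hFq.out hqE
      have hqσ : q ∉ sigma M :=
        Cfsg.Agent.Lib.helper97.bg8_not_sigma hG M hM E hE q hFq.out hqE
      have hqα : q ∉ alpha M := fun hα =>
        hqσ (Cfsg.Agent.Lib.helper8.bg_alpha_sub_sigma hG hU M hM hα)
      have hr2 : PRankLE q 2 M := by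
        by_contra hh; exact hqα ⟨hFq.out, hh⟩
      have hr1 : PRankLE q 1 M := by
        by_contra hh; exact hT2 q ⟨hFq.out, hqσ, hr2, hh⟩
      have hXp : IsPGroup q (Subgroup.zpowers (⟨x, hxE⟩ : E)) := by
        apply IsPGroup.of_card (n := 1)
        rw [pow_one, Nat.card_zpowers, Subgroup.orderOf_mk, hxo]
      obtain ⟨B, hXB⟩ := hXp.exists_le_sylow
      have hxB : (⟨x, hxE⟩ : E) ∈ (B : Subgroup E) := hXB (Subgroup.mem_zpowers _)
      have hx1 : x ≠ 1 := by
        intro h1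
        rw [h1, orderOf_one] at hxo
        exact hFq.out.one_lt.ne' hxo.symm
      have hB1 : (B : Subgroup E) ≠ ⊥ := by
        intro hb
        rw [hb, Subgroup.mem_bot] at hxB
        exact hx1 (congrArg Subtype.val hxB)
      have hcyc : IsCyclic (B : Subgroup E) :=
        Cfsg.Agent.Lib.helper8.bg_sylow_cyclic_of_prank_one hodd hEM q hr1 B
      have h27 := Cfsg.Agent.S1427.result hG M hM E hE q B hB1 hcyc x ⟨⟨x, hxE⟩, hxB, rfl⟩ hx1
      have hcx : c ∈ sigmaCore M ⊓ Subgroup.centralizer ({x} : Set G) := by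
        refine Subgroup.mem_inf.mpr ⟨hc, ?_⟩
        rw [Subgroup.mem_centralizer_iff]
        intro y hy
        rw [Set.mem_singleton_iff.mp hy]
        exact hxc
      rw [h27] at hcx
      refine ⟨B, ?_⟩
      intro z hz
      refine Subgroup.mem_inf.mpr ⟨Subgroup.map_subtype_le _ hz, ?_⟩
      rw [Subgroup.mem_centralizer_iff]
      intro y hy
      rw [Set.mem_singleton_iff.mp hy]
      exact ((Subgroup.mem_centralizer_iff.mp (Subgroup.mem_inf.mp hcx).2) z hz).symm
    · obtain ⟨B⟩ : Nonempty (Sylow q E) := inferInstance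
      refine ⟨B, ?_⟩
      have hB1 : (B : Subgroup E) = ⊥ := by
        obtain ⟨n, hn⟩ := IsPGroup.iff_card.mp B.isPGroup'
        rcases Nat.eq_zero_or_pos n with rfl | hpos
        · rw [pow_zero] at hn; exact Subgroup.card_eq_one.mp hn
        · exfalso
          apply hqE
          have h1 : q ∣ Nat.card (B : Subgroup E) := by rw [hn]; exact dvd_pow_self q hpos.ne'
          exact h1.trans (Subgroup.card_subgroup_dvd_card _)
      rw [hB1, Subgroup.map_bot]
      exact bot_le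
  rw [Subgroup.mem_centralizer_iff]
  intro e he
  have he' : e ∈ E ⊓ Subgroup.centralizer ({c} : Set G) := by rw [hC0E]; exact he
  exact ((Subgroup.mem_centralizer_iff.mp (Subgroup.mem_inf.mp he').2) c (Set.mem_singleton c)).symm

/-- If `τ₂(M) = ∅`, `c ∈ M_σ` is centralized by `P ≤ E` of order `p ∈ τ₁(M)` and by every subgroup
of `E` of order in `τ₃(M)`, then `E` centralizes `c`. -/
theorem cent_E_common [Finite G] (hG : IsMinSimpleOddOrder G) (M : Subgroup G)
    (hM : IsCoatom M) (E : Subgroup G) (hE : IsComplIn E (sigmaCore M) M)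
    (hT2 : ∀ q : ℕ, q ∉ tau2 M) (p : ℕ) (hp : p ∈ tau1 M) (P : Subgroup G) (hPE : P ≤ E)
    (hP : Nat.card P = p) (c : G) (hc : c ∈ sigmaCore M)
    (hcP : c ∈ Subgroup.centralizer (P : Set G))
    (h3 : ∀ X : Subgroup G, X ≤ E → Nat.card X ∈ tau3 M →
      c ∈ Subgroup.centralizer (X : Set G)) :
    c ∈ Subgroup.centralizer (E : Set G) := by
  classical
  have hU := Cfsg.Agent.Lib.helper13.bgx_uniq hG
  apply cent_E_of_exists hG M hM E hE hT2 c hc
  intro s hs hsE
  have hFs : Fact s.Prime := ⟨hs⟩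
  have hFp : Fact p.Prime := ⟨hp.1⟩
  have hsσ : s ∉ sigma M := Cfsg.Agent.Lib.helper97.bg8_not_sigma hG M hM E hE s hs hsE
  have hsα : s ∉ alpha M := fun hα =>
    hsσ (Cfsg.Agent.Lib.helper8.bg_alpha_sub_sigma hG hU M hM hα)
  have hr2 : PRankLE s 2 M := by
    by_contra hh; exact hsα ⟨hs, hh⟩
  have hr1 : PRankLE s 1 M := by
    by_contra hh; exact hT2 s ⟨hs, hsσ, hr2, hh⟩
  have hsM : s ∣ Nat.card M := hsE.trans (Subgroup.card_dvd_of_le hE.1)
  by_cases hsd : s ∣ Nat.card ↥⁅M, M⁆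
  · have hs3 : s ∈ tau3 M := ⟨hs, hsσ, hsd, hr1⟩
    obtain ⟨x', hx'⟩ := exists_prime_orderOf_dvd_card' (G := ↥E) s hsE
    have hxo : orderOf (x' : G) = s := by rw [Subgroup.orderOf_coe, hx']
    have hX : Nat.card (Subgroup.zpowers (x' : G)) = s := by rw [Nat.card_zpowers, hxo]
    have hXE : Subgroup.zpowers (x' : G) ≤ E := by rw [Subgroup.zpowers_le]; exact x'.2
    have h := h3 _ hXE (hX.symm ▸ hs3)
    exact ⟨(x' : G), x'.2, hxo,
      (Subgroup.mem_centralizer_iff.mp h) _ (Subgroup.mem_zpowers _)⟩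
  · have hs1 : s ∈ tau1 M := ⟨hs, hsσ, hsM, hsd, hr1⟩
    by_cases hsp : s = p
    · obtain ⟨x', hx'⟩ := exists_prime_orderOf_dvd_card' (G := ↥P) p (by rw [hP])
      refine ⟨(x' : G), hPE x'.2, by rw [Subgroup.orderOf_coe, hx', hsp], ?_⟩
      exact (Subgroup.mem_centralizer_iff.mp hcP) _ x'.2
    · obtain ⟨y, hyE, hyo, hyP⟩ :=
        Cfsg.Agent.Lib.helper87.BGNA.exists_comm_of_tau1 hG M hM E hE p hp P hPE hP s hs1 hsp
      have hXE : Subgroup.zpowers y ≤ E := by rw [Subgroup.zpowers_le]; exact hyE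
      have hXP : Subgroup.zpowers y ≤ Subgroup.centralizer (P : Set G) := by
        rw [Subgroup.zpowers_le, Subgroup.mem_centralizer_iff]
        exact hyP
      have hX : Nat.card (Subgroup.zpowers y) = s := by rw [Nat.card_zpowers, hyo]
      have h28 := Cfsg.Agent.S1428.result hG M hM E hE p hp P hPE hP (Subgroup.zpowers y)
        (le_inf hXE hXP) (by rw [hX]; exact hs)
      have h := (Subgroup.mem_inf.mp (h28 (Subgroup.mem_inf.mpr ⟨hc, hcP⟩))).2
      exact ⟨y, hyE, hyo, (Subgroup.mem_centralizer_iff.mp h) _ (Subgroup.mem_zpowers _)⟩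

/-- PIECE K3. -/
theorem t3_fix [Finite G] (hG : IsMinSimpleOddOrder G) (hN : HNorm G) (hT2 : HTau2 G)
    (hE3 : HE3 G) (hT1 : HTau1 G) : HFix G := by
  intro M E R r hS p P hp hPE hP _ c hc
  obtain ⟨hc1, hcP⟩ := Subgroup.mem_inf.mp hc
  obtain ⟨hcMs, hcR⟩ := Subgroup.mem_inf.mp hc1
  have hM := hS.1.1
  have hE := hS.1.2.1
  have hcE := cent_E_common hG M hM E hE (hT2 M E R r hS) p hp P hPE hP c hcMs hcP (by
    intro X hXE hX3
    have h := hE3 M E R r hS X hXE hX3
    have h2 : c ∈ sigmaCore M ⊓ Subgroup.centralizer (X : Set G) := by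
      rw [h]; exact Subgroup.mem_inf.mpr ⟨hcMs, hcR⟩
    exact (Subgroup.mem_inf.mp h2).2)
  exact (Cfsg.Agent.S1426.result hG M hM E hE).1 (Subgroup.mem_inf.mpr ⟨hcMs, hcE⟩)

end Cfsg.Agent.Lib.helper90.BGT3
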