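/-
S1430 (O-c), piece F1 (`t3_centP : HCentP G`) of `tools/S1430_OC_Skel.lean.txt` (helper8's split):
in the singular `τ₃` context, `C_{M_σ}(P) ≤ C(E)` for `P ≤ E` of order in `τ₁(M)`.
-/
import Mathlib
import Cfsg.Agent.Lib.helper90.BGT3K3

set_option autoImplicit false
open Cfsg Cfsg.Agent.Lib.helper8.BGT3

namespace Cfsg.Agent.Lib.helper90.BGT3

variable {G : Type*} [Group G]

/-- PIECE F1. -/
theorem t3_centP [Finite G] (hG : IsMinSimpleOddOrder G) (hN : HNorm G) (hT2 : HTau2 G)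
    (hE3 : HE3 G) (hKC : HKillC G) : HCentP G := by
  intro M E R r hS p P hp hPE hP c hc
  obtain ⟨hcMs, hcP⟩ := Subgroup.mem_inf.mp hc
  have hM := hS.1.1
  have hE := hS.1.2.1
  have hRE : R ≤ E := hS.1.2.2.2.1
  have hRr : Nat.card R = r := hS.1.2.2.2.2
  have hr3 : r ∈ tau3 M := hS.1.2.2.1
  have hPR : P ≤ Subgroup.centralizer (R : Set G) := hKC M E R r hS p P hp hPE hP
  have hRP : R ≤ Subgroup.centralizer (P : Set G) := by
    intro x hx
    rw [Subgroup.mem_centralizer_iff]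
    intro g hg
    exact ((Subgroup.mem_centralizer_iff.mp (hPR hg)) x hx).symm
  have h28 := Cfsg.Agent.S1428.result hG M hM E hE p hp P hPE hP R (le_inf hRE hRP)
    (by rw [hRr]; exact hr3.1)
  have hcR : c ∈ Subgroup.centralizer (R : Set G) :=
    (Subgroup.mem_inf.mp (h28 (Subgroup.mem_inf.mpr ⟨hcMs, hcP⟩))).2
  exact cent_E_common hG M hM E hE (hT2 M E R r hS) p hp P hPE hP c hcMs hcP (by
    intro X hXE hX3
    have h := hE3 M E R r hS X hXE hX3
    have h2 : c ∈ sigmaCore M ⊓ Subgroup.centralizer (X : Set G) := by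
      rw [h]; exact Subgroup.mem_inf.mpr ⟨hcMs, hcR⟩
    exact (Subgroup.mem_inf.mp h2).2)

end Cfsg.Agent.Lib.helper90.BGT3
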