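import Mathlib
import Cfsg.Agent.Lib.helper13.BGExc
import Cfsg.Agent.Lib.helper8.BGTwelve
import Cfsg.Agent.Lib.helper71.BGTwelveAux
import Cfsg.Agent.Lib.helper54.BGSigmaNe
import Cfsg.Agent.Lib.helper54.UniqB
import Cfsg.Agent.S1403
import Cfsg.Agent.S1404

/-!
# Bender–Glauberman Proposition 12.4, Case 3 (iii): `p ∈ σ(M)`

If `A ≤ M` is elementary abelian of order `p ^ 2`, `p ∉ α(M)`, the derived subgroup of `M` is
nilpotent and `A` centralizes `M_σ`, then `p ∈ σ(M)` (using B-G 10.9 as a hypothesis).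
-/

set_option autoImplicit false

namespace Cfsg.Agent.Lib.helper90

open Cfsg Subgroup
open scoped commutatorElement

theorem bg124_sigma {G : Type*} [Group G] [Finite G] (hG : Cfsg.IsMinSimpleOddOrder G)
    (h9 : Cfsg.Agent.Lib.helper13.P10_9 G) (M : Subgroup G) (hM : IsCoatom M) (p : ℕ)
    [Fact p.Prime] (A : Subgroup G) (hAM : A ≤ M) (hAe : Cfsg.IsElementaryAbelian p A)
    (hA2 : Nat.card A = p ^ 2) (hpα : p ∉ Cfsg.alpha M)
    (hnilc : Group.IsNilpotent ↥(⁅M, M⁆ : Subgroup G))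
    (hcent : Cfsg.sigmaCore M ≤ Subgroup.centralizer (A : Set G)) : p ∈ Cfsg.sigma M := by
  classical
  have hpp : p.Prime := Fact.out
  have hU : Cfsg.Agent.Lib.helper8.BGUniqHyp G :=
    fun K hK h1 h2 => Cfsg.Agent.S1403.result hG K hK h1 h2
  have hF : Cfsg.Agent.Lib.helper8.BGFusHyp G := by
    intro M hM p hp X hXp hX1 hXM g hg
    have : Fact p.Prime := ⟨hp.1⟩
    exact (Cfsg.Agent.S1404.result hG M hM p hp X hXp hX1 hXM).1 g hg
  -- `r_p(M) ≤ 2`
  have hr2 : PRankLE p 2 M := by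
    by_contra h
    exact hpα ⟨hpp, h⟩
  have hAmax : ∀ B : Subgroup G, IsElementaryAbelian p B → A ≤ B → B = A :=
    fun B hB hAB =>
      Cfsg.Agent.Lib.helper8.bg_rank_two_max_elemAb hG hU M hM p hr2 A hAM hAe hA2 B hB hAB
  -- a prime `q ∈ σ(M)`
  obtain ⟨q, hqσ⟩ := Cfsg.Agent.Lib.helper54.sigma_nonempty hG M hM
  by_cases hqp : q = p
  · exact hqp ▸ hqσ
  obtain ⟨hq, hqM, Pq, hNQ⟩ := id hqσ
  have : Fact q.Prime := ⟨hq⟩
  obtain ⟨Q, hQdef⟩ : ∃ Q : Subgroup G, Q = (Pq : Subgroup M).map M.subtype := ⟨_, rfl⟩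
  rw [← hQdef] at hNQ
  have hQM : Q ≤ M := hQdef ▸ Subgroup.map_subtype_le _
  have hQp : IsPGroup q Q := hQdef ▸ Pq.isPGroup'.map M.subtype
  have hQσ : Q ≤ sigmaCore M :=
    Cfsg.Agent.Lib.helper8.bg_pgroup_le_sigmaCore hG hU hF M hM hqσ Q hQM hQp
  have hQA : Q ≤ centralizer (A : Set G) := hQσ.trans hcent
  have hAQ : A ≤ centralizer (Q : Set G) := by
    intro a ha
    rw [mem_centralizer_iff]
    intro x hx
    exact ((mem_centralizer_iff.mp (hQA hx)) a ha).symm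
  have hAN : A ≤ normalizer (Q : Set G) := hAQ.trans (Subgroup.centralizer_le_normalizer _)
  have hQidx : ¬ q ∣ Q.index :=
    hQdef ▸ Cfsg.Agent.Lib.helper71.BG12.not_dvd_index_map_of_sigma hqσ Pq
  have hQcard : q ∣ Nat.card Q := by
    have h1 : q ∣ Nat.card (Pq : Subgroup M) := Pq.dvd_card_of_dvd_card hqM
    rw [hQdef, Subgroup.card_subtype]
    exact h1
  have hQmaxp : ∀ R : Subgroup G, IsPGroup q R → Q ≤ R → R = Q := by
    intro R hR hQR
    have h1 := (hQp.toSylow hQidx).is_maximal' hR (by rw [IsPGroup.toSylow_coe]; exact hQR)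
    rw [IsPGroup.toSylow_coe] at h1
    exact h1
  have hQmem : Q ∈ maxInvSubgroups ⊤ A {q} := by
    refine ⟨⟨le_top, ?_, hAN⟩, ?_⟩
    · intro r hr hrd
      obtain ⟨n, hn⟩ := IsPGroup.iff_card.mp hQp
      rw [hn] at hrd
      exact (Nat.prime_dvd_prime_iff_eq hr hq).mp (hr.dvd_of_dvd_pow hrd)
    · rintro R ⟨-, hRπ, -⟩ hQR
      apply hQmaxp R _ hQR
      have hpos : Nat.card ↥R ≠ 0 := Nat.card_pos.ne'
      have h1 := Nat.eq_prime_pow_of_unique_prime_dvd (p := q) hpos (by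
        intro d hd hdR
        exact hRπ d hd hdR)
      exact IsPGroup.of_card h1
  have hqC : q ∣ Nat.card (centralizer (A : Set G)) :=
    hQcard.trans (Subgroup.card_dvd_of_le hQA)
  obtain ⟨S, hAS, hSle, -⟩ := h9 p A hAe hA2 hAmax q Q hq hqp hqC hQmem
  have hcomm : ⁅normalizer (Q : Set G), normalizer (Q : Set G)⁆ ≤ ⁅M, M⁆ :=
    Subgroup.commutator_mono hNQ hNQ
  have hSc : (S : Subgroup G) ≤ ⁅M, M⁆ := hSle.trans hcomm
  have hcM : (⁅M, M⁆ : Subgroup G) ≤ M := Subgroup.commutator_le_self M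
  have hSM : (S : Subgroup G) ≤ M := hSc.trans hcM
  have hMn : M ≤ normalizer ((⁅M, M⁆ : Subgroup G) : Set G) := by
    apply Cfsg.Agent.Lib.helper71.BG12.le_normalizer_of_forall_conj_mem
    intro m hm s hs
    have h1 : ⁅m, s⁆ ∈ (⁅M, M⁆ : Subgroup G) := Subgroup.commutator_mem_commutator hm (hcM hs)
    have h2 : m * s * m⁻¹ = ⁅m, s⁆ * s := by
      rw [commutatorElement_def]; group
    rw [h2]
    exact Subgroup.mul_mem _ h1 hs
  have hSidx : ¬ p ∣ (S : Subgroup G).relIndex ⁅M, M⁆ := by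
    intro h
    apply S.not_dvd_index
    rw [← Subgroup.relIndex_mul_index hSc]
    exact Dvd.dvd.mul_right h _
  have hMS : M ≤ normalizer ((S : Subgroup G) : Set G) :=
    Cfsg.Agent.Lib.helper71.BG12.le_normalizer_of_nilpotent hnilc hMn hSc S.isPGroup' hSidx
  have hA1 : A ≠ ⊥ := by
    intro h
    rw [h, Subgroup.card_bot] at hA2
    have := hpp.one_lt
    nlinarith
  have hS1 : (S : Subgroup G) ≠ ⊥ := by
    intro h
    apply hA1
    rw [eq_bot_iff, ← h]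
    exact hAS
  have hStop : (S : Subgroup G) ≠ ⊤ := fun h => hM.1 (top_le_iff.mp (h ▸ hSM))
  have hNtop : normalizer ((S : Subgroup G) : Set G) ≠ ⊤ :=
    Cfsg.Agent.Lib.helper71.BG12.normalizer_ne_top' hG hS1 hStop
  have hNS : normalizer ((S : Subgroup G) : Set G) = M :=
    Cfsg.Agent.Lib.helper54.ub_coatom_eq hM hMS hNtop
  exact Cfsg.Agent.Lib.helper71.BG12.mem_sigma_of_sylow S.isPGroup' S.not_dvd_index hSM hS1
    hNS.le

end Cfsg.Agent.Lib.helper90
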