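import Cfsg.Agent.Lib.helper88.GT5
import Cfsg.Agent.Lib.helper90.NormSys
import Cfsg.Agent.S5083

/-!
Constrained subsystems of non-inner saturated fusion systems, `p` odd (helper90).

If the saturated fusion system `F` over `S` has an automorphism that is not a `p`-element, then there
is a subgroup `Q` normal in `S` with `C_S(Q) ≤ Q` such that `N_F(Q)` has such an automorphism
(`exists_normal_centric_nonInner`); the normalizer system `N_F(Q)` over `S` is then a constrained
subsystem of `F` that is not the inner system (`exists_constrained_sub`).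

The proof uses the Glauberman–Thompson theorem for fusion systems (helper88, `gt_fusion`) to make
`O_p` nontrivial, and induction on `|S|` through the factor system modulo `O_p`.
-/

set_option autoImplicit false

namespace Cfsg.Agent.Lib.helper90

open Cfsg Cfsg.FusionSystem Cfsg.Agent.Lib.helper88

universe u

theorem exists_normal_centric_nonInner {p : ℕ} [Fact p.Prime] (hp : p ≠ 2) (n : ℕ) :
    ∀ {Ω : Type u} [Group Ω] (S : Subgroup Ω) [Finite S], IsPGroup p S → Nat.card S = n →
      ∀ F : FusionSystem S, F.IsSaturated p → NonInner p F →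
        ∃ Q : Subgroup Ω, Q ≤ S ∧ S ≤ Subgroup.normalizer (Q : Set Ω) ∧ centralizerIn S Q ≤ Q ∧
          NormNonInner p F Q := by
  induction n using Nat.strong_induction_on with
  | _ n IH =>
  intro Ω _ S _ hS hn F hF hNI
  have hWS : Cfsg.centerThompsonAOf S ≤ S := centerThompsonAOf_le S
  have hSN : S ≤ Subgroup.normalizer (Cfsg.centerThompsonAOf S : Set Ω) :=
    Subgroup.le_normalizer.trans (normalizer_le_normalizer_centerThompsonAOf S)
  have h1 := gt_fusion hp hS F hF hNI
  obtain ⟨E, hEdef⟩ : ∃ E : FusionSystem S, E = normSys F (Cfsg.centerThompsonAOf S) hWS hSN :=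
    ⟨_, rfl⟩
  have hEle : ∀ P : Subgroup Ω, E.Hom P ⊆ F.Hom P := by
    rw [hEdef]; exact normSys_le F _ hWS hSN
  have hEsat : E.IsSaturated p := by
    rw [hEdef]; exact normSys_saturated hS F hF _ hWS hSN
  have hENI : NonInner p E := by
    obtain ⟨P, α, hα, hk⟩ := h1
    refine ⟨P, α, ?_, hk⟩
    rw [hEdef, mem_normSys_iff]
    rw [Cfsg.Agent.Lib.helper89.mem_normalizerHom_iff] at hα
    exact ⟨hα.1, hα.2.2.2⟩
  have hWn : E.IsNormal (Cfsg.centerThompsonAOf S) := by
    rw [hEdef]; exact normSys_isNormal F _ hWS hSN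
  have hSne : S ≠ ⊥ := hNI.ne_bot
  have hWne : Cfsg.centerThompsonAOf S ≠ ⊥ := centerThompsonAOf_ne_bot S hS hSne
  have hQn : E.IsNormal E.core := isNormal_core E
  have hQS : E.core ≤ S := hQn.1
  have hWQ : Cfsg.centerThompsonAOf S ≤ E.core := le_sSup hWn
  have hQne : E.core ≠ ⊥ := by
    intro h
    apply hWne
    rw [h] at hWQ
    exact le_bot_iff.mp hWQ
  have hsc : E.StronglyClosed E.core := Cfsg.Agent.Lib.helper86.stronglyClosed_of_isNormal E hQn
  have hup : ∀ Q : Subgroup Ω, NormNonInner p E Q → NormNonInner p F Q :=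
    fun Q h => NormNonInner.of_le le_rfl hEle h
  have hfinQ : Finite ↥E.core := finite_of_le hQS
  have hSQ : S ≤ Subgroup.normalizer ((E.core : Subgroup Ω) : Set Ω) := by
    intro g hg
    apply mem_normalizer_of_conj_mem
    intro x hx
    exact Cfsg.Agent.Lib.helper89.conj_mem_of_stronglyClosed E hsc hg hx
  by_cases hcen : E.IsCentric E.core
  · refine ⟨E.core, hQS, hSQ, hcen.2 _ (isConj_refl E hQS), hup _ ?_⟩
    obtain ⟨P, α, hα, hk⟩ := hENI
    refine ⟨P, α, ?_, hk⟩
    rw [Cfsg.Agent.Lib.helper89.mem_normalizerHom_iff]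
    have hNS : normalizerIn S E.core = S := normalizerIn_eq_of_le_normalizer hSQ
    refine ⟨hα, ?_, ?_, ((Cfsg.Agent.Lib.helper89.isNormal_iff_forall_normExt E E.core).mp hQn).2 P _ hα⟩
    · rw [hNS]; exact (E.le_of_mem hα).1
    · intro x
      rw [hNS]; exact (E.le_of_mem hα).2 x
  · have hQ'n : (E.core.subgroupOf S).Normal := by
      refine ⟨fun x hx g => ?_⟩
      rw [Subgroup.mem_subgroupOf] at hx ⊢
      exact Cfsg.Agent.Lib.helper89.conj_mem_of_stronglyClosed E hsc g.2 hx
    obtain ⟨E', hE'⟩ := Cfsg.Agent.S5132.result p hS E E.core hsc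
    have hsm := Cfsg.Agent.S5134.result p hS E hEsat E.core hsc _ E' hE'
    have hE'sat : E'.IsSaturated p := Cfsg.Agent.S5133.result p hS E hEsat E' _ hsm
    have hker : ∀ s : S, (QuotientGroup.mk' (E.core.subgroupOf S)) s = 1 ↔ (s : Ω) ∈ E.core :=
      hE'.2.1
    have hTp : IsPGroup p ↥(⊤ : Subgroup (S ⧸ E.core.subgroupOf S)) :=
      (hS.to_quotient (E.core.subgroupOf S)).to_subgroup ⊤
    have hcardlt : Nat.card ↥(⊤ : Subgroup (S ⧸ E.core.subgroupOf S)) < n := by
      rw [Subgroup.card_top, ← hn,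
        Subgroup.card_eq_card_quotient_mul_card_subgroup (E.core.subgroupOf S)]
      have h1 : Nat.card ↥(E.core.subgroupOf S) = Nat.card ↥E.core :=
        Nat.card_congr (Subgroup.subgroupOfEquivOfLe hQS).toEquiv
      have h2 : 1 < Nat.card ↥E.core := (Subgroup.one_lt_card_iff_ne_bot _).mpr hQne
      rw [h1]
      exact (Nat.lt_mul_iff_one_lt_right Nat.card_pos).mpr h2
    have hE'NI : NonInner p E' := by
      by_contra h
      exact hcen (isCentric_core_of_factor hS E hEsat hsm.1 hker h)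
    obtain ⟨Q', hQ'S, hQ'N, hQ'c, hQ'NI⟩ :=
      IH _ hcardlt (⊤ : Subgroup (S ⧸ E.core.subgroupOf S)) hTp rfl E' hE'sat hE'NI
    have hLS := Cfsg.Agent.Lib.helper87.preimageAlong_le
      (QuotientGroup.mk' (E.core.subgroupOf S)) Q'
    have hmemL := Cfsg.Agent.Lib.helper87.mem_preimageAlong
      (QuotientGroup.mk' (E.core.subgroupOf S)) Q'
    have hfinL : Finite ↥(FusionSystem.preimageAlong (QuotientGroup.mk' (E.core.subgroupOf S))
      Q') := finite_of_le hLS
    refine ⟨FusionSystem.preimageAlong (QuotientGroup.mk' (E.core.subgroupOf S)) Q', hLS, ?_, ?_,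
      hup _ (hQ'NI.lift hsm)⟩
    · intro x hx
      apply mem_normalizer_of_conj_mem
      intro l hl
      obtain ⟨hlS, hlW⟩ := (hmemL l).mp hl
      rw [hmemL]
      refine ⟨S.mul_mem (S.mul_mem hx hlS) (S.inv_mem hx), ?_⟩
      have h3 : (⟨x * l * x⁻¹, S.mul_mem (S.mul_mem hx hlS) (S.inv_mem hx)⟩ : S) =
          ⟨x, hx⟩ * ⟨l, hlS⟩ * ⟨x, hx⟩⁻¹ := rfl
      rw [h3, map_mul, map_mul, map_inv]
      have h4 : (QuotientGroup.mk' (E.core.subgroupOf S)) ⟨x, hx⟩ ∈
          Subgroup.normalizer ((Q' : Subgroup (S ⧸ E.core.subgroupOf S)) : Set _) :=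
        hQ'N (Subgroup.mem_top _)
      exact (Subgroup.mem_normalizer_iff.mp h4 _).mp hlW
    · intro c hc
      rw [hmemL]
      refine ⟨hc.1, ?_⟩
      apply hQ'c
      refine ⟨Subgroup.mem_top _, ?_⟩
      show (QuotientGroup.mk' (E.core.subgroupOf S)) ⟨c, hc.1⟩ ∈
        Subgroup.centralizer ((Q' : Subgroup (S ⧸ E.core.subgroupOf S)) : Set _)
      rw [Subgroup.mem_centralizer_iff]
      intro q' hq'
      obtain ⟨s, rfl⟩ := QuotientGroup.mk'_surjective (E.core.subgroupOf S) q'
      have hsL : (s : Ω) ∈ FusionSystem.preimageAlong (QuotientGroup.mk' (E.core.subgroupOf S))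
          Q' := (hmemL s).mpr ⟨s.2, hq'⟩
      have h5 := (Subgroup.mem_centralizer_iff.mp hc.2) (s : Ω) hsL
      rw [← map_mul, ← map_mul]
      congr 1
      exact Subtype.ext h5

/-- For `p` odd, a saturated fusion system over `S` that is not the inner system contains a
constrained subsystem over `S` that is not the inner system. -/
theorem exists_constrained_sub {Ω : Type u} [Group Ω] {S : Subgroup Ω} [Finite S] {p : ℕ}
    [Fact p.Prime] (hp : p ≠ 2) (hS : IsPGroup p S) (F : FusionSystem S) (hF : F.IsSaturated p)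
    (hne : ∃ P : Subgroup Ω, F.Hom P ≠ (Cfsg.innerFusionSystem S).Hom P) :
    ∃ E : FusionSystem S, E ≤ F ∧ E.IsConstrained p ∧
      ∃ P : Subgroup Ω, E.Hom P ≠ (Cfsg.innerFusionSystem S).Hom P := by
  have hNI : NonInner p F := by
    by_contra h
    have hpg : ∀ P : Subgroup Ω, P ≤ S → IsPGroup p (F.autGroup P) :=
      fun P hP => isPGroup_autGroup_of_not_nonInner F h hP
    have hFeq := Cfsg.Agent.S5083.result p hS F hF hpg
    obtain ⟨P, hP⟩ := hne
    apply hP
    rw [hFeq]
  obtain ⟨Q, hQS, hQn, hQc, hQN⟩ := exists_normal_centric_nonInner hp _ S hS rfl F hF hNI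
  refine ⟨normSys F Q hQS hQn, normSys_le F Q hQS hQn,
    normSys_isConstrained hS F hF Q hQS hQn hQc, ?_⟩
  obtain ⟨P, α, hα, hk⟩ := hQN
  refine ⟨P, fun heq => ?_⟩
  have hαE : P.subtype.comp α.toMonoidHom ∈ (normSys F Q hQS hQn).Hom P := by
    rw [mem_normSys_iff]
    rw [Cfsg.Agent.Lib.helper89.mem_normalizerHom_iff] at hα
    exact ⟨hα.1, hα.2.2.2⟩
  rw [heq] at hαE
  obtain ⟨-, g, hg, h⟩ := hαE
  obtain ⟨k, hgk⟩ := hS ⟨g, hg⟩
  have hgk' : g ^ (p ^ k) = 1 := congrArg Subtype.val hgk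
  apply hk k
  apply pow_eq_one_of_semiconj_inj P.subtype P.subtype_injective α (MulAut.conj g)
  · intro x
    exact h x
  · rw [← map_pow, hgk', map_one]

end Cfsg.Agent.Lib.helper90
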