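import Cfsg.Agent.Lib.helper90.CseTR
import Cfsg.Agent.Lib.helper88.CSE1
import Cfsg.Agent.Lib.helper88.Saturated2
import Cfsg.Agent.Lib.helper88.NormalSub
import Cfsg.Agent.Lib.helper89.FusionClosed
import Cfsg.Agent.Lib.helper89.FusionSat

/-!
The automorphism step of the strong closure of `Y = C_S(E)`: for a fully normalized subgroup
`U = (U ⊓ T)(U ⊓ Y)` not containing `T`, every `F`-automorphism of `U`, restricted to `U ⊓ Y`,
extends to a map of `F` on `T ⊔ (U ⊓ Y)`, given the same statement for all maps defined on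
subgroups with a larger intersection with `T`.
-/

set_option autoImplicit false

namespace Cfsg.Agent.Lib.helper90

open Cfsg Cfsg.FusionSystem Cfsg.Agent.Lib.helper88

variable {Ω : Type*} [Group Ω] {S : Subgroup Ω}

/-- `b'` is the restriction of the automorphism `b` of `U` to `U ⊓ T`. -/
def CseCompat (T U : Subgroup Ω) (b : MulAut U) (b' : MulAut ↥(U ⊓ T)) : Prop :=
  ∀ x : ↥(U ⊓ T), ((b (Subgroup.inclusion inf_le_left x) : U) : Ω) = ((b' x : ↥(U ⊓ T)) : Ω)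

theorem CseCompat.mul {T U : Subgroup Ω} {b₁ b₂ : MulAut U} {b₁' b₂' : MulAut ↥(U ⊓ T)}
    (h₁ : CseCompat T U b₁ b₁') (h₂ : CseCompat T U b₂ b₂') :
    CseCompat T U (b₁ * b₂) (b₁' * b₂') := by
  intro x
  have h : b₂ (Subgroup.inclusion inf_le_left x) = Subgroup.inclusion inf_le_left (b₂' x) :=
    Subtype.ext (h₂ x)
  rw [MulAut.mul_apply, MulAut.mul_apply, h]
  exact h₁ (b₂' x)

theorem CseCompat.inv {T U : Subgroup Ω} {b : MulAut U} {b' : MulAut ↥(U ⊓ T)}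
    (h : CseCompat T U b b') : CseCompat T U b⁻¹ b'⁻¹ := by
  intro x
  have h1 : b (Subgroup.inclusion inf_le_left (b'⁻¹ x)) = Subgroup.inclusion inf_le_left x := by
    apply Subtype.ext
    rw [h (b'⁻¹ x)]
    simp
  have h2 : b⁻¹ (Subgroup.inclusion inf_le_left x)
      = Subgroup.inclusion inf_le_left (b'⁻¹ x) := by
    rw [← h1, MulAut.inv_apply_self]
  rw [h2]
  rfl

/-- The subgroup `A₁` of `Aut_F(U)`: automorphisms acting trivially on `U / (U ⊓ T)` whose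
restriction to `U ⊓ T` lies in `Aut_E(U ⊓ T)`. -/
def cseA1 (F : FusionSystem S) {T : Subgroup Ω} (E : FusionSystem T) (U : Subgroup Ω) :
    Subgroup (MulAut U) where
  carrier := {b | b ∈ F.autGroup U ∧ (∀ u : U, (u : Ω)⁻¹ * ((b u : U) : Ω) ∈ T) ∧
    ∃ b' ∈ E.autGroup (U ⊓ T), CseCompat T U b b'}
  one_mem' := ⟨one_mem _, fun u => by simp, 1, one_mem _, fun x => rfl⟩
  mul_mem' := by
    rintro b₁ b₂ ⟨h₁F, h₁T, b₁', h₁E, h₁c⟩ ⟨h₂F, h₂T, b₂', h₂E, h₂c⟩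
    refine ⟨mul_mem h₁F h₂F, fun u => ?_, b₁' * b₂', mul_mem h₁E h₂E, h₁c.mul h₂c⟩
    have h := T.mul_mem (h₂T u) (h₁T (b₂ u))
    rw [MulAut.mul_apply]
    convert h using 1
    group
  inv_mem' := by
    rintro b ⟨hF, hT, b', hE, hc⟩
    refine ⟨inv_mem hF, fun u => ?_, b'⁻¹, inv_mem hE, hc.inv⟩
    have h := T.inv_mem (hT (b⁻¹ u))
    rw [MulAut.apply_inv_self] at h
    convert h using 1
    group

/-- Conjugation by an element of `N_T(U ⊓ T)` normalizing `U` lies in `A₁`. -/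
theorem cse_conjAut_mem_A1 (F : FusionSystem S) {T : Subgroup Ω} (E : FusionSystem T)
    (hT : F.StronglyClosed T) {U : Subgroup Ω} (hUS : U ≤ S) {g : Ω} (hgT : g ∈ T)
    (hgU : g ∈ Subgroup.normalizer (U : Set Ω))
    (hgP : g ∈ Subgroup.normalizer ((U ⊓ T : Subgroup Ω) : Set Ω)) :
    conjAut U g hgU ∈ cseA1 F E U := by
  refine ⟨autInducedBy_le_autGroup F hUS (conjAut_mem S U g hgU (hT.1 hgT)), fun u => ?_,
    conjAut (U ⊓ T) g hgP,
    autInducedBy_le_autGroup E inf_le_right (conjAut_mem T (U ⊓ T) g hgP hgT), fun x => rfl⟩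
  rw [conjAut_apply]
  have h1 : (u : Ω)⁻¹ * g * ((u : Ω)⁻¹)⁻¹ ∈ T :=
    helper89.conj_mem_of_stronglyClosed F hT (S.inv_mem (hUS u.2)) hgT
  have h2 := T.mul_mem h1 (T.inv_mem hgT)
  convert h2 using 1
  group

/-- `A₁` is normalized by `Aut_F(U)`. -/
theorem cseA1_conj_mem [Finite S] (F : FusionSystem S) {T : Subgroup Ω} (E : FusionSystem T)
    (hI : E.IsInvariantIn F) {U : Subgroup Ω} (hUS : U ≤ S) {a d : MulAut U}
    (ha : a ∈ F.autGroup U) (hd : d ∈ cseA1 F E U) : a * d * a⁻¹ ∈ cseA1 F E U := by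
  obtain ⟨hdF, hdT, d', hd'E, hdc⟩ := hd
  have hT : F.StronglyClosed T := hI.2.1
  have haF := (mem_autGroup_iff' F hUS a).mp ha
  have hres := restrict_mem F (inf_le_left : U ⊓ T ≤ U) haF
  have hval : ∀ x : ↥(U ⊓ T),
      ((U.subtype.comp a.toMonoidHom).comp (Subgroup.inclusion inf_le_left)) x ∈ U ⊓ T := by
    intro x
    exact Subgroup.mem_inf.mpr ⟨(a _).2, helper89.aut_mem_of_stronglyClosed F hT hUS ha _ x.2.2⟩
  obtain ⟨a', ha'F, ha'x⟩ := CSE.exists_aut_of_maps F hres hval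
  have hac : CseCompat T U a a' := fun x => (ha'x x).symm
  refine ⟨mul_mem (mul_mem ha hdF) (inv_mem ha), fun u => ?_, a' * d' * a'⁻¹,
    conj_mem_autGroup_of_invariant hI inf_le_right ha'F hd'E, (hac.mul hdc).mul hac.inv⟩
  have h2 := helper89.aut_mem_of_stronglyClosed F hT hUS ha ((a⁻¹ u)⁻¹ * d (a⁻¹ u)) (by
    rw [Subgroup.coe_mul, Subgroup.coe_inv]
    exact hdT (a⁻¹ u))
  rw [map_mul, map_inv, MulAut.apply_inv_self, Subgroup.coe_mul, Subgroup.coe_inv] at h2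
  exact h2

/-- The automorphism `b` of `U`, restricted to `U ⊓ Y`, extends to a map of `F` on
`T ⊔ (U ⊓ Y)`. -/
def CseGood (F : FusionSystem S) (T Y U : Subgroup Ω) (b : MulAut U) : Prop :=
  ∃ ψ ∈ F.Hom (T ⊔ (U ⊓ Y)), ∀ x : ↥(U ⊓ Y),
    ψ (Subgroup.inclusion le_sup_right x) = ((b (Subgroup.inclusion inf_le_left x) : U) : Ω)

theorem cseGood_mul [Finite S] (F : FusionSystem S) {T : Subgroup Ω} (E : FusionSystem T)
    (hEF : E.IsSubsystemOf F) (hT : F.StronglyClosed T) (hinv : AutInvariant E F)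
    {Y : Subgroup Ω} (hY : Y ≤ centralizerIn S T)
    (hEY : ∀ P : Subgroup Ω, E.Hom P ⊆ F.centralizerHom Y P)
    (hmax : ∀ Y' : Subgroup Ω, Y' ≤ centralizerIn S T →
      (∀ P : Subgroup Ω, E.Hom P ⊆ F.centralizerHom Y' P) → Y' ≤ Y)
    {U : Subgroup Ω} {b₁ b₂ : MulAut U} (h1 : CseGood F T Y U b₁) (h2 : CseGood F T Y U b₂) :
    CseGood F T Y U (b₁ * b₂) := by
  obtain ⟨ψ₁, hψ₁, hψ₁eq⟩ := h1
  obtain ⟨ψ₂, hψ₂, hψ₂eq⟩ := h2
  have hb₂Y : ∀ x : ↥(U ⊓ Y), ((b₂ (Subgroup.inclusion inf_le_left x) : U) : Ω) ∈ U ⊓ Y := by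
    intro x
    refine Subgroup.mem_inf.mpr ⟨(b₂ _).2, ?_⟩
    rw [← hψ₂eq]
    exact cse_tr_le F E hEF hT hinv hY hEY hmax (inf_le_right : U ⊓ Y ≤ Y) hψ₂ x
  have hval₂ : ∀ z : ↥(T ⊔ (U ⊓ Y)), ψ₂ z ∈ T ⊔ (U ⊓ Y) := by
    have hle : T ⊔ (U ⊓ Y) ≤ ((T ⊔ (U ⊓ Y)).comap ψ₂).map (T ⊔ (U ⊓ Y)).subtype := by
      apply sup_le
      · intro t ht
        refine ⟨Subgroup.inclusion le_sup_left ⟨t, ht⟩, ?_, rfl⟩
        rw [SetLike.mem_coe, Subgroup.mem_comap]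
        exact Subgroup.mem_sup_left (CSE.map_mem_sc F hT hψ₂ _ ht)
      · intro y hy
        refine ⟨Subgroup.inclusion le_sup_right ⟨y, hy⟩, ?_, rfl⟩
        rw [SetLike.mem_coe, Subgroup.mem_comap, hψ₂eq]
        exact Subgroup.mem_sup_right (hb₂Y ⟨y, hy⟩)
    intro z
    obtain ⟨z', hz', hzz'⟩ := hle z.2
    have h1 : z' = z := Subtype.ext hzz'
    rw [← h1]
    exact hz'
  refine ⟨ψ₁.comp (ψ₂.codRestrict (T ⊔ (U ⊓ Y)) hval₂), F.comp_mem hψ₂ hψ₁ hval₂, fun x => ?_⟩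
  have h3 : (ψ₂.codRestrict (T ⊔ (U ⊓ Y)) hval₂) (Subgroup.inclusion le_sup_right x)
      = Subgroup.inclusion le_sup_right
        (⟨((b₂ (Subgroup.inclusion inf_le_left x) : U) : Ω), hb₂Y x⟩ : ↥(U ⊓ Y)) :=
    Subtype.ext (hψ₂eq x)
  show ψ₁ ((ψ₂.codRestrict (T ⊔ (U ⊓ Y)) hval₂) (Subgroup.inclusion le_sup_right x)) = _
  rw [h3, hψ₁eq]
  rfl

/-- Elements of `A₁` are good. -/
theorem cseGood_of_mem_A1 [Finite S] {p : ℕ} [Fact p.Prime] (hS : IsPGroup p S)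
    (F : FusionSystem S) (hF : F.IsSaturated p) {T : Subgroup Ω} (E : FusionSystem T)
    (hI : E.IsInvariantIn F) {Y : Subgroup Ω} (hY : Y ≤ centralizerIn S T)
    (hEY : ∀ P : Subgroup Ω, E.Hom P ⊆ F.centralizerHom Y P)
    (hmax : ∀ Y' : Subgroup Ω, Y' ≤ centralizerIn S T →
      (∀ P : Subgroup Ω, E.Hom P ⊆ F.centralizerHom Y' P) → Y' ≤ Y)
    {U : Subgroup Ω} (hUfn : F.IsFullyNormalized U) (hUeq : U = (U ⊓ T) ⊔ (U ⊓ Y))
    {b : MulAut U} (hb : b ∈ cseA1 F E U) : CseGood F T Y U b := by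
  obtain ⟨hbF, hbT, b', hb'E, hbc⟩ := hb
  have hEF := hI.1
  have hT : F.StronglyClosed T := hI.2.1
  have hinv : AutInvariant E F := hI.2.2.1
  have hUS := hUfn.1
  have hTS := hT.1
  have hYQ : U ⊓ Y ≤ centralizerIn S T := inf_le_right.trans hY
  have hε := (mem_autGroup_iff' E (inf_le_right : U ⊓ T ≤ T) b').mp hb'E
  obtain ⟨hεF, -, -, εh, hεh, hεhP, hεhY⟩ := hEY (U ⊓ T) hε
  have hUle : U ≤ (U ⊓ T) ⊔ Y := hUeq.le.trans (sup_le_sup_left inf_le_right _)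
  have hεU := restrict_mem F hUle hεh
  have hdec : ∀ u : U, ∃ (x : ↥(U ⊓ T)) (y : ↥(U ⊓ Y)), (x : Ω) * y = u := by
    intro u
    obtain ⟨a, ha, c, hc, hac⟩ :=
      CSE.exists_mul_of_mem (inf_le_right : U ⊓ T ≤ T) hYQ (hUeq.le u.2)
    exact ⟨⟨a, ha⟩, ⟨c, hc⟩, hac⟩
  have hεval : ∀ (u : U) (x : ↥(U ⊓ T)) (y : ↥(U ⊓ Y)), (x : Ω) * y = u →
      εh (Subgroup.inclusion hUle u)
        = ((b (Subgroup.inclusion inf_le_left x) : U) : Ω) * y := by
    intro u x y hxy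
    have h1 : Subgroup.inclusion hUle u = Subgroup.inclusion le_sup_left x
        * Subgroup.inclusion le_sup_right (⟨y, y.2.2⟩ : Y) := Subtype.ext hxy.symm
    rw [h1, map_mul, hεhP, hεhY, hbc x]
    rfl
  have hvalU : ∀ u : U, (εh.comp (Subgroup.inclusion hUle)) u ∈ U := by
    intro u
    obtain ⟨x, y, hxy⟩ := hdec u
    show εh (Subgroup.inclusion hUle u) ∈ U
    rw [hεval u x y hxy]
    exact U.mul_mem (b _).2 y.2.1
  obtain ⟨e, heF, hex⟩ := CSE.exists_aut_of_maps F hεU hvalU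
  have hex' : ∀ u : U, ((e u : U) : Ω) = εh (Subgroup.inclusion hUle u) := hex
  have heT : ∀ u : U, (u : Ω) ∈ T → e u = b u := by
    intro u hu
    apply Subtype.ext
    rw [hex', hεval u ⟨u, Subgroup.mem_inf.mpr ⟨u.2, hu⟩⟩ 1 (by simp)]
    simp only [OneMemClass.coe_one, mul_one]
    rfl
  have heY : ∀ u : U, (u : Ω) ∈ Y → e u = u := by
    intro u hu
    apply Subtype.ext
    rw [hex', hεval u 1 ⟨u, Subgroup.mem_inf.mpr ⟨u.2, hu⟩⟩ (by simp)]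
    simp
  have heMod : ∀ u : U, (u : Ω)⁻¹ * ((e u : U) : Ω) ∈ T := by
    intro u
    obtain ⟨x, y, hxy⟩ := hdec u
    rw [hex', hεval u x y hxy, ← hxy]
    have h1 : (x : Ω)⁻¹ * ((b (Subgroup.inclusion inf_le_left x) : U) : Ω) ∈ T :=
      hbT (Subgroup.inclusion inf_le_left x)
    have h2 := helper89.conj_mem_of_stronglyClosed F hT (S.inv_mem (hUS y.2.1)) h1
    convert h2 using 1
    group
  have hδF : e⁻¹ * b ∈ F.autGroup U := mul_mem (inv_mem heF) hbF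
  have hδ1 : ∀ u : U, (u : Ω)⁻¹ * (((e⁻¹ * b) u : U) : Ω) ∈ T := by
    intro u
    have hw : e ((e⁻¹ * b) u) = b u := by
      rw [MulAut.mul_apply, MulAut.apply_inv_self]
    have h1 := hbT u
    have h2 := heMod ((e⁻¹ * b) u)
    rw [hw] at h2
    have h3 := T.mul_mem h1 (T.inv_mem h2)
    convert h3 using 1
    group
  have hδ2 : ∀ u : U, (u : Ω) ∈ T → (e⁻¹ * b) u = u := by
    intro u hu
    rw [MulAut.mul_apply, ← heT u hu, MulAut.inv_apply_self]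
  have hδS := CSE.stab_mem_autInducedBy hS F hF hT hUfn hδF hδ1 hδ2
  obtain ⟨s, hs, hsx⟩ := (mem_autInducedBy_iff S U _).mp hδS
  refine ⟨conjHom (T ⊔ (U ⊓ Y)) s, F.conj_mem (sup_le hTS (inf_le_left.trans hUS)) hs,
    fun x => ?_⟩
  have hw := hsx (Subgroup.inclusion inf_le_left x)
  have hwY : (((e⁻¹ * b) (Subgroup.inclusion inf_le_left x) : U) : Ω) ∈ Y := by
    rw [hw]
    exact cse_Y_normal F E hEF hT hinv hY hEY hmax hs x.2.2
  have h1 : e ((e⁻¹ * b) (Subgroup.inclusion inf_le_left x))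
      = b (Subgroup.inclusion inf_le_left x) := by
    rw [MulAut.mul_apply, MulAut.apply_inv_self]
  rw [heY _ hwY] at h1
  rw [← h1, hw]
  rfl

/-- Elements of `Aut_F(U)` normalizing `Aut_S(U) ⊓ A₁` are good, by induction. -/
theorem cseGood_of_normalizes [Finite S] {p : ℕ} [Fact p.Prime] (hS : IsPGroup p S)
    (F : FusionSystem S) (hF : F.IsSaturated p) {T : Subgroup Ω} (E : FusionSystem T)
    (hT : F.StronglyClosed T) {Y : Subgroup Ω} (hY : Y ≤ centralizerIn S T)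
    {U : Subgroup Ω} (hUfn : F.IsFullyNormalized U) (hUeq : U = (U ⊓ T) ⊔ (U ⊓ Y))
    (hlt : ¬ T ≤ U)
    (hIH : ∀ V : Subgroup Ω, V ≤ S → Nat.card ↥(U ⊓ T) < Nat.card ↥(V ⊓ T) →
      ∀ ν ∈ F.Hom V, ∃ ψ ∈ F.Hom (T ⊔ (V ⊓ Y)), ∀ x : ↥(V ⊓ Y),
        ψ (Subgroup.inclusion le_sup_right x) = ν (Subgroup.inclusion inf_le_left x))
    {n : MulAut U} (hn : n ∈ F.autGroup U)
    (hnorm : ∀ d ∈ autInducedBy S U ⊓ cseA1 F E U, n * d * n⁻¹ ∈ autInducedBy S U) :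
    CseGood F T Y U n := by
  have hUS := hUfn.1
  have hTS := hT.1
  have hfinU : Finite U := finite_of_le hUS
  obtain ⟨-, hrec⟩ := fullyAutomized_receptive_of_fullyNormalized hS F hF hUfn
  have hφ : U.subtype.comp n.toMonoidHom ∈ F.Hom U := (mem_autGroup_iff' F hUS n).mp hn
  have hrange : (U.subtype.comp n.toMonoidHom).range = U := by
    ext y
    constructor
    · rintro ⟨x, rfl⟩
      exact (n x).2
    · intro hy
      exact ⟨n.symm ⟨y, hy⟩, by simp⟩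
  have hYQ : U ⊓ Y ≤ centralizerIn S T := inf_le_right.trans hY
  have hNU : ∀ g ∈ normalizerIn T (U ⊓ T), g ∈ Subgroup.normalizer (U : Set Ω) := by
    intro g hg
    apply mem_normalizer_of_conj_mem
    intro u hu
    obtain ⟨a, ha, c, hc, hac⟩ :=
      CSE.exists_mul_of_mem (inf_le_right : U ⊓ T ≤ T) hYQ (hUeq.le hu)
    have h1 : g * a * g⁻¹ ∈ U ⊓ T := (Subgroup.mem_normalizer_iff.mp hg.2 a).mp ha
    have h2 : c * g⁻¹ = g⁻¹ * c := CSE.comm_of_mem hYQ hc (T.inv_mem hg.1)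
    have h3 : g * u * g⁻¹ = (g * a * g⁻¹) * c := by
      rw [← hac]
      calc g * (a * c) * g⁻¹ = g * a * (c * g⁻¹) := by group
        _ = g * a * (g⁻¹ * c) := by rw [h2]
        _ = (g * a * g⁻¹) * c := by group
    rw [h3]
    exact U.mul_mem h1.1 hc.1
  have hle : normalizerIn T (U ⊓ T) ⊔ U ≤ extender S U (U.subtype.comp n.toMonoidHom) := by
    apply sup_le
    · intro g hg
      have hgU := hNU g hg
      have hd : conjAut U g hgU ∈ autInducedBy S U ⊓ cseA1 F E U :=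
        Subgroup.mem_inf.mpr ⟨conjAut_mem S U g hgU (hTS hg.1),
          cse_conjAut_mem_A1 F E hT hUS hg.1 hgU hg.2⟩
      obtain ⟨h, hh, hhx⟩ := (mem_autInducedBy_iff S U _).mp (hnorm _ hd)
      rw [mem_extender_iff]
      refine ⟨hTS hg.1, hgU, h, hh, fun x hx => ?_⟩
      have h1 := hhx (n x)
      have h2 : (n * conjAut U g hgU * n⁻¹) (n x) = n ⟨g * x * g⁻¹, hx⟩ := by
        rw [MulAut.mul_apply, MulAut.mul_apply, MulAut.inv_apply_self]
        rfl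
      rw [h2] at h1
      exact h1
    · exact le_extender F hφ
  obtain ⟨ρ, hρ, hρU⟩ := helper89.exists_extension F hrec hφ hrange
    (normalizerIn T (U ⊓ T) ⊔ U) (fun g hg => (mem_extender_iff _ _ _ g).mp (hle hg))
  have hNS : normalizerIn T (U ⊓ T) ⊔ U ≤ S := (F.le_of_mem hρ).1
  have hUN : U ≤ normalizerIn T (U ⊓ T) ⊔ U := le_sup_right
  have hcard : Nat.card ↥(U ⊓ T) < Nat.card ↥((normalizerIn T (U ⊓ T) ⊔ U) ⊓ T) := by
    obtain ⟨w, hwT, hwn, hwU⟩ := helper89.exists_normalizing_not_mem hS hTS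
      ((inf_le_left : U ⊓ T ≤ U).trans hUS)
      (fun g hg t ht => helper89.conj_mem_of_stronglyClosed F hT hg ht)
      (fun h => hlt (h.trans inf_le_left))
    have hlt' : U ⊓ T < (normalizerIn T (U ⊓ T) ⊔ U) ⊓ T := by
      refine lt_of_le_of_ne (inf_le_inf_right T hUN) (fun heq => hwU ?_)
      rw [heq]
      exact Subgroup.mem_inf.mpr
        ⟨Subgroup.mem_sup_left (Subgroup.mem_inf.mpr ⟨hwT, hwn⟩), hwT⟩
    exact helper89.card_lt_of_lt hlt' (inf_le_right.trans hTS)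
  obtain ⟨ψ, hψ, hψeq⟩ := hIH _ hNS hcard ρ hρ
  have hle2 : T ⊔ (U ⊓ Y) ≤ T ⊔ ((normalizerIn T (U ⊓ T) ⊔ U) ⊓ Y) :=
    sup_le_sup_left (inf_le_inf_right Y hUN) T
  refine ⟨ψ.comp (Subgroup.inclusion hle2), restrict_mem F hle2 hψ, fun x => ?_⟩
  have hx : (x : Ω) ∈ (normalizerIn T (U ⊓ T) ⊔ U) ⊓ Y :=
    Subgroup.mem_inf.mpr ⟨hUN x.2.1, x.2.2⟩
  exact (hψeq ⟨x, hx⟩).trans (hρU (x : Ω) x.2.1 (hUN x.2.1))

/-- **The automorphism step.** -/
theorem cse_beta_step [Finite S] (p : ℕ) [Fact p.Prime] (hS : IsPGroup p S)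
    (F : FusionSystem S) (hF : F.IsSaturated p) {T : Subgroup Ω} (E : FusionSystem T)
    (hE : E.IsNormalIn F p) (Y : Subgroup Ω) (hY : Y ≤ centralizerIn S T)
    (hEY : ∀ P : Subgroup Ω, E.Hom P ⊆ F.centralizerHom Y P)
    (hmax : ∀ Y' : Subgroup Ω, Y' ≤ centralizerIn S T →
      (∀ P : Subgroup Ω, E.Hom P ⊆ F.centralizerHom Y' P) → Y' ≤ Y)
    (U : Subgroup Ω) (hUfn : F.IsFullyNormalized U) (hUeq : U = (U ⊓ T) ⊔ (U ⊓ Y))
    (hlt : ¬ T ≤ U)
    (hIH : ∀ V : Subgroup Ω, V ≤ S → Nat.card ↥(U ⊓ T) < Nat.card ↥(V ⊓ T) →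
      ∀ ν ∈ F.Hom V, ∃ ψ ∈ F.Hom (T ⊔ (V ⊓ Y)), ∀ x : ↥(V ⊓ Y),
        ψ (Subgroup.inclusion le_sup_right x) = ν (Subgroup.inclusion inf_le_left x))
    (b : MulAut U) (hb : b ∈ F.autGroup U) :
    ∃ ψ ∈ F.Hom (T ⊔ (U ⊓ Y)), ∀ x : ↥(U ⊓ Y),
      ψ (Subgroup.inclusion le_sup_right x)
        = ((b (Subgroup.inclusion inf_le_left x) : U) : Ω) := by
  have hI : E.IsInvariantIn F := hE.1.2.2
  have hEF := hI.1
  have hT : F.StronglyClosed T := hI.2.1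
  have hinv : AutInvariant E F := hI.2.2.1
  have hUS := hUfn.1
  obtain ⟨hfa, -⟩ := fullyAutomized_receptive_of_fullyNormalized hS F hF hUfn
  have hAS : IsPGroup p ↥(autInducedBy S U ⊓ cseA1 F E U) :=
    (isPGroup_autInducedBy hS U).to_le inf_le_left
  obtain ⟨k, hk, hkH⟩ := helper89.exists_conj_into_autS_of_normal F hfa (cseA1 F E U)
    (fun d hd => hd.1) (fun a ha d hd => cseA1_conj_mem F E hI hUS ha hd)
    ((autInducedBy S U ⊓ cseA1 F E U).map (MulAut.conj b).toMonoidHom)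
    (by
      rintro _ ⟨d, hd, rfl⟩
      exact cseA1_conj_mem F E hI hUS hb hd.2)
    (hAS.map _)
  have hnGood : CseGood F T Y U (k * b) := by
    refine cseGood_of_normalizes hS F hF E hT hY hUfn hUeq hlt hIH (mul_mem hk.1 hb) ?_
    intro d hd
    have h1 := hkH _ ⟨d, hd, rfl⟩
    have h2 : k * ((MulAut.conj b).toMonoidHom d) * k⁻¹ = k * b * d * (k * b)⁻¹ := by
      show k * (b * d * b⁻¹) * k⁻¹ = _
      group
    rw [h2] at h1
    exact h1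
  have hkGood : CseGood F T Y U k⁻¹ :=
    cseGood_of_mem_A1 hS F hF E hI hY hEY hmax hUfn hUeq (inv_mem hk)
  have h3 := cseGood_mul F E hEF hT hinv hY hEY hmax hkGood hnGood
  have h4 : k⁻¹ * (k * b) = b := by group
  rw [h4] at h3
  exact h3

end Cfsg.Agent.Lib.helper90
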