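import Cfsg.Agent.Lib.helper90.CseTransport
import Cfsg.Agent.Lib.helper88.Coprime

/-!
The extension condition for automorphisms of `Y` of order prime to `p` lying in the centralizer
system `C_F(T)`, where `T` and `Y ≤ C_S(T)` are strongly closed and `hyp(C_F(T)) ≤ Y`: such an
automorphism extends to an `F`-automorphism `β` of `Y C_S(Y)` with `[β, C_S(Y)] ≤ Z(Y)`.
-/

set_option autoImplicit false

namespace Cfsg.Agent.Lib.helper90

open Cfsg Cfsg.FusionSystem Cfsg.Agent.Lib.helper88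

variable {Ω : Type*} [Group Ω] {S : Subgroup Ω}

/-- A subgroup of `S` normalized by `S` is fully normalized. -/
theorem cse_fullyNormalized_of_normal [Finite S] (F : FusionSystem S) {W : Subgroup Ω}
    (hWS : W ≤ S) (hWn : S ≤ Subgroup.normalizer (W : Set Ω)) : F.IsFullyNormalized W := by
  refine ⟨hWS, fun Q _ => ?_⟩
  have h1 : normalizerIn S W = S := inf_eq_left.mpr hWn
  rw [h1]
  exact Subgroup.card_le_of_le (normalizerIn_le S Q)

/-- An automorphism `v` of `Y` lying in `C_F(T)` extends to an `F`-automorphism of `Y C_S(Y)`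
that is the identity on `T`. -/
theorem cse_exists_ext [Finite S] {p : ℕ} [Fact p.Prime] (hS : IsPGroup p S)
    (F : FusionSystem S) (hF : F.IsSaturated p) {T Y : Subgroup Ω} (hT : F.StronglyClosed T)
    (hYsc : F.StronglyClosed Y) {v : MulAut Y}
    (hv : Y.subtype.comp v.toMonoidHom ∈ F.centralizerHom T Y) :
    ∃ β ∈ F.autGroup (Y ⊔ centralizerIn S Y),
      (∀ y : Y, ((β (Subgroup.inclusion le_sup_left y) : ↥(Y ⊔ centralizerIn S Y)) : Ω)
        = ((v y : Y) : Ω)) ∧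
      ∀ x : ↥(Y ⊔ centralizerIn S Y), (x : Ω) ∈ T →
        ((β x : ↥(Y ⊔ centralizerIn S Y)) : Ω) = x := by
  have hTS := hT.1
  have hYS := hYsc.1
  obtain ⟨-, -, -, ψ₀, hψ₀, hψ₀Y, hψ₀T⟩ := hv
  have hψ₀Y' : ∀ y : Y, ψ₀ (Subgroup.inclusion le_sup_left y) = ((v y : Y) : Ω) := hψ₀Y
  have hWS : Y ⊔ T ≤ S := sup_le hYS hTS
  have hfinW : Finite ↥(Y ⊔ T) := finite_of_le hWS
  have hconjW : ∀ g ∈ S, ∀ x ∈ Y ⊔ T, g * x * g⁻¹ ∈ Y ⊔ T := by
    intro g hg
    have hle : Y ⊔ T ≤ (Y ⊔ T).comap (MulAut.conj g).toMonoidHom := by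
      apply sup_le
      · intro y hy
        exact Subgroup.mem_sup_left (helper89.conj_mem_of_stronglyClosed F hYsc hg hy)
      · intro t ht
        exact Subgroup.mem_sup_right (helper89.conj_mem_of_stronglyClosed F hT hg ht)
    intro x hx
    exact hle hx
  have hWn : S ≤ Subgroup.normalizer ((Y ⊔ T : Subgroup Ω) : Set Ω) :=
    fun g hg => mem_normalizer_of_conj_mem (hconjW g hg)
  obtain ⟨-, hrec⟩ := fullyAutomized_receptive_of_fullyNormalized hS F hF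
    (cse_fullyNormalized_of_normal F hWS hWn)
  have hψ₀val : ∀ z : ↥(Y ⊔ T), ψ₀ z ∈ Y ⊔ T := by
    have hle : Y ⊔ T ≤ ((Y ⊔ T).comap ψ₀).map (Y ⊔ T).subtype := by
      apply sup_le
      · intro y hy
        refine ⟨Subgroup.inclusion le_sup_left ⟨y, hy⟩, ?_, rfl⟩
        rw [SetLike.mem_coe, Subgroup.mem_comap, hψ₀Y']
        exact Subgroup.mem_sup_left (v _).2
      · intro t ht
        refine ⟨Subgroup.inclusion le_sup_right ⟨t, ht⟩, ?_, rfl⟩
        rw [SetLike.mem_coe, Subgroup.mem_comap, hψ₀T]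
        exact Subgroup.mem_sup_right ht
    intro z
    obtain ⟨z', hz', hzz'⟩ := hle z.2
    have h1 : z' = z := Subtype.ext hzz'
    rw [← h1]
    exact hz'
  obtain ⟨vh, hvh⟩ := helper89.exists_aut_of_mem F hψ₀ hψ₀val
  have hrange : ψ₀.range = Y ⊔ T := by
    apply le_antisymm
    · rintro _ ⟨z, rfl⟩
      exact hψ₀val z
    · intro w hw
      refine ⟨vh⁻¹ ⟨w, hw⟩, ?_⟩
      rw [← hvh]
      simp
  obtain ⟨ψ₁, hψ₁, hψ₁eq⟩ := helper89.exists_extension_closure F hrec hψ₀ hrange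
    ((Y : Set Ω) ∪ (centralizerIn S Y : Set Ω)) (by
      rintro g (hg | hg)
      · have hgW : g ∈ Y ⊔ T := Subgroup.mem_sup_left hg
        refine ⟨hYS hg, Subgroup.le_normalizer hgW, ψ₀ ⟨g, hgW⟩, (F.le_of_mem hψ₀).2 _, ?_⟩
        intro x hx
        have h1 : (⟨g * x * g⁻¹, hx⟩ : ↥(Y ⊔ T)) = ⟨g, hgW⟩ * x * ⟨g, hgW⟩⁻¹ := Subtype.ext rfl
        rw [h1, map_mul, map_mul, map_inv]
      · have hgS : g ∈ S := hg.1
        have hgC : g ∈ Subgroup.centralizer (Y : Set Ω) := hg.2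
        have hgN := hWn hgS
        refine ⟨hgS, hgN, g, hgS, ?_⟩
        have key : ψ₀.comp (conjAut (Y ⊔ T) g hgN).toMonoidHom
            = (MulAut.conj g).toMonoidHom.comp ψ₀ := by
          apply cse_hom_ext_sup
          · intro y
            have h1 : conjAut (Y ⊔ T) g hgN (Subgroup.inclusion le_sup_left y)
                = Subgroup.inclusion le_sup_left y := by
              apply Subtype.ext
              rw [conjAut_apply]
              have h2 : (y : Ω) * g = g * y := Subgroup.mem_centralizer_iff.mp hgC y y.2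
              show g * (y : Ω) * g⁻¹ = y
              rw [← h2]
              group
            show ψ₀ (conjAut (Y ⊔ T) g hgN (Subgroup.inclusion le_sup_left y))
              = g * ψ₀ (Subgroup.inclusion le_sup_left y) * g⁻¹
            rw [h1, hψ₀Y']
            have h2 : ((v y : Y) : Ω) * g = g * (v y : Y) :=
              Subgroup.mem_centralizer_iff.mp hgC _ (v y).2
            rw [← h2]
            group
          · intro t
            have hgt : g * (t : Ω) * g⁻¹ ∈ T := helper89.conj_mem_of_stronglyClosed F hT hgS t.2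
            have h1 : conjAut (Y ⊔ T) g hgN (Subgroup.inclusion le_sup_right t)
                = Subgroup.inclusion le_sup_right ⟨g * t * g⁻¹, hgt⟩ := by
              apply Subtype.ext
              rw [conjAut_apply]
              rfl
            show ψ₀ (conjAut (Y ⊔ T) g hgN (Subgroup.inclusion le_sup_right t))
              = g * ψ₀ (Subgroup.inclusion le_sup_right t) * g⁻¹
            rw [h1, hψ₀T, hψ₀T]
        intro x hx
        have h1 : (⟨g * x * g⁻¹, hx⟩ : ↥(Y ⊔ T)) = conjAut (Y ⊔ T) g hgN x := by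
          apply Subtype.ext
          rw [conjAut_apply]
        rw [h1]
        exact DFunLike.congr_fun key x)
  have hcl : Y ⊔ centralizerIn S Y
      = Subgroup.closure ((Y : Set Ω) ∪ (centralizerIn S Y : Set Ω)) := by
    rw [Subgroup.closure_union, Subgroup.closure_eq, Subgroup.closure_eq]
  have hβ₀ := cast_mem F hcl hψ₁
  obtain ⟨β₀, hβ₀def⟩ : ∃ β₀ : ↥(Y ⊔ centralizerIn S Y) →* Ω,
      β₀ = ψ₁.comp (Subgroup.inclusion hcl.le) := ⟨_, rfl⟩
  rw [← hβ₀def] at hβ₀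
  have hXS : Y ⊔ centralizerIn S Y ≤ S := sup_le hYS inf_le_left
  have hβ₀W : ∀ (x : ↥(Y ⊔ centralizerIn S Y)) (hx : (x : Ω) ∈ Y ⊔ T), β₀ x = ψ₀ ⟨x, hx⟩ := by
    intro x hx
    rw [hβ₀def]
    exact hψ₁eq x hx (hcl.le x.2)
  have hβ₀Y : ∀ y : Y, β₀ (Subgroup.inclusion le_sup_left y) = ((v y : Y) : Ω) := by
    intro y
    rw [hβ₀W _ (Subgroup.mem_sup_left y.2)]
    exact hψ₀Y' y
  have hβ₀T : ∀ x : ↥(Y ⊔ centralizerIn S Y), (x : Ω) ∈ T → β₀ x = x := by
    intro x hx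
    rw [hβ₀W _ (Subgroup.mem_sup_right hx)]
    exact hψ₀T ⟨x, hx⟩
  have hcent : ∀ r : ↥(Y ⊔ centralizerIn S Y), (r : Ω) ∈ centralizerIn S Y →
      β₀ r ∈ centralizerIn S Y := by
    intro r hr
    have hr2 : (r : Ω) ∈ Subgroup.centralizer (Y : Set Ω) := hr.2
    refine Subgroup.mem_inf.mpr ⟨(F.le_of_mem hβ₀).2 r, ?_⟩
    rw [Subgroup.mem_centralizer_iff]
    intro y hy
    have h3 : Subgroup.inclusion le_sup_left (v⁻¹ ⟨y, hy⟩) * r
        = r * Subgroup.inclusion le_sup_left (v⁻¹ ⟨y, hy⟩) := by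
      apply Subtype.ext
      exact Subgroup.mem_centralizer_iff.mp hr2 _ (v⁻¹ ⟨y, hy⟩).2
    have h4 := congrArg β₀ h3
    rw [map_mul, map_mul, hβ₀Y] at h4
    simpa using h4
  have hβ₀X : ∀ z : ↥(Y ⊔ centralizerIn S Y), β₀ z ∈ Y ⊔ centralizerIn S Y := by
    have hle : Y ⊔ centralizerIn S Y ≤
        ((Y ⊔ centralizerIn S Y).comap β₀).map (Y ⊔ centralizerIn S Y).subtype := by
      refine sup_le ?_ ?_
      · intro y hy
        refine ⟨Subgroup.inclusion le_sup_left ⟨y, hy⟩, ?_, rfl⟩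
        rw [SetLike.mem_coe, Subgroup.mem_comap, hβ₀Y]
        exact Subgroup.mem_sup_left (v ⟨y, hy⟩).2
      · intro c hc
        refine ⟨⟨c, Subgroup.mem_sup_right hc⟩, ?_, rfl⟩
        rw [SetLike.mem_coe, Subgroup.mem_comap]
        exact Subgroup.mem_sup_right (hcent _ hc)
    intro z
    obtain ⟨z', hz', hzz'⟩ := hle z.2
    have h1 : z' = z := Subtype.ext hzz'
    rw [← h1]
    exact hz'
  obtain ⟨β₁, hβ₁eq⟩ := helper89.exists_aut_of_mem F hβ₀ hβ₀X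
  have hβ₁F : β₁ ∈ F.autGroup (Y ⊔ centralizerIn S Y) := by
    rw [mem_autGroup_iff' F hXS]
    have h1 : (Y ⊔ centralizerIn S Y).subtype.comp β₁.toMonoidHom = β₀ := by
      ext x
      exact hβ₁eq x
    rw [h1]
    exact hβ₀
  exact ⟨β₁, hβ₁F, fun y => (hβ₁eq _).trans (hβ₀Y y), fun x hx => (hβ₁eq x).trans (hβ₀T x hx)⟩

/-- An automorphism of `Y` of order prime to `p` lying in `C_F(T)` satisfies the extension
condition in `F`, provided `hyp(C_F(T)) ≤ Y`. -/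
theorem cse_extCond_of_coprime [Finite S] {p : ℕ} [Fact p.Prime] (hS : IsPGroup p S)
    (F : FusionSystem S) (hF : F.IsSaturated p) {T Y : Subgroup Ω} (hT : F.StronglyClosed T)
    (hYsc : F.StronglyClosed Y) (hY : Y ≤ centralizerIn S T)
    (C : FusionSystem (centralizerIn S T)) (hC : F.IsCentralizerSystem T C)
    (hhyp : C.hyperfocalSubgroup p ≤ Y) {v : MulAut Y} (hv : v ∈ C.autGroup Y)
    (hcop : (orderOf v).Coprime p) : ExtCond F Y v := by
  have hTS := hT.1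
  have hYS := hYsc.1
  have hvC := (mem_autGroup_iff' C hY v).mp hv
  rw [hC Y] at hvC
  obtain ⟨β₁, hβ₁F, hβ₁Y, hβ₁T⟩ := cse_exists_ext hS F hF hT hYsc hvC
  have hXS : Y ⊔ centralizerIn S Y ≤ S := sup_le hYS inf_le_left
  have hfinX : Finite ↥(Y ⊔ centralizerIn S Y) := finite_of_le hXS
  -- `T ≤ C_S(Y)`
  have hTC : T ≤ centralizerIn S Y := by
    intro t ht
    refine Subgroup.mem_inf.mpr ⟨hTS ht, ?_⟩
    rw [Subgroup.mem_centralizer_iff]
    intro y hy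
    have h1 : y ∈ Subgroup.centralizer (T : Set Ω) := (hY hy).2
    exact (Subgroup.mem_centralizer_iff.mp h1 t ht).symm
  have hTX : T ≤ Y ⊔ centralizerIn S Y := hTC.trans le_sup_right
  have hpowY : ∀ (j : ℕ) (y : Y),
      (((β₁ ^ j) (Subgroup.inclusion le_sup_left y) : ↥(Y ⊔ centralizerIn S Y)) : Ω)
        = (((v ^ j) y : Y) : Ω) := by
    intro j
    induction j with
    | zero => intro y; simp
    | succ j ih =>
      intro y
      have h1 : β₁ (Subgroup.inclusion le_sup_left y) = Subgroup.inclusion le_sup_left (v y) :=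
        Subtype.ext (hβ₁Y y)
      rw [pow_succ, pow_succ, MulAut.mul_apply, MulAut.mul_apply, h1, ih]
  have hpowT : ∀ (j : ℕ) (x : ↥(Y ⊔ centralizerIn S Y)), (x : Ω) ∈ T →
      (((β₁ ^ j) x : ↥(Y ⊔ centralizerIn S Y)) : Ω) = x := by
    intro j
    induction j with
    | zero => intro x _; simp
    | succ j ih =>
      intro x hx
      have h1 : β₁ x = x := Subtype.ext (hβ₁T x hx)
      rw [pow_succ, MulAut.mul_apply, h1]
      exact ih x hx
  obtain ⟨k, m₀, hm₀, hkm⟩ := Nat.exists_eq_pow_mul_and_not_dvd (orderOf_pos β₁).ne' p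
    (Nat.Prime.one_lt Fact.out).ne'
  obtain ⟨m, hm⟩ := exists_pow_eq_self_of_coprime (x := v) (n := p ^ k)
    (Nat.Coprime.pow_left k hcop.symm)
  obtain ⟨β, hβdef⟩ : ∃ β : MulAut ↥(Y ⊔ centralizerIn S Y), β = (β₁ ^ p ^ k) ^ m := ⟨_, rfl⟩
  have hβF : β ∈ F.autGroup (Y ⊔ centralizerIn S Y) := by
    rw [hβdef]
    exact pow_mem (pow_mem hβ₁F _) _
  have hβY : ∀ y : Y, ((β (Subgroup.inclusion le_sup_left y) : ↥(Y ⊔ centralizerIn S Y)) : Ω)
      = ((v y : Y) : Ω) := by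
    intro y
    rw [hβdef, ← pow_mul, hpowY, pow_mul, hm]
  have hβT : ∀ x : ↥(Y ⊔ centralizerIn S Y), (x : Ω) ∈ T →
      ((β x : ↥(Y ⊔ centralizerIn S Y)) : Ω) = x := by
    intro x hx
    rw [hβdef, ← pow_mul]
    exact hpowT _ x hx
  have hβcop : (orderOf β).Coprime p := by
    have h1 : orderOf (β₁ ^ p ^ k) ∣ m₀ := by
      apply orderOf_dvd_of_pow_eq_one
      rw [← pow_mul, ← hkm]
      exact pow_orderOf_eq_one β₁
    have h2 : orderOf ((β₁ ^ p ^ k) ^ m) ∣ orderOf (β₁ ^ p ^ k) := orderOf_pow_dvd m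
    rw [hβdef]
    exact Nat.Coprime.coprime_dvd_left (h2.trans h1)
      ((Nat.Prime.coprime_iff_not_dvd Fact.out).mpr hm₀).symm
  have hβFhom := (mem_autGroup_iff' F hXS β).mp hβF
  -- (a) `β` preserves `C_S(Y)`
  have hβC : ∀ r : ↥(Y ⊔ centralizerIn S Y), (r : Ω) ∈ centralizerIn S Y →
      ((β r : ↥(Y ⊔ centralizerIn S Y)) : Ω) ∈ centralizerIn S Y := by
    intro r hr
    have hr2 : (r : Ω) ∈ Subgroup.centralizer (Y : Set Ω) := hr.2
    refine Subgroup.mem_inf.mpr ⟨hXS (β r).2, ?_⟩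
    rw [Subgroup.mem_centralizer_iff]
    intro y hy
    have h2 : ((β (Subgroup.inclusion le_sup_left (v⁻¹ ⟨y, hy⟩)) :
        ↥(Y ⊔ centralizerIn S Y)) : Ω) = y := by
      rw [hβY]
      simp
    have h3 : Subgroup.inclusion le_sup_left (v⁻¹ ⟨y, hy⟩) * r
        = r * Subgroup.inclusion le_sup_left (v⁻¹ ⟨y, hy⟩) := by
      apply Subtype.ext
      exact Subgroup.mem_centralizer_iff.mp hr2 _ (v⁻¹ ⟨y, hy⟩).2
    have h4 := congrArg (fun w => ((β w : ↥(Y ⊔ centralizerIn S Y)) : Ω)) h3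
    simp only [map_mul, Subgroup.coe_mul, h2] at h4
    exact h4
  -- (b) `[β, C_S(Y)]` centralizes `T`
  have hβcomm : ∀ r : ↥(Y ⊔ centralizerIn S Y), (r : Ω) ∈ centralizerIn S Y →
      (r : Ω)⁻¹ * ((β r : ↥(Y ⊔ centralizerIn S Y)) : Ω) ∈ Subgroup.centralizer (T : Set Ω) := by
    intro r hr
    rw [Subgroup.mem_centralizer_iff]
    intro t ht
    have hrS : (r : Ω) ∈ S := hr.1
    have htX : t ∈ Y ⊔ centralizerIn S Y := hTX ht
    have hrt : (r : Ω) * t * (r : Ω)⁻¹ ∈ T := helper89.conj_mem_of_stronglyClosed F hT hrS ht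
    have h1 : β (r * ⟨t, htX⟩ * r⁻¹) = r * ⟨t, htX⟩ * r⁻¹ := Subtype.ext (hβT _ hrt)
    have h2 : β ⟨t, htX⟩ = ⟨t, htX⟩ := Subtype.ext (hβT _ ht)
    rw [map_mul, map_mul, map_inv, h2] at h1
    have h3 : ((β r : ↥(Y ⊔ centralizerIn S Y)) : Ω) * t
        * ((β r : ↥(Y ⊔ centralizerIn S Y)) : Ω)⁻¹ = (r : Ω) * t * (r : Ω)⁻¹ :=
      congrArg Subtype.val h1
    have h4 : ((β r : ↥(Y ⊔ centralizerIn S Y)) : Ω) * t
        = (r : Ω) * t * (r : Ω)⁻¹ * ((β r : ↥(Y ⊔ centralizerIn S Y)) : Ω) := by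
      rw [← h3]
      group
    calc t * ((r : Ω)⁻¹ * ((β r : ↥(Y ⊔ centralizerIn S Y)) : Ω))
        = (r : Ω)⁻¹ * ((r : Ω) * t * (r : Ω)⁻¹ * ((β r : ↥(Y ⊔ centralizerIn S Y)) : Ω)) := by
          group
      _ = (r : Ω)⁻¹ * (((β r : ↥(Y ⊔ centralizerIn S Y)) : Ω) * t) := by rw [h4]
      _ = (r : Ω)⁻¹ * ((β r : ↥(Y ⊔ centralizerIn S Y)) : Ω) * t := by group
  -- (c) on `Q₁ = C_S(Y) ∩ C(T)`, the commutators with `β` lie in `Z(Y)`
  obtain ⟨Q₁, hQ₁⟩ : ∃ Q₁ : Subgroup Ω,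
      Q₁ = centralizerIn S Y ⊓ Subgroup.centralizer (T : Set Ω) := ⟨_, rfl⟩
  have hQ₁mem : ∀ x : Ω, x ∈ centralizerIn S Y → x ∈ Subgroup.centralizer (T : Set Ω) →
      x ∈ Q₁ := by
    intro x h1 h2
    rw [hQ₁]
    exact Subgroup.mem_inf.mpr ⟨h1, h2⟩
  have hQ₁C : Q₁ ≤ centralizerIn S Y := hQ₁ ▸ inf_le_left
  have hQ₁T : Q₁ ≤ Subgroup.centralizer (T : Set Ω) := hQ₁ ▸ inf_le_right
  have hQ₁X : Q₁ ≤ Y ⊔ centralizerIn S Y := hQ₁C.trans le_sup_right
  have hQ₁Q : Q₁ ≤ centralizerIn S T := fun x hx => Subgroup.mem_inf.mpr ⟨(hQ₁C hx).1, hQ₁T hx⟩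
  have hQ₁S : Q₁ ≤ S := hQ₁Q.trans inf_le_left
  have hfinQ₁ : Finite Q₁ := finite_of_le hQ₁S
  have haq := restrict_mem F hQ₁X hβFhom
  have haqval : ∀ x : Q₁, ((Y ⊔ centralizerIn S Y).subtype.comp β.toMonoidHom).comp
      (Subgroup.inclusion hQ₁X) x ∈ Q₁ := by
    intro x
    show ((β (Subgroup.inclusion hQ₁X x) : ↥(Y ⊔ centralizerIn S Y)) : Ω) ∈ Q₁
    refine hQ₁mem _ (hβC _ (hQ₁C x.2)) ?_
    have h1 := hβcomm (Subgroup.inclusion hQ₁X x) (hQ₁C x.2)
    have h2 : ((β (Subgroup.inclusion hQ₁X x) : ↥(Y ⊔ centralizerIn S Y)) : Ω)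
        = (x : Ω) * ((x : Ω)⁻¹ * ((β (Subgroup.inclusion hQ₁X x) :
          ↥(Y ⊔ centralizerIn S Y)) : Ω)) := by group
    rw [h2]
    exact Subgroup.mul_mem _ (hQ₁T x.2) h1
  obtain ⟨βq, hβq⟩ := helper89.exists_aut_of_mem F haq haqval
  have hβq' : ∀ x : Q₁, ((βq x : Q₁) : Ω)
      = ((β (Subgroup.inclusion hQ₁X x) : ↥(Y ⊔ centralizerIn S Y)) : Ω) := hβq
  have hβqC : βq ∈ C.autGroup Q₁ := by
    rw [mem_autGroup_iff' C hQ₁Q, hC Q₁]
    have h1 : Q₁.subtype.comp βq.toMonoidHom = ((Y ⊔ centralizerIn S Y).subtype.comp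
        β.toMonoidHom).comp (Subgroup.inclusion hQ₁X) := by
      ext x
      exact hβq x
    rw [h1]
    refine ⟨haq, hQ₁Q, fun x => hQ₁Q (haqval x),
      ((Y ⊔ centralizerIn S Y).subtype.comp β.toMonoidHom).comp
        (Subgroup.inclusion (sup_le hQ₁X hTX)),
      restrict_mem F (sup_le hQ₁X hTX) hβFhom, fun x => rfl, fun t => ?_⟩
    exact hβT _ t.2
  have hβqpow : ∀ (j : ℕ) (x : Q₁), (((βq ^ j) x : Q₁) : Ω)
      = (((β ^ j) (Subgroup.inclusion hQ₁X x) : ↥(Y ⊔ centralizerIn S Y)) : Ω) := by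
    intro j
    induction j with
    | zero => intro x; simp
    | succ j ih =>
      intro x
      have h1 : Subgroup.inclusion hQ₁X (βq x) = β (Subgroup.inclusion hQ₁X x) :=
        Subtype.ext (hβq' x)
      rw [pow_succ, pow_succ, MulAut.mul_apply, MulAut.mul_apply, ih, h1]
  have hβqord : βq ^ orderOf β = 1 := by
    ext x
    rw [hβqpow, pow_orderOf_eq_one]
    rfl
  have hβqcop : (orderOf βq).Coprime p :=
    Nat.Coprime.coprime_dvd_left (orderOf_dvd_of_pow_eq_one hβqord) hβcop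
  have hQ₁Z : ∀ x : Q₁, (x : Ω)⁻¹ * ((β (Subgroup.inclusion hQ₁X x) :
      ↥(Y ⊔ centralizerIn S Y)) : Ω) ∈ Y ⊓ Subgroup.centralizer (Y : Set Ω) := by
    intro x
    have hmem : (⟨βq, hβqC⟩ : C.autGroup Q₁) ∈ pResidual p (C.autGroup Q₁) := by
      apply Subgroup.subset_closure
      show (orderOf (⟨βq, hβqC⟩ : C.autGroup Q₁)).Coprime p
      rw [← Subgroup.orderOf_coe]
      exact hβqcop
    have h1 : (x : Ω)⁻¹ * ((βq x : Q₁) : Ω) ∈ C.hyperfocalSubgroup p :=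
      Subgroup.subset_closure ⟨Q₁, ⟨βq, hβqC⟩, x, hQ₁Q, hmem, rfl⟩
    rw [hβq'] at h1
    refine Subgroup.mem_inf.mpr ⟨hhyp h1, ?_⟩
    exact Subgroup.mul_mem _ (Subgroup.inv_mem _ (hQ₁C x.2).2) (hβC _ (hQ₁C x.2)).2
  -- (d) the restriction of `β` to `C_S(Y)` and coprime action
  have hCS : centralizerIn S Y ≤ S := inf_le_left
  have hfinC : Finite ↥(centralizerIn S Y) := finite_of_le hCS
  have hCp : IsPGroup p ↥(centralizerIn S Y) := hS.to_le hCS
  have hac := restrict_mem F (le_sup_right : centralizerIn S Y ≤ Y ⊔ centralizerIn S Y) hβFhom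
  have hacval : ∀ x : ↥(centralizerIn S Y), ((Y ⊔ centralizerIn S Y).subtype.comp
      β.toMonoidHom).comp (Subgroup.inclusion le_sup_right) x ∈ centralizerIn S Y :=
    fun x => hβC _ x.2
  obtain ⟨βc, hβc⟩ := helper89.exists_aut_of_mem F hac hacval
  have hβc' : ∀ x : ↥(centralizerIn S Y), ((βc x : ↥(centralizerIn S Y)) : Ω)
      = ((β (Subgroup.inclusion le_sup_right x) : ↥(Y ⊔ centralizerIn S Y)) : Ω) := hβc
  have hβcpow : ∀ (j : ℕ) (x : ↥(centralizerIn S Y)),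
      (((βc ^ j) x : ↥(centralizerIn S Y)) : Ω)
      = (((β ^ j) (Subgroup.inclusion le_sup_right x) : ↥(Y ⊔ centralizerIn S Y)) : Ω) := by
    intro j
    induction j with
    | zero => intro x; simp
    | succ j ih =>
      intro x
      have h1 : Subgroup.inclusion le_sup_right (βc x) = β (Subgroup.inclusion le_sup_right x) :=
        Subtype.ext (hβc' x)
      rw [pow_succ, pow_succ, MulAut.mul_apply, MulAut.mul_apply, ih, h1]
  have hβcord : βc ^ orderOf β = 1 := by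
    ext x
    rw [hβcpow, pow_orderOf_eq_one]
    rfl
  have hcomm1 : commSub βc ≤ (Subgroup.centralizer (T : Set Ω)).comap
      (centralizerIn S Y).subtype := by
    unfold commSub
    rw [Subgroup.closure_le]
    rintro _ ⟨x, rfl⟩
    show ((x⁻¹ * βc x : ↥(centralizerIn S Y)) : Ω) ∈ Subgroup.centralizer (T : Set Ω)
    rw [Subgroup.coe_mul, Subgroup.coe_inv, hβc']
    exact hβcomm (Subgroup.inclusion le_sup_right x) x.2
  have hcomm2 : commSub₂ βc ≤ (Y ⊓ Subgroup.centralizer (Y : Set Ω)).comap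
      (centralizerIn S Y).subtype := by
    unfold commSub₂
    rw [Subgroup.closure_le]
    rintro _ ⟨y, hy, rfl⟩
    show ((y⁻¹ * βc y : ↥(centralizerIn S Y)) : Ω) ∈ Y ⊓ Subgroup.centralizer (Y : Set Ω)
    rw [Subgroup.coe_mul, Subgroup.coe_inv, hβc']
    have hyQ : (y : Ω) ∈ Q₁ := hQ₁mem _ y.2 (hcomm1 hy)
    exact hQ₁Z ⟨y, hyQ⟩
  refine ⟨β, hβF, hβY, ?_⟩
  intro c hc
  obtain ⟨kc, hkc⟩ := hCp ((⟨c, hc⟩ : ↥(centralizerIn S Y))⁻¹ * βc ⟨c, hc⟩)
  have hcop' : (orderOf β).Coprime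
      (orderOf ((⟨c, hc⟩ : ↥(centralizerIn S Y))⁻¹ * βc ⟨c, hc⟩)) :=
    Nat.Coprime.coprime_dvd_right (orderOf_dvd_of_pow_eq_one hkc)
      (Nat.Coprime.pow_right kc hβcop)
  have h1 := hcomm2 (commutator_mem_commSub₂ βc hβcord ⟨c, hc⟩ hcop')
  have h2 : (((⟨c, hc⟩ : ↥(centralizerIn S Y))⁻¹ * βc ⟨c, hc⟩ : ↥(centralizerIn S Y)) : Ω)
      ∈ Y ⊓ Subgroup.centralizer (Y : Set Ω) := h1
  rw [Subgroup.coe_mul, Subgroup.coe_inv, hβc'] at h2
  exact h2

end Cfsg.Agent.Lib.helper90
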