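import Cfsg.Agent.Lib.helper90.CseTransport

/-!
Invariance and the Frattini condition for the `p`-power index subsystem `D` (over a strongly
closed `Y ≤ C_S(T)`) of the centralizer system `C_F(T)`, inside `F`, under the hypothesis that
every map of `F` on a subgroup of `Y` extends to `T`.
-/

set_option autoImplicit false

namespace Cfsg.Agent.Lib.helper90

open Cfsg Cfsg.FusionSystem Cfsg.Agent.Lib.helper88

variable {Ω : Type*} [Group Ω] {S : Subgroup Ω}

/-- The restriction of `C_F(T)` to `Y` is invariant under `Aut_F(Y)`. -/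
theorem cse_autInvariant_restrict [Finite S] (F : FusionSystem S) {T Y : Subgroup Ω}
    (hT : F.StronglyClosed T) (hY : Y ≤ centralizerIn S T)
    (hext : ∀ A : Subgroup Ω, A ≤ Y → ∀ φ ∈ F.Hom A, ∃ ψ ∈ F.Hom (A ⊔ T),
      ∀ x : A, ψ (Subgroup.inclusion le_sup_left x) = φ x)
    (C : FusionSystem (centralizerIn S T)) (hC : F.IsCentralizerSystem T C) :
    AutInvariant (restrictTo C Y hY) F := by
  intro P hPY φ hφ α hα
  obtain ⟨hφC, -, hφY⟩ := hφ
  rw [hC P] at hφC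
  have hYS : Y ≤ S := hY.trans inf_le_left
  have hαF := (mem_autGroup_iff' F hYS α).mp hα
  obtain ⟨χ', hχ', hχ'eq⟩ := cse_transport F hT (U := Y) (ε := Y.subtype.comp α.toMonoidHom)
    (hext Y le_rfl _ hαF) hPY hφC hφY ((P.subgroupOf Y).map (Y.subtype.comp α.toMonoidHom)) (by
      intro y
      constructor
      · rintro ⟨t, ht, rfl⟩
        exact ⟨⟨t, ht⟩, rfl⟩
      · rintro ⟨x, rfl⟩
        exact ⟨Subgroup.inclusion hPY x, x.2, rfl⟩)
  refine ⟨χ', ⟨?_, ?_, ?_⟩, ?_⟩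
  · rw [hC]
    exact hχ'
  · rintro _ ⟨t, -, rfl⟩
    exact (α t).2
  · intro y
    obtain ⟨t, ht, hty⟩ := y.2
    have h1 := hχ'eq ⟨t, ht⟩ y hty.symm
    rw [h1]
    exact (α _).2
  · intro x hφx hαx
    exact hχ'eq x ⟨_, hαx⟩ rfl

/-- `Aut_{C_F(T)}(R)` is normalized by `Aut_F(R)` for `R ≤ Y`. -/
theorem cse_conj_mem_autGroup [Finite S] (F : FusionSystem S) {T Y : Subgroup Ω}
    (hT : F.StronglyClosed T) (hY : Y ≤ centralizerIn S T)
    (hext : ∀ A : Subgroup Ω, A ≤ Y → ∀ φ ∈ F.Hom A, ∃ ψ ∈ F.Hom (A ⊔ T),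
      ∀ x : A, ψ (Subgroup.inclusion le_sup_left x) = φ x)
    (C : FusionSystem (centralizerIn S T)) (hC : F.IsCentralizerSystem T C)
    {R : Subgroup Ω} (hRY : R ≤ Y) {a k : MulAut R} (ha : a ∈ F.autGroup R)
    (hk : k ∈ (restrictTo C Y hY).autGroup R) :
    a * k * a⁻¹ ∈ (restrictTo C Y hY).autGroup R := by
  have hYS : Y ≤ S := hY.trans inf_le_left
  have hRS := hRY.trans hYS
  have haF := (mem_autGroup_iff' F hRS a).mp ha
  obtain ⟨hkC, -, -⟩ := (mem_autGroup_iff' (restrictTo C Y hY) hRY k).mp hk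
  rw [hC R] at hkC
  have h1 := cse_congr_mem F hT (a : R ≃* R) (hext R hRY _ haF) hkC
  rw [mem_autGroup_iff' (restrictTo C Y hY) hRY]
  refine ⟨?_, hRY, fun x => hRY (Subtype.property _)⟩
  rw [hC R]
  have h2 : MulAut.congr (a : R ≃* R) k = a * k * a⁻¹ := by
    ext x
    rfl
  rw [← h2]
  exact h1

/-- The `p`-power index subsystem `D` of `C_F(T)` over `Y` is invariant under `Aut_F(Y)`. -/
theorem cse_autInvariant [Finite S] {p : ℕ} [Fact p.Prime] (hS : IsPGroup p S)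
    (F : FusionSystem S) {T Y : Subgroup Ω}
    (hT : F.StronglyClosed T) (hY : Y ≤ centralizerIn S T)
    (hext : ∀ A : Subgroup Ω, A ≤ Y → ∀ φ ∈ F.Hom A, ∃ ψ ∈ F.Hom (A ⊔ T),
      ∀ x : A, ψ (Subgroup.inclusion le_sup_left x) = φ x)
    (C : FusionSystem (centralizerIn S T)) (hC : F.IsCentralizerSystem T C)
    (D : FusionSystem Y) (hDs : D.IsSaturated p) (hDC : D.IsSubsystemOf C)
    (hidx : ∀ P : Subgroup Ω, P ≤ Y →
      (pResidual p (C.autGroup P)).map (C.autGroup P).subtype ≤ D.autGroup P) :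
    AutInvariant D F := by
  have hYS : Y ≤ S := hY.trans inf_le_left
  have hfinY : Finite Y := finite_of_le hYS
  have hYp : IsPGroup p Y := hS.to_le hYS
  intro P hPY φ hφ α hα
  have hsub : D.IsSubsystemOf (transportAut D α) := by
    refine subsystem_of_pResidual_le hYp le_rfl D hDs (transportAut D α) ?_
    intro R hRY γ hγ
    have hγC := pResidual_autGroup_le_of_subsystem hDC p R hγ
    have hαF := (mem_autGroup_iff' F hYS α).mp hα
    have hαR := restrict_mem F hRY hαF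
    obtain ⟨e, he, heq⟩ := exists_isoEquiv F hαR (range_restrict_eq hRY _)
    have hMY : (R.subgroupOf Y).map (Y.subtype.comp α.toMonoidHom) ≤ Y := by
      rintro _ ⟨t, -, rfl⟩
      exact (α t).2
    have hRQ : R ≤ centralizerIn S T := hRY.trans hY
    have hMQ := hMY.trans hY
    have hcongr : ∀ a : MulAut R, a ∈ C.autGroup R → MulAut.congr e a ∈ C.autGroup _ := by
      intro a ha
      have ha' := (mem_autGroup_iff' C hRQ a).mp ha
      rw [hC R] at ha'
      have h1 := cse_congr_mem F hT e (by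
        obtain ⟨ψ, hψ, hψeq⟩ := hext R hRY _ hαR
        exact ⟨ψ, hψ, fun x => (hψeq x).trans (heq x).symm⟩) ha'
      rw [mem_autGroup_iff' C hMQ, hC]
      exact h1
    have hγ'C : MulAut.congr e γ ∈ (pResidual p (C.autGroup _)).map (C.autGroup _).subtype := by
      obtain ⟨γ₀, hγ₀, rfl⟩ := hγC
      have h1 := pResidual_map_le p (((MulAut.congr e).toMonoidHom.comp
        (C.autGroup R).subtype).codRestrict (C.autGroup _) (fun a => hcongr a a.2))
        ⟨γ₀, hγ₀, rfl⟩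
      exact ⟨_, h1, rfl⟩
    have hγ' := hidx _ hMY hγ'C
    have hγ'D := (mem_autGroup_iff' D hMY _).mp hγ'
    rw [mem_autGroup_iff' (transportAut D α) hRY]
    refine ⟨hRY, fun x => hRY (γ x).2, _, hγ'D, ?_⟩
    intro x y t hy ht
    have h1 : y = e x := Subtype.ext (hy.trans (heq x).symm)
    have h2 : t = ⟨γ x, hRY (γ x).2⟩ := Subtype.ext ht
    rw [h1, h2]
    have h3 : (MulAut.congr e γ) (e x) = e (γ x) := by
      show e (γ (e.symm (e x))) = e (γ x)
      rw [MulEquiv.symm_apply_apply]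
    simp only [MonoidHom.comp_apply, MulEquiv.coe_toMonoidHom, Subgroup.subtype_apply]
    rw [h3]
    exact heq (γ x)
  obtain ⟨_, _, χ, hχ, hχeq⟩ := hsub P hφ
  exact ⟨χ, hχ, fun x hφx hαx => hχeq x ⟨_, hαx⟩ ⟨φ x, hφx⟩ rfl rfl⟩

/-- The Frattini condition for `D` in `F`. -/
theorem cse_frattini [Finite S] {p : ℕ} [Fact p.Prime] (hS : IsPGroup p S)
    (F : FusionSystem S) (hF : F.IsSaturated p) {T Y : Subgroup Ω}
    (hT : F.StronglyClosed T) (hY : Y ≤ centralizerIn S T) (hYsc : F.StronglyClosed Y)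
    (hext : ∀ A : Subgroup Ω, A ≤ Y → ∀ φ ∈ F.Hom A, ∃ ψ ∈ F.Hom (A ⊔ T),
      ∀ x : A, ψ (Subgroup.inclusion le_sup_left x) = φ x)
    (C : FusionSystem (centralizerIn S T)) (hC : F.IsCentralizerSystem T C)
    (hCsat : C.IsSaturated p)
    (D : FusionSystem Y) (hDs : D.IsSaturated p) (hDC : D.IsSubsystemOf C)
    (hidx : ∀ P : Subgroup Ω, P ≤ Y →
      (pResidual p (C.autGroup P)).map (C.autGroup P).subtype ≤ D.autGroup P) :
    ∀ (P : Subgroup Ω), P ≤ Y → ∀ (φ : P →* Ω), φ ∈ F.Hom P →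
      ∃ α ∈ F.autGroup Y, ∃ φ₀ ∈ D.Hom P,
        ∀ (x : P) (hx : φ₀ x ∈ Y), φ x = ((α ⟨φ₀ x, hx⟩ : Y) : Ω) := by
  have hQS : centralizerIn S T ≤ S := inf_le_left
  have hfinQ : Finite ↥(centralizerIn S T) := finite_of_le hQS
  have hQp : IsPGroup p ↥(centralizerIn S T) := hS.to_le hQS
  have hYS := hY.trans hQS
  have hfinY : Finite Y := finite_of_le hYS
  have hYp : IsPGroup p Y := hS.to_le hYS
  have hCF : C.IsSubsystemOf F := by
    intro P φ hφ
    rw [hC P] at hφ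
    exact hφ.1
  have hCYF : (restrictTo C Y hY).IsSubsystemOf F := fun P φ hφ => hCF P hφ.1
  have hYscC : C.StronglyClosed Y := ⟨hY, fun R hR φ hφ x => hYsc.2 R hR φ (hCF R hφ) x⟩
  have hF2 := frattini_of_normal_family hS F hF hYsc (restrictTo C Y hY) hCYF
    (cse_autInvariant_restrict F hT hY hext C hC) (by
      intro R hRY _
      exact ⟨(restrictTo C Y hY).autGroup R, le_rfl,
        autInducedBy_le_autGroup (restrictTo C Y hY) hRY,
        fun a ha k hk => cse_conj_mem_autGroup F hT hY hext C hC hRY ha hk⟩)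
  have hinvDC : AutInvariant D C := autInvariant_of_pPowerIndex hYp C D hDs hDC hY hidx
  have hF1 := frattini_of_pPowerIndex hQp C hCsat hYscC D hDC hinvDC hidx
  intro P hPY φ hφ
  obtain ⟨α, hα, φ₁, hφ₁, hφeq⟩ := hF2 P hPY φ hφ
  obtain ⟨hφ₁C, -, hφ₁Y⟩ := hφ₁
  obtain ⟨γ, hγ, φ₀, hφ₀, hφ₁eq⟩ := hF1 P hPY φ₁ hφ₁C
  refine ⟨α * γ, mul_mem hα (autGroup_le_of_subsystem hCF Y hγ), φ₀, hφ₀, ?_⟩
  intro x hx
  rw [hφeq x (hφ₁Y x)]
  have h1 : (⟨φ₁ x, hφ₁Y x⟩ : Y) = γ ⟨φ₀ x, hx⟩ := Subtype.ext (hφ₁eq x hx)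
  rw [h1]
  rfl

end Cfsg.Agent.Lib.helper90
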