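import Cfsg.Agent.Lib.helper90.CseInv
import Cfsg.Agent.Lib.helper90.CseExt
import Cfsg.Agent.Lib.helper89.Focal
import Cfsg.Agent.S5097
import Cfsg.Agent.S5099
import Cfsg.Agent.S5293
import Cfsg.Agent.S5113

/-!
Part (c) of the centralizer of a normal subsystem: given the largest subgroup `Y ≤ C_S(T)`
centralizing the normal subsystem `E` (over `T`) of `F`, strongly closed in `F` and such that every
`F`-map on a subgroup of `Y` extends to `T`, the `p`-power index subsystem of `C_F(T)` over `Y` is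
normal in `F`.
-/

set_option autoImplicit false

namespace Cfsg.Agent.Lib.helper90

open Cfsg Cfsg.FusionSystem Cfsg.Agent.Lib.helper88

/-- A strongly closed subgroup is fully centralized. -/
theorem cse_fullyCentralized_of_stronglyClosed {Ω : Type*} [Group Ω] {S : Subgroup Ω} [Finite S]
    (F : FusionSystem S) {T : Subgroup Ω} (hT : F.StronglyClosed T) : F.IsFullyCentralized T := by
  refine ⟨hT.1, fun Q hQ => ?_⟩
  have hQT : Q ≤ T := stronglyClosed_isConj_le F hT le_rfl hQ
  haveI : Finite T := finite_of_le hT.1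
  have hQeq : Q = T := Subgroup.eq_of_le_of_card_ge hQT (isConj_card F hQ).le
  rw [hQeq]

/-- **Normality of the centralizer subsystem.** -/
theorem cse_normal {Ω : Type*} [Group Ω] {S : Subgroup Ω} [Finite S] (p : ℕ) [Fact p.Prime]
    (hS : IsPGroup p S) (F : Cfsg.FusionSystem S) (hF : F.IsSaturated p) {T : Subgroup Ω}
    (E : Cfsg.FusionSystem T) (hE : E.IsNormalIn F p) (Y : Subgroup Ω)
    (hY : Y ≤ Cfsg.FusionSystem.centralizerIn S T)
    (hEY : ∀ P, E.Hom P ⊆ F.centralizerHom Y P)
    (hmax : ∀ Y', Y' ≤ centralizerIn S T → (∀ P, E.Hom P ⊆ F.centralizerHom Y' P) → Y' ≤ Y)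
    (hsc : F.StronglyClosed Y)
    (hext : ∀ A : Subgroup Ω, A ≤ Y → ∀ φ ∈ F.Hom A, ∃ ψ ∈ F.Hom (A ⊔ T),
      ∀ x : A, ψ (Subgroup.inclusion le_sup_left x) = φ x) :
    ∃ D : Cfsg.FusionSystem Y, D.IsNormalIn F p ∧
      ∀ P : Subgroup Ω, D.Hom P ⊆ F.centralizerHom T P := by
  have hTsc : F.StronglyClosed T := hE.1.2.2.2.1
  have hTS : T ≤ S := hTsc.1
  have hYS : Y ≤ S := hsc.1
  obtain ⟨C, hC⟩ := Cfsg.Agent.S5097.result F T hTS
  have hTfc : F.IsFullyCentralized T := cse_fullyCentralized_of_stronglyClosed F hTsc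
  have hCsat : C.IsSaturated p := Cfsg.Agent.S5099.result p hS F hF T hTfc C hC
  have hfoc : C.focalSubgroup ≤ Y :=
    (Cfsg.Agent.S5293.result p hS F hF E hE _ rfl C hC).trans
      (sSup_le fun X hX => hmax X hX.1 hX.2)
  have hhyp : C.hyperfocalSubgroup p ≤ Y :=
    (helper89.hyperfocalSubgroup_le_focalSubgroup C p).trans hfoc
  have hQS : centralizerIn S T ≤ S := inf_le_left
  haveI hfinQ : Finite ↥(centralizerIn S T) := finite_of_le hQS
  have hQp : IsPGroup p ↥(centralizerIn S T) := hS.to_le hQS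
  haveI hfinY : Finite Y := finite_of_le hYS
  obtain ⟨D, ⟨hDs, hDi⟩, -⟩ := Cfsg.Agent.S5113.result p hQp C hCsat Y hY hhyp
  have hDC : D.IsSubsystemOf C := hDi.1
  have hidx := hDi.2.2
  have hDF : D.IsSubsystemOf F := by
    intro P φ hφ
    have h := hDC P hφ
    rw [hC P] at h
    exact h.1
  refine ⟨D, ⟨⟨hDs, hF, hDF, hsc, cse_autInvariant hS F hTsc hY hext C hC D hDs hDC hidx,
    cse_frattini hS F hF hTsc hY hsc hext C hC hCsat D hDs hDC hidx⟩, ?_⟩, ?_⟩
  · -- the extension condition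
    intro α hα
    show ExtCond F Y α
    have hfaY : D.IsFullyAutomized p Y := by
      obtain ⟨Q, hconj, hfa, -⟩ := hDs Y le_rfl
      have hQY : Q ≤ Y := isConj_le D hconj
      have hQeq : Q = Y := Subgroup.eq_of_le_of_card_ge hQY (isConj_card D hconj).le
      rw [hQeq] at hfa
      exact hfa
    obtain ⟨s, hs, u, hu, hsu⟩ := exists_mul_pResidual_of_fullyAutomized D hfaY hα
    rw [hsu]
    refine extCond_mul ?_ ?_
    · obtain ⟨t, ht, hts⟩ := (mem_autInducedBy_iff Y Y s).mp hs
      exact extCond_conj F hYS ht hts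
    · obtain ⟨u₀, hu₀, rfl⟩ := hu
      refine Subgroup.closure_induction
        (p := fun (v : D.autGroup Y) _ => ExtCond F Y (v : MulAut Y)) ?_ ?_ ?_ ?_ hu₀
      · intro v hv
        refine cse_extCond_of_coprime hS F hF hTsc hsc hY C hC hhyp
          (autGroup_le_of_subsystem hDC Y v.2) ?_
        rw [Subgroup.orderOf_coe]
        exact hv
      · exact extCond_one F Y
      · intro v w _ _ hv hw
        exact extCond_mul hv hw
      · intro v _ hv
        have h1 : ((v⁻¹ : D.autGroup Y) : MulAut Y)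
            = (v : MulAut Y) ^ (orderOf (v : MulAut Y) - 1) := by
          rw [Subgroup.coe_inv]
          apply inv_eq_of_mul_eq_one_right
          rw [← pow_succ', Nat.sub_add_cancel (orderOf_pos _), pow_orderOf_eq_one]
        show ExtCond F Y ((v⁻¹ : D.autGroup Y) : MulAut Y)
        rw [h1]
        exact extCond_pow hv _
  · intro P φ hφ
    have h := hDC P hφ
    rw [hC P] at h
    exact h
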