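import Cfsg.Agent.Lib.helper88.PPowerNormal

/-!
Transport of maps of the centralizer system `C_F(T)` (`T` strongly closed) along maps of `F` that
extend to `T`: if `ε` is a map of `F` on `U` extending to `U ⊔ T` and `χ` is a map of `C_F(T)`
between subgroups of `U`, then `ε χ ε⁻¹` is a map of `C_F(T)`.
-/

set_option autoImplicit false

namespace Cfsg.Agent.Lib.helper90

open Cfsg Cfsg.FusionSystem Cfsg.Agent.Lib.helper88

variable {Ω : Type*} [Group Ω] {S : Subgroup Ω}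

/-- Two homomorphisms on `A ⊔ B` that agree on `A` and on `B` are equal. -/
theorem cse_hom_ext_sup {A B : Subgroup Ω} {M : Type*} [Monoid M] (f₁ f₂ : ↥(A ⊔ B) →* M)
    (hA : ∀ a : A, f₁ (Subgroup.inclusion le_sup_left a) = f₂ (Subgroup.inclusion le_sup_left a))
    (hB : ∀ b : B, f₁ (Subgroup.inclusion le_sup_right b) = f₂ (Subgroup.inclusion le_sup_right b)) :
    f₁ = f₂ := by
  have h1 : (A.subgroupOf (A ⊔ B)) ⊔ (B.subgroupOf (A ⊔ B)) ≤ MonoidHom.eqLocus f₁ f₂ := by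
    apply sup_le
    · intro x hx
      exact hA ⟨x, Subgroup.mem_subgroupOf.mp hx⟩
    · intro x hx
      exact hB ⟨x, Subgroup.mem_subgroupOf.mp hx⟩
  have h2 : (A.subgroupOf (A ⊔ B)) ⊔ (B.subgroupOf (A ⊔ B)) = ⊤ := by
    rw [← Subgroup.subgroupOf_sup le_sup_left le_sup_right, Subgroup.subgroupOf_self]
  rw [h2] at h1
  ext x
  exact h1 (Subgroup.mem_top x)

/-- A map of `F` defined on `U ≥ T`, `T` strongly closed, maps `T` onto `T`. -/
theorem cse_exists_preimage [Finite S] (F : FusionSystem S) {T U : Subgroup Ω}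
    (hT : F.StronglyClosed T) (hTU : T ≤ U) {ψ : U →* Ω} (hψ : ψ ∈ F.Hom U) (t : Ω) (ht : t ∈ T) :
    ∃ t' : T, ψ (Subgroup.inclusion hTU t') = t := by
  have hfinT : Finite T := finite_of_le hT.1
  have hres := restrict_mem F hTU hψ
  have hval : ∀ x : T, ψ (Subgroup.inclusion hTU x) ∈ T := fun x => hT.2 T le_rfl _ hres x
  let f : T → T := fun x => ⟨ψ (Subgroup.inclusion hTU x), hval x⟩
  have hinj : Function.Injective f := by
    intro x y hxy
    have h1 : ψ (Subgroup.inclusion hTU x) = ψ (Subgroup.inclusion hTU y) :=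
      congrArg Subtype.val hxy
    have h2 := F.injective_of_mem hψ h1
    exact Subgroup.inclusion_injective hTU h2
  obtain ⟨t', ht'⟩ := (Finite.injective_iff_surjective.mp hinj) ⟨t, ht⟩
  exact ⟨t', congrArg Subtype.val ht'⟩

/-- A map of `F` defined on `U ⊔ T`, `T` strongly closed, maps `C_S(T) ∩ (U ⊔ T)` into `C_S(T)`. -/
theorem cse_map_mem_centralizerIn [Finite S] (F : FusionSystem S) {T U : Subgroup Ω}
    (hT : F.StronglyClosed T) {ψ : ↥(U ⊔ T) →* Ω} (hψ : ψ ∈ F.Hom (U ⊔ T)) (u : ↥(U ⊔ T))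
    (hu : (u : Ω) ∈ centralizerIn S T) : ψ u ∈ centralizerIn S T := by
  refine Subgroup.mem_inf.mpr ⟨(F.le_of_mem hψ).2 u, ?_⟩
  rw [Subgroup.mem_centralizer_iff]
  intro t ht
  obtain ⟨t', ht'⟩ := cse_exists_preimage F hT le_sup_right hψ t ht
  have hu2 : (u : Ω) ∈ Subgroup.centralizer (T : Set Ω) := hu.2
  have h1 : Subgroup.inclusion le_sup_right t' * u = u * Subgroup.inclusion le_sup_right t' := by
    apply Subtype.ext
    exact Subgroup.mem_centralizer_iff.mp hu2 _ t'.2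
  have h2 := congrArg ψ h1
  rw [map_mul, map_mul, ht'] at h2
  exact h2

/-- **Transport.** Let `T` be strongly closed in `F`, `ε` a map of `F` on `U` that extends to
`U ⊔ T`, and `χ` a map of `C_F(T)` from `P ≤ U` into `U`. Then `ε(x) ↦ ε(χ(x))` is a map of
`C_F(T)` on `ε(P)`. -/
theorem cse_transport [Finite S] (F : FusionSystem S) {T : Subgroup Ω} (hT : F.StronglyClosed T)
    {U : Subgroup Ω} {ε : U →* Ω}
    (hεx : ∃ ψ ∈ F.Hom (U ⊔ T), ∀ x : U, ψ (Subgroup.inclusion le_sup_left x) = ε x)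
    {P : Subgroup Ω} (hPU : P ≤ U) {χ : P →* Ω} (hχ : χ ∈ F.centralizerHom T P)
    (hχU : ∀ x : P, χ x ∈ U) (M : Subgroup Ω)
    (hM : ∀ y : Ω, y ∈ M ↔ ∃ x : P, ε (Subgroup.inclusion hPU x) = y) :
    ∃ χ' ∈ F.centralizerHom T M, ∀ (x : P) (y : M), (y : Ω) = ε (Subgroup.inclusion hPU x) →
      χ' y = ε ⟨χ x, hχU x⟩ := by
  obtain ⟨ψ, hψ, hψε⟩ := hεx
  obtain ⟨hχF, hPQ, hχQ, χh, hχh, hχhP, hχhT⟩ := hχ
  have hPT_le : P ⊔ T ≤ U ⊔ T := sup_le_sup_right hPU T
  have hψ₁ := restrict_mem F hPT_le hψ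
  have hψP : ∀ x : P, ψ (Subgroup.inclusion hPT_le (Subgroup.inclusion le_sup_left x))
      = ε (Subgroup.inclusion hPU x) := fun x => hψε (Subgroup.inclusion hPU x)
  have hψT : ∀ t : T, ψ (Subgroup.inclusion le_sup_right t) ∈ T :=
    fun t => hT.2 T le_rfl _ (restrict_mem F le_sup_right hψ) t
  -- values of `ψ` on `P ⊔ T`
  have hval : ∀ z : ↥(P ⊔ T), ψ (Subgroup.inclusion hPT_le z) ∈ M ⊔ T := by
    have hle : P ⊔ T ≤ ((M ⊔ T).comap (ψ.comp (Subgroup.inclusion hPT_le))).map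
        (P ⊔ T).subtype := by
      apply sup_le
      · intro x hx
        refine ⟨Subgroup.inclusion le_sup_left ⟨x, hx⟩, ?_, rfl⟩
        rw [SetLike.mem_coe, Subgroup.mem_comap]
        exact Subgroup.mem_sup_left ((hM _).mpr ⟨⟨x, hx⟩, (hψP ⟨x, hx⟩).symm⟩)
      · intro t ht
        refine ⟨Subgroup.inclusion le_sup_right ⟨t, ht⟩, ?_, rfl⟩
        rw [SetLike.mem_coe, Subgroup.mem_comap]
        exact Subgroup.mem_sup_right (hψT ⟨t, ht⟩)
    intro z
    obtain ⟨z', hz', hzz'⟩ := hle z.2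
    have h1 : z' = z := Subtype.ext hzz'
    rw [← h1]
    exact hz'
  have hrange : (ψ.comp (Subgroup.inclusion hPT_le)).range = M ⊔ T := by
    apply le_antisymm
    · rintro _ ⟨z, rfl⟩
      exact hval z
    · apply sup_le
      · intro y hy
        obtain ⟨x, hx⟩ := (hM y).mp hy
        exact ⟨Subgroup.inclusion le_sup_left x, (hψP x).trans hx⟩
      · intro t ht
        obtain ⟨t', ht'⟩ := cse_exists_preimage F hT le_sup_right hψ t ht
        exact ⟨Subgroup.inclusion le_sup_right t', ht'⟩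
  obtain ⟨e₁, he₁, he₁x⟩ := exists_isoEquiv F hψ₁ hrange
  -- `χh` has values in `U ⊔ T`
  have hχhval : ∀ z : ↥(P ⊔ T), χh z ∈ U ⊔ T := by
    have hle : P ⊔ T ≤ ((U ⊔ T).comap χh).map (P ⊔ T).subtype := by
      apply sup_le
      · intro x hx
        refine ⟨Subgroup.inclusion le_sup_left ⟨x, hx⟩, ?_, rfl⟩
        rw [SetLike.mem_coe, Subgroup.mem_comap, hχhP]
        exact Subgroup.mem_sup_left (hχU _)
      · intro t ht
        refine ⟨Subgroup.inclusion le_sup_right ⟨t, ht⟩, ?_, rfl⟩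
        rw [SetLike.mem_coe, Subgroup.mem_comap, hχhT]
        exact Subgroup.mem_sup_right ht
    intro z
    obtain ⟨z', hz', hzz'⟩ := hle z.2
    have h1 : z' = z := Subtype.ext hzz'
    rw [← h1]
    exact hz'
  have hcomp := F.comp_mem hχh hψ hχhval
  have hψ' := F.comp_mem he₁.2 hcomp (fun z => (e₁.symm z).2)
  obtain ⟨ψ', hψ'def⟩ : ∃ ψ' : ↥(M ⊔ T) →* Ω, ψ' = (ψ.comp (χh.codRestrict (U ⊔ T) hχhval)).comp
      (((P ⊔ T).subtype.comp e₁.symm.toMonoidHom).codRestrict (P ⊔ T)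
        (fun z => (e₁.symm z).2)) := ⟨_, rfl⟩
  rw [← hψ'def] at hψ'
  have hψ'app : ∀ z : ↥(M ⊔ T), ψ' z = ψ ⟨χh (e₁.symm z), hχhval _⟩ := by
    intro z
    rw [hψ'def]
    rfl
  -- values of `ψ'` on `M`
  have hψ'M : ∀ (x : P) (y : M), (y : Ω) = ε (Subgroup.inclusion hPU x) →
      ψ' (Subgroup.inclusion le_sup_left y) = ε ⟨χ x, hχU x⟩ := by
    intro x y hy
    have h1 : e₁.symm (Subgroup.inclusion le_sup_left y) = Subgroup.inclusion le_sup_left x := by
      rw [MulEquiv.symm_apply_eq]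
      apply Subtype.ext
      rw [he₁x]
      show (y : Ω) = ψ (Subgroup.inclusion hPT_le (Subgroup.inclusion le_sup_left x))
      rw [hψP, hy]
    rw [hψ'app]
    have h2 : (⟨χh (e₁.symm (Subgroup.inclusion le_sup_left y)), hχhval _⟩ : ↥(U ⊔ T))
        = Subgroup.inclusion le_sup_left ⟨χ x, hχU x⟩ := by
      apply Subtype.ext
      show χh (e₁.symm (Subgroup.inclusion le_sup_left y)) = χ x
      rw [h1, hχhP]
    rw [h2, hψε]
  -- values of `ψ'` on `T`
  have hψ'T : ∀ t : T, ψ' (Subgroup.inclusion le_sup_right t) = t := by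
    intro t
    obtain ⟨t', ht'⟩ := cse_exists_preimage F hT le_sup_right hψ t t.2
    have h1 : e₁.symm (Subgroup.inclusion le_sup_right t) = Subgroup.inclusion le_sup_right t' := by
      rw [MulEquiv.symm_apply_eq]
      apply Subtype.ext
      rw [he₁x]
      show (t : Ω) = ψ (Subgroup.inclusion hPT_le (Subgroup.inclusion le_sup_right t'))
      exact ht'.symm
    rw [hψ'app]
    have h2 : (⟨χh (e₁.symm (Subgroup.inclusion le_sup_right t)), hχhval _⟩ : ↥(U ⊔ T))
        = Subgroup.inclusion le_sup_right t' := by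
      apply Subtype.ext
      show χh (e₁.symm (Subgroup.inclusion le_sup_right t)) = t'
      rw [h1, hχhT]
    rw [h2, ht']
  have hMQ : M ≤ centralizerIn S T := by
    intro y hy
    obtain ⟨x, hx⟩ := (hM y).mp hy
    rw [← hx, ← hψε]
    exact cse_map_mem_centralizerIn F hT hψ _ (hPQ x.2)
  refine ⟨ψ'.comp (Subgroup.inclusion le_sup_left), ⟨restrict_mem F le_sup_left hψ', hMQ, ?_,
    ψ', hψ', fun y => rfl, hψ'T⟩, ?_⟩
  · intro y
    obtain ⟨x, hx⟩ := (hM y).mp y.2
    show ψ' (Subgroup.inclusion le_sup_left y) ∈ centralizerIn S T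
    rw [hψ'M x y hx.symm, ← hψε]
    exact cse_map_mem_centralizerIn F hT hψ _ (hχQ x)
  · intro x y hy
    exact hψ'M x y hy

/-- Transport of automorphisms: if `e : R ≃* M` is a map of `F` that extends to `R ⊔ T` and `a` is
an automorphism of `R` in `C_F(T)`, then `e a e⁻¹` is an automorphism of `M` in `C_F(T)`. -/
theorem cse_congr_mem [Finite S] (F : FusionSystem S) {T : Subgroup Ω} (hT : F.StronglyClosed T)
    {R M : Subgroup Ω} (e : R ≃* M)
    (hex : ∃ ψ ∈ F.Hom (R ⊔ T), ∀ x : R, ψ (Subgroup.inclusion le_sup_left x) = (e x : Ω))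
    {a : MulAut R} (ha : R.subtype.comp a.toMonoidHom ∈ F.centralizerHom T R) :
    M.subtype.comp (MulAut.congr e a).toMonoidHom ∈ F.centralizerHom T M := by
  obtain ⟨χ', hχ', hχ'eq⟩ := cse_transport F hT (U := R) (ε := M.subtype.comp e.toMonoidHom) hex
    le_rfl ha (fun x => (a x).2) M (by
      intro y
      constructor
      · intro hy
        refine ⟨e.symm ⟨y, hy⟩, ?_⟩
        show ((e (e.symm ⟨y, hy⟩) : M) : Ω) = y
        rw [MulEquiv.apply_symm_apply]
      · rintro ⟨x, rfl⟩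
        exact (e _).2)
  have h1 : M.subtype.comp (MulAut.congr e a).toMonoidHom = χ' := by
    ext y
    have h2 := hχ'eq (e.symm y) y (by
      show (y : Ω) = ((e (e.symm y) : M) : Ω)
      rw [MulEquiv.apply_symm_apply])
    rw [h2]
    rfl
  rw [h1]
  exact hχ'

end Cfsg.Agent.Lib.helper90
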