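import Cfsg.Agent.Lib.helper90.FocalBasic
import Cfsg.Agent.Lib.helper87.Factor
import Cfsg.Agent.Lib.helper88.AbelianSimple
import Cfsg.Agent.S5132
import Cfsg.Agent.S5133
import Cfsg.Agent.S5134

/-!
Control of transfer in saturated fusion systems by an isomorphism-invariant `p`-group functor `W`
(helper90).

Hypothesis `TransferHyp`: in every finite group `G` with `C_G(O_p(G)) ≤ O_p(G)` and Sylow
`p`-subgroup `P`, `O_p(G) ∩ G' = O_p(G) ∩ N_G(W(P))'`.  Conclusion (`focal_normalizerSystem_eq`):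
`foc(N_F(W(S))) = foc(F)` for every saturated fusion system `F` over `S`.

The proof is an induction on `|S|` and on the number of maps of `F`.
* If `F` has no nontrivial normal subgroup, the Alperin-type induction over well-placed subgroups
  reduces to normalizer systems, which are smaller (`focal_le_of_no_normal`).
* If `Q` is a normal subgroup of `F` of largest order, the quotient `F/Q` gives
  `foc(F) ≤ foc(N_F(L)) Q` for the preimage `L` of `W(S/Q)`, which is not normal in `F`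
  (`exists_quotient_step`); and a transfer argument gives `Q ∩ foc(F) ≤ foc(N_F(W(S)))` once the
  commutators `[Q, Aut_F(Q)]` lie there, which is read off in a model of `N_F(Q C_S(Q))` with the
  focal subgroup theorem (`comm_mem_nFoc_of_normal`).
-/

set_option autoImplicit false

namespace Cfsg.Agent.Lib.helper90

open Cfsg Cfsg.FusionSystem Cfsg.Agent.Lib.helper89

open scoped commutatorElement

universe u

/-- The local transfer condition on a functor `W`. -/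
def TransferHyp (p : ℕ) [Fact p.Prime] (W : ∀ (Q : Type u) [Group Q], Subgroup Q) : Prop :=
  ∀ (G : Type u) [Group G] [Finite G] (P : Sylow p G),
    Subgroup.centralizer ((Cfsg.pCore p G : Subgroup G) : Set G) ≤ Cfsg.pCore p G →
      Cfsg.pCore p G ⊓ commutator G = Cfsg.pCore p G ⊓
        (commutator ↥(Subgroup.normalizer
          (((W ↥(P : Subgroup G)).map (P : Subgroup G).subtype : Subgroup G) : Set G))).map
          (Subgroup.normalizer
            (((W ↥(P : Subgroup G)).map (P : Subgroup G).subtype : Subgroup G) : Set G)).subtype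

section ctl

variable {Ω : Type u} [Group Ω] {S : Subgroup Ω} {p : ℕ} [Fact p.Prime]
  {W : ∀ (Q : Type u) [Group Q], Subgroup Q}

omit [Fact p.Prime] in
theorem ind_ne_bot (hW : IsCharPFunctor.{u} p W) {X : Type u} [Group X] {N : Subgroup X}
    [Finite N] (hN : IsPGroup p N) (hN0 : N ≠ ⊥) : inducedFunctor W N ≠ ⊥ := by
  have hnt : Nontrivial N := (Subgroup.nontrivial_iff_ne_bot N).mpr hN0
  have h1 := hW.1 N hN hnt
  intro h
  apply h1
  exact (Subgroup.map_eq_bot_iff_of_injective _ N.subtype_injective).mp h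

/-- A map of `F` carrying `U` into `U` carries `U` onto `U`. -/
theorem exists_preimage_mem [Finite S] (F : FusionSystem S) {U D : Subgroup Ω} {φ : D →* Ω}
    (hφ : φ ∈ F.Hom D) (hUD : U ≤ D)
    (h : ∀ (u : Ω) (_ : u ∈ U) (hD : u ∈ D), φ ⟨u, hD⟩ ∈ U) (u : Ω) (hu : u ∈ U) :
    ∃ (u' : Ω) (hu' : u' ∈ U), φ ⟨u', hUD hu'⟩ = u := by
  have hfinU : Finite U := finite_of_le (hUD.trans (le_of_hom F hφ))
  let f : U → U := fun v => ⟨φ ⟨v, hUD v.2⟩, h v v.2 _⟩
  have hf : Function.Injective f := by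
    intro a b hab
    have h1 : φ ⟨a, hUD a.2⟩ = φ ⟨b, hUD b.2⟩ := congrArg Subtype.val hab
    have h2 := F.injective_of_mem hφ h1
    have h3 : (a : Ω) = b := congrArg (fun d : D => (d : Ω)) h2
    exact Subtype.ext h3
  obtain ⟨v, hv⟩ := (Finite.injective_iff_surjective.mp hf) ⟨u, hu⟩
  exact ⟨v, v.2, congrArg Subtype.val hv⟩

/-- `nFoc F U` lies in the focal subgroup of a normalizer system of `U`. -/
theorem nFoc_le_focal_of_isNormalizerSystem [Finite S] (F : FusionSystem S) (U : Subgroup Ω)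
    (N : FusionSystem (normalizerIn S U)) (hN : F.IsNormalizerSystem U N) :
    nFoc F U ≤ N.focalSubgroup := by
  unfold nFoc
  rw [Subgroup.closure_le]
  rintro _ ⟨D, φ, x, hφ, hUD, hDN, h, rfl⟩
  have hDS : D ≤ S := le_of_hom F hφ
  have hfinU : Finite U := finite_of_le (hUD.trans hDS)
  have hφN : φ ∈ N.Hom D := by
    rw [hN D, mem_normalizerHom_iff]
    refine ⟨hφ, hDN, fun y => ⟨(F.le_of_mem hφ).2 y, ?_⟩, D, φ, hφ, le_rfl, hUD,
      fun _ _ _ => rfl, h⟩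
    apply Cfsg.Agent.Lib.helper88.mem_normalizer_of_conj_mem
    intro u hu
    obtain ⟨u', hu', rfl⟩ := exists_preimage_mem F hφ hUD h u hu
    have hyn : (y : Ω) * u' * (y : Ω)⁻¹ ∈ U :=
      (Subgroup.mem_normalizer_iff.mp (hDN y.2).2 u').mp hu'
    have e : φ y * φ ⟨u', hUD hu'⟩ * (φ y)⁻¹ = φ ⟨(y : Ω) * u' * (y : Ω)⁻¹, hUD hyn⟩ := by
      have e' : (⟨(y : Ω) * u' * (y : Ω)⁻¹, hUD hyn⟩ : D) = y * ⟨u', hUD hu'⟩ * y⁻¹ := rfl
      rw [e', map_mul, map_mul, map_inv]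
    rw [e]
    exact h _ hyn _
  exact Subgroup.subset_closure ⟨D, φ, x, hφN, rfl⟩

/-- The chain step: for a well-placed subgroup `U ≠ 1`, `nFoc F U ≤ T`, given this for the
subgroups normalized by `S` and the theorem for smaller `p`-groups. -/
theorem chainFoc (hW : IsCharPFunctor.{u} p W) [Finite S] (hS : IsPGroup p S)
    (F : FusionSystem S) (hF : F.IsSaturated p) (T : Subgroup Ω)
    (ih1 : ∀ (N : Subgroup Ω) [Finite N], Nat.card N < Nat.card S → IsPGroup p N →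
      ∀ E : FusionSystem N, E.IsSaturated p → E.focalSubgroup ≤ nFoc E (inducedFunctor W N))
    (hnc : ∀ U : Subgroup Ω, U ≠ ⊥ → U ≤ S → S ≤ Subgroup.normalizer (U : Set Ω) →
      nFoc F U ≤ T) :
    ∀ U : Subgroup Ω, WellPlaced W F U → U ≠ ⊥ → nFoc F U ≤ T := by
  intro U hU
  induction hU with
  | mk U hfn _ ih' =>
    intro hU0
    have hUS : U ≤ S := hfn.1
    by_cases hN : normalizerIn S U = S
    · have hn : S ≤ Subgroup.normalizer (U : Set Ω) := by
        intro s hs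
        have : s ∈ normalizerIn S U := by rw [hN]; exact hs
        exact this.2
      exact hnc U hU0 hUS hn
    · have hNS : normalizerIn S U ≤ S := inf_le_left
      have hfinN : Finite (normalizerIn S U) :=
        Finite.of_injective (Subgroup.inclusion hNS) (Subgroup.inclusion_injective hNS)
      have hcard : Nat.card (normalizerIn S U) < Nat.card S :=
        card_lt_of_lt_le le_rfl (lt_of_le_of_ne hNS hN)
      have hsat := Cfsg.Agent.S5098.result p hS F hF U hfn (normalizerSystem F U hUS)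
        (isNormalizerSystem_normalizerSystem F U hUS)
      have h1 := nFoc_le_focal_of_isNormalizerSystem F U _
        (isNormalizerSystem_normalizerSystem F U hUS)
      have h2 := ih1 (normalizerIn S U) hcard (hS.to_le hNS) (normalizerSystem F U hUS) hsat
      have h3 : nFoc (normalizerSystem F U hUS) (inducedFunctor W (normalizerIn S U)) ≤
          nFoc F (inducedFunctor W (normalizerIn S U)) := by
        unfold nFoc
        apply Subgroup.closure_mono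
        rintro _ ⟨D, φ, x, hφ, hUD, hDN, h, rfl⟩
        have hφF : φ ∈ F.Hom D := by
          have h0 := (isNormalizerSystem_normalizerSystem F U hUS) D
          rw [h0] at hφ
          exact hφ.1
        exact ⟨D, φ, x, hφF, hUD, fun d hd => ⟨hNS (hDN hd).1, (hDN hd).2⟩, h, rfl⟩
      have hN0 : normalizerIn S U ≠ ⊥ := by
        intro h0
        apply hU0
        rw [eq_bot_iff, ← h0]
        exact le_normalizerIn hUS
      have hU1 : inducedFunctor W (normalizerIn S U) ≠ ⊥ := ind_ne_bot hW (hS.to_le hNS) hN0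
      exact h1.trans (h2.trans (h3.trans (ih' hN hU1)))

/-- For `U` normalized by `S` but not normal in `F`, `nFoc F U ≤ nFoc F (W(S))`, given the theorem
for the proper subsystems of `F` over `S`. -/
theorem nFoc_le_of_not_isNormal [Finite S] (hS : IsPGroup p S)
    (F : FusionSystem S) (hF : F.IsSaturated p)
    (ih2 : ∀ F' : FusionSystem S, F'.IsSaturated p → (∀ P, F'.Hom P ⊆ F.Hom P) →
      (∃ (P : Subgroup Ω) (φ : P →* Ω), φ ∈ F.Hom P ∧ φ ∉ F'.Hom P) →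
      F'.focalSubgroup ≤ nFoc F' (inducedFunctor W S))
    {U : Subgroup Ω} (hUS : U ≤ S) (hn : S ≤ Subgroup.normalizer (U : Set Ω))
    (hnn : ¬ F.IsNormal U) : nFoc F U ≤ nFoc F (inducedFunctor W S) := by
  have hsat := normSys_saturated hS F hF U hUS hn
  have hle := normSys_le F U hUS hn
  have hne : ∃ (P : Subgroup Ω) (φ : P →* Ω), φ ∈ F.Hom P ∧ φ ∉ (normSys F U hUS hn).Hom P := by
    by_contra hcon
    push Not at hcon
    apply hnn
    rw [isNormal_iff_forall_normExt]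
    exact ⟨hUS, fun P φ hφ => ((mem_normSys_iff F U hUS hn φ).mp (hcon P φ hφ)).2⟩
  have h1 := ih2 _ hsat hle hne
  have h2 : nFoc F U ≤ (normSys F U hUS hn).focalSubgroup := by
    unfold nFoc
    rw [Subgroup.closure_le]
    rintro _ ⟨D, φ, x, hφ, hUD, hDN, h, rfl⟩
    exact Subgroup.subset_closure ⟨D, φ, x,
      mem_normSys_of_forall_mem F U hUS hn hφ hUD (fun q hq => h q hq (hUD hq)), rfl⟩
  exact h2.trans (h1.trans (nFoc_mono hle _))

/-- **No nontrivial normal subgroup.** -/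
theorem focal_le_of_no_normal (hW : IsCharPFunctor.{u} p W) [Finite S] (hS : IsPGroup p S)
    (F : FusionSystem S) (hF : F.IsSaturated p)
    (ih1 : ∀ (N : Subgroup Ω) [Finite N], Nat.card N < Nat.card S → IsPGroup p N →
      ∀ E : FusionSystem N, E.IsSaturated p → E.focalSubgroup ≤ nFoc E (inducedFunctor W N))
    (ih2 : ∀ F' : FusionSystem S, F'.IsSaturated p → (∀ P, F'.Hom P ⊆ F.Hom P) →
      (∃ (P : Subgroup Ω) (φ : P →* Ω), φ ∈ F.Hom P ∧ φ ∉ F'.Hom P) →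
      F'.focalSubgroup ≤ nFoc F' (inducedFunctor W S))
    (hno : ∀ Q : Subgroup Ω, F.IsNormal Q → Q = ⊥) :
    F.focalSubgroup ≤ nFoc F (inducedFunctor W S) := by
  have hKS : inducedFunctor W S ≤ S := Cfsg.Agent.Lib.helper39.ind_le S
  have hKn : S ≤ Subgroup.normalizer ((inducedFunctor W S : Subgroup Ω) : Set Ω) := by
    intro s hs
    exact mem_normalizer_ind hW hS (Subgroup.le_normalizer hs)
  have hnc : ∀ U : Subgroup Ω, U ≠ ⊥ → U ≤ S → S ≤ Subgroup.normalizer (U : Set Ω) →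
      nFoc F U ≤ nFoc F (inducedFunctor W S) := by
    intro U hU0 hUS hn
    exact nFoc_le_of_not_isNormal hS F hF ih2 hUS hn (fun h => hU0 (hno U h))
  apply focal_le_of_wellPlaced hS hW F hF _ (fun g hg t ht => nFoc_conj_mem F hKS hKn hg ht)
    (fun x hx s hs => comm_mem_nFoc F hKS hKn hx hs)
  intro R hR α hα x
  by_cases hR0 : R = ⊥
  · have hbot : ∀ y : R, (y : Ω) = 1 := by
      intro y
      have h' : (y : Ω) ∈ (⊥ : Subgroup Ω) := by
        rw [← hR0]; exact y.2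
      exact Subgroup.mem_bot.mp h'
    have hx1 : (x : Ω) = 1 := hbot x
    have hx2 : ((α x : R) : Ω) = 1 := hbot (α x)
    rw [hx1, hx2, inv_one, one_mul]
    exact Subgroup.one_mem _
  · have hRS : R ≤ S := hR.fullyNormalized.1
    have h1 := chainFoc hW hS F hF _ ih1 hnc R hR hR0
    apply h1
    have hφ := (mem_autGroup_iff F hRS α).mp hα
    exact mem_nFoc hφ le_rfl (le_normalizerIn hRS) (fun u hu hD => (α ⟨u, hD⟩).2) x

/-- **The quotient step.** For `Q` strongly closed in `F`, `1 ≠ Q ≠ S`, the preimage `L` of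
`W(S/Q)` satisfies `foc(F) ≤ K` for every `K ≥ Q` containing `nFoc F L`. -/
theorem exists_quotient_step (hW : IsCharPFunctor.{u} p W) [Finite S] (hS : IsPGroup p S)
    (F : FusionSystem S) (hF : F.IsSaturated p)
    (ih1 : ∀ (Ω' : Type u) [Group Ω'] (S' : Subgroup Ω') [Finite S'],
      Nat.card S' < Nat.card S → IsPGroup p S' →
      ∀ E : FusionSystem S', E.IsSaturated p → E.focalSubgroup ≤ nFoc E (inducedFunctor W S'))
    {Q : Subgroup Ω} (hQ : F.StronglyClosed Q) (hQ0 : Q ≠ ⊥) (hQS : Q ≠ S) :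
    ∃ L : Subgroup Ω, Q ≤ L ∧ L ≤ S ∧ S ≤ Subgroup.normalizer (L : Set Ω) ∧
      Nat.card Q < Nat.card L ∧
      ∀ K : Subgroup Ω, Q ≤ K → nFoc F L ≤ K → F.focalSubgroup ≤ K := by
  classical
  have hQle : Q ≤ S := hQ.1
  have hnorm : (Q.subgroupOf S).Normal := by
    constructor
    intro n hn g
    rw [Subgroup.mem_subgroupOf] at hn ⊢
    exact hQ.2 Q le_rfl (conjHom Q (g : Ω)) (F.conj_mem hQle g.2) ⟨n, hn⟩
  obtain ⟨E, hE⟩ := Cfsg.Agent.S5132.result p hS F Q hQ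
  obtain ⟨θ, hθ⟩ : ∃ θ : ↥S →* ↥S ⧸ Q.subgroupOf S, θ = QuotientGroup.mk' (Q.subgroupOf S) :=
    ⟨_, rfl⟩
  rw [← hθ] at hE
  have hsurj := Cfsg.Agent.S5134.result p hS F hF Q hQ θ E hE
  have hEsat := Cfsg.Agent.S5133.result p hS F hF E θ hsurj
  obtain ⟨-, hker, -, hiff⟩ := hE
  have hθsurj : Function.Surjective θ := by rw [hθ]; exact QuotientGroup.mk'_surjective _
  have hpQ : IsPGroup p (↥S ⧸ Q.subgroupOf S) := hS.to_quotient _
  have hpTop : IsPGroup p (⊤ : Subgroup (↥S ⧸ Q.subgroupOf S)) := hpQ.to_subgroup _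
  have hQ'0 : Q.subgroupOf S ≠ ⊥ := by
    intro h
    apply hQ0
    rw [eq_bot_iff]
    intro q hq
    have h1 : (⟨q, hQle hq⟩ : S) ∈ Q.subgroupOf S := Subgroup.mem_subgroupOf.mpr hq
    rw [h, Subgroup.mem_bot] at h1
    exact Subgroup.mem_bot.mpr (congrArg Subtype.val h1)
  have hcard : Nat.card (⊤ : Subgroup (↥S ⧸ Q.subgroupOf S)) < Nat.card S := by
    rw [Subgroup.card_top, Subgroup.card_eq_card_quotient_mul_card_subgroup (Q.subgroupOf S)]
    have h1 : 1 < Nat.card (Q.subgroupOf S) := (Subgroup.one_lt_card_iff_ne_bot _).mpr hQ'0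
    have h2 : 0 < Nat.card (↥S ⧸ Q.subgroupOf S) := Nat.card_pos
    nlinarith
  have h2 := ih1 (↥S ⧸ Q.subgroupOf S) ⊤ hcard hpTop E hEsat
  obtain ⟨Wb, hWb⟩ : ∃ Wb : Subgroup (↥S ⧸ Q.subgroupOf S),
      Wb = inducedFunctor W (⊤ : Subgroup (↥S ⧸ Q.subgroupOf S)) := ⟨_, rfl⟩
  rw [← hWb] at h2
  have hWbn : ∀ g : ↥S ⧸ Q.subgroupOf S, g ∈ Subgroup.normalizer (Wb : Set (↥S ⧸ Q.subgroupOf S)) := by
    intro g
    rw [hWb]
    exact mem_normalizer_ind hW hpTop (Subgroup.le_normalizer (Subgroup.mem_top g))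
  have hmemL : ∀ x, x ∈ preimageAlong θ Wb ↔ ∃ h : x ∈ S, θ ⟨x, h⟩ ∈ Wb :=
    fun x => Cfsg.Agent.Lib.helper87.mem_preimageAlong θ Wb x
  have hLS : preimageAlong θ Wb ≤ S := Cfsg.Agent.Lib.helper87.preimageAlong_le θ Wb
  have hQL : Q ≤ preimageAlong θ Wb := Cfsg.Agent.Lib.helper87.le_preimageAlong θ hQle hker Wb
  have hfinL : Finite (preimageAlong θ Wb) := finite_of_le hLS
  have hLn : S ≤ Subgroup.normalizer ((preimageAlong θ Wb : Subgroup Ω) : Set Ω) := by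
    intro s hs
    apply Cfsg.Agent.Lib.helper88.mem_normalizer_of_conj_mem
    intro l hl
    obtain ⟨hlS, hlW⟩ := (hmemL l).mp hl
    refine (hmemL _).mpr ⟨S.mul_mem (S.mul_mem hs hlS) (S.inv_mem hs), ?_⟩
    have e : (⟨s * l * s⁻¹, S.mul_mem (S.mul_mem hs hlS) (S.inv_mem hs)⟩ : S) =
        ⟨s, hs⟩ * ⟨l, hlS⟩ * (⟨s, hs⟩ : S)⁻¹ := rfl
    rw [e, map_mul, map_mul, map_inv]
    exact (Subgroup.mem_normalizer_iff.mp (hWbn (θ ⟨s, hs⟩)) _).mp hlW
  have hlt : Q < preimageAlong θ Wb := by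
    refine lt_of_le_of_ne hQL ?_
    intro heq
    have hTop0 : (⊤ : Subgroup (↥S ⧸ Q.subgroupOf S)) ≠ ⊥ := by
      intro h
      apply hQS
      apply le_antisymm hQle
      intro s hs
      have h1 : θ ⟨s, hs⟩ ∈ (⊤ : Subgroup (↥S ⧸ Q.subgroupOf S)) := Subgroup.mem_top _
      rw [h, Subgroup.mem_bot] at h1
      exact (hker _).mp h1
    have hWb0 : Wb ≠ ⊥ := by rw [hWb]; exact ind_ne_bot hW hpTop hTop0
    apply hWb0
    rw [eq_bot_iff]
    intro w hw
    obtain ⟨s, rfl⟩ := hθsurj w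
    have h1 : (s : Ω) ∈ preimageAlong θ Wb := (hmemL _).mpr ⟨s.2, hw⟩
    rw [← heq] at h1
    exact Subgroup.mem_bot.mpr ((hker s).mpr h1)
  refine ⟨preimageAlong θ Wb, hQL, hLS, hLn, card_lt_of_lt_le hLS hlt, ?_⟩
  intro K hQK hLK
  -- (i)
  have hi : nFoc E Wb ≤ imageAlong θ K := by
    unfold nFoc
    rw [Subgroup.closure_le]
    rintro _ ⟨D', ψ', x', hψ', hWD, hDN, h, rfl⟩
    obtain ⟨-, ψ, hψ, hDS, hψS, hD', hind⟩ := (hiff D' ψ').mp hψ'
    have hmemD : ∀ x, x ∈ preimageAlong θ D' ↔ ∃ h : x ∈ S, θ ⟨x, h⟩ ∈ D' :=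
      fun x => Cfsg.Agent.Lib.helper87.mem_preimageAlong θ D' x
    obtain ⟨x₀, hx₀⟩ := hθsurj (x' : ↥S ⧸ Q.subgroupOf S)
    have hx₀D : (x₀ : Ω) ∈ preimageAlong θ D' := (hmemD _).mpr ⟨x₀.2, by rw [hx₀]; exact x'.2⟩
    have hLD : preimageAlong θ Wb ≤ preimageAlong θ D' := by
      intro l hl
      obtain ⟨hlS, hlW⟩ := (hmemL l).mp hl
      exact (hmemD l).mpr ⟨hlS, hWD hlW⟩
    have hψL : ∀ (l : Ω) (_ : l ∈ preimageAlong θ Wb) (hD : l ∈ preimageAlong θ D'),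
        ψ ⟨l, hD⟩ ∈ preimageAlong θ Wb := by
      intro l hl hD
      obtain ⟨hlS, hlW⟩ := (hmemL l).mp hl
      refine (hmemL _).mpr ⟨hψS _, ?_⟩
      rw [← hind ⟨l, hD⟩]
      exact h _ hlW _
    have hmem := mem_nFoc hψ hLD (fun d hd => ⟨hDS hd, hLn (hDS hd)⟩) hψL ⟨x₀, hx₀D⟩
    refine ⟨x₀⁻¹ * ⟨ψ ⟨x₀, hx₀D⟩, hψS _⟩, Subgroup.mem_subgroupOf.mpr (hLK hmem), ?_⟩
    have e1 := hind ⟨x₀, hx₀D⟩
    have e2 : (⟨θ ⟨(x₀ : Ω), hDS hx₀D⟩, hD' ⟨x₀, hx₀D⟩⟩ : D') = x' := Subtype.ext hx₀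
    rw [e2] at e1
    show θ (x₀⁻¹ * ⟨ψ ⟨x₀, hx₀D⟩, hψS _⟩) = (x' : ↥S ⧸ Q.subgroupOf S)⁻¹ * ψ' x'
    rw [map_mul, map_inv, hx₀, e1]
  -- (ii)
  unfold FusionSystem.focalSubgroup
  rw [Subgroup.closure_le]
  rintro _ ⟨P, φ, x, hφ, rfl⟩
  obtain ⟨φ', hφ', hPS, hφS, hP', hind⟩ := hsurj.1.2 P φ hφ
  have hgen : (θ ⟨x, hPS x.2⟩)⁻¹ * θ ⟨φ x, hφS x⟩ ∈ E.focalSubgroup := by
    rw [← hind x]
    exact Subgroup.subset_closure ⟨_, φ', ⟨θ ⟨x, hPS x.2⟩, hP' x⟩, hφ', rfl⟩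
  obtain ⟨k, hk, hkeq⟩ := hi (h2 hgen)
  have hkK : (k : Ω) ∈ K := Subgroup.mem_subgroupOf.mp hk
  have h3 : θ (k⁻¹ * ((⟨x, hPS x.2⟩ : S)⁻¹ * ⟨φ x, hφS x⟩)) = 1 := by
    rw [map_mul, map_inv, hkeq, map_mul, map_inv, inv_mul_cancel]
  have h4 := (hker _).mp h3
  have e : (x : Ω)⁻¹ * φ x = (k : Ω) * ((k : Ω)⁻¹ * ((x : Ω)⁻¹ * φ x)) := by group
  show (x : Ω)⁻¹ * φ x ∈ K
  rw [e]
  exact K.mul_mem hkK (hQK h4)

/-- An automorphism in `F` of a subgroup `U` normalized by `S` is realized, on `U`, by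
conjugation in a model of a subsystem of `F`, in which the image of `U` lies in `O_p`. -/
theorem exists_model_aut (hmodel : ModelHyp.{u} p) [Finite S] (hS : IsPGroup p S)
    (F : FusionSystem S) (hF : F.IsSaturated p) {U : Subgroup Ω}
    (hUS : U ≤ S) (hn : S ≤ Subgroup.normalizer (U : Set Ω))
    {φ : U →* Ω} (hφ : φ ∈ F.Hom U) (hφr : φ.range = U) :
    ∃ (E : FusionSystem S) (G : Type u) (_ : Group G) (ι : S →* G) (g : G),
      (∀ P : Subgroup Ω, E.Hom P ⊆ F.Hom P) ∧ E.IsModel p G ι ∧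
      (∀ u : U, ι ⟨φ u, (F.le_of_mem hφ).2 u⟩ = g * ι ⟨u, hUS u.2⟩ * g⁻¹) ∧
      (∀ u : U, ι ⟨u, hUS u.2⟩ ∈ pCore p G) := by
  classical
  obtain ⟨R, hRdef⟩ : ∃ R : Subgroup Ω, R = U ⊔ centralizerIn S U := ⟨_, rfl⟩
  have hUR : U ≤ R := by rw [hRdef]; exact le_sup_left
  have hCR : centralizerIn S U ≤ R := by rw [hRdef]; exact le_sup_right
  have hRS : R ≤ S := by rw [hRdef]; exact sup_le hUS inf_le_left
  have hRn : S ≤ Subgroup.normalizer (R : Set Ω) := by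
    rw [hRdef]; exact normalizer_sup_centralizerIn hn
  have hRc : centralizerIn S R ≤ R := by rw [hRdef]; exact centralizerIn_sup_le
  -- extension of `φ` to `R`
  have hfnU := fullyNormalized_of_normal F hUS hn
  have hrec := (Cfsg.Agent.Lib.helper88.fullyAutomized_receptive_of_fullyNormalized hS F hF hfnU).2
  obtain ⟨ψ, hψ, hψφ⟩ := hrec.2 U φ hφ hφr
  have hUext : U ≤ extender S U φ := Cfsg.Agent.Lib.helper88.le_extender F hφ
  have hCext : centralizerIn S U ≤ extender S U φ := by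
    intro c hc
    apply Subgroup.subset_closure
    refine ⟨hc.1, mem_normalizer_of_mem_centralizer hc.2, 1, S.one_mem, fun x hx => ?_⟩
    have h1 : c * (x : Ω) * c⁻¹ = x := by
      have := (Subgroup.mem_centralizer_iff.mp hc.2) (x : Ω) x.2
      rw [← this]; group
    have e : (⟨c * (x : Ω) * c⁻¹, hx⟩ : U) = x := Subtype.ext h1
    rw [e]; simp
  have hRext : R ≤ extender S U φ := by rw [hRdef]; exact sup_le hUext hCext
  have hψR := Cfsg.Agent.Lib.helper88.restrict_mem F hRext hψ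
  have hmapR : ∀ (r : Ω) (hr : r ∈ R), ψ ⟨r, hRext hr⟩ ∈ R := by
    have h1 : U ⊔ centralizerIn S U ≤ (R.comap ψ).map (extender S U φ).subtype := by
      refine sup_le ?_ ?_
      · intro u hu
        refine ⟨⟨u, hUext hu⟩, ?_, rfl⟩
        show ψ ⟨u, hUext hu⟩ ∈ R
        rw [hψφ u hu (hUext hu)]
        apply hUR
        have : φ ⟨u, hu⟩ ∈ φ.range := ⟨⟨u, hu⟩, rfl⟩
        rw [hφr] at this
        exact this
      · intro c hc
        refine ⟨⟨c, hCext hc⟩, ?_, rfl⟩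
        show ψ ⟨c, hCext hc⟩ ∈ R
        apply hCR
        refine ⟨range_le_of_hom F hψ ⟨_, rfl⟩, ?_⟩
        show ψ ⟨c, hCext hc⟩ ∈ Subgroup.centralizer (U : Set Ω)
        rw [Subgroup.mem_centralizer_iff]
        intro u hu
        have hu2 : u ∈ φ.range := by rw [hφr]; exact hu
        obtain ⟨u', rfl⟩ := hu2
        rw [← hψφ (u' : Ω) u'.2 (hUext u'.2), ← map_mul, ← map_mul]
        congr 1
        apply Subtype.ext
        exact (Subgroup.mem_centralizer_iff.mp hc.2) (u' : Ω) u'.2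
    intro r hr
    have hr' : r ∈ U ⊔ centralizerIn S U := by rw [← hRdef]; exact hr
    obtain ⟨z, hz, hzr⟩ := h1 hr'
    have e : (⟨r, hRext hr⟩ : extender S U φ) = z := Subtype.ext hzr.symm
    rw [e]
    exact hz
  -- a model of `N_F(R)`
  have hcon := normSys_isConstrained hS F hF R hRS hRn hRc
  obtain ⟨G, _, ι, hM⟩ := hmodel hS (normSys F R hRS hRn) hcon
  have hM' := hM
  obtain ⟨hfin, hreal, ⟨T₀, hT₀⟩, -⟩ := hM
  have := hfin
  have hinj := hreal.1
  have hψN : ψ.comp (Subgroup.inclusion hRext) ∈ (normSys F R hRS hRn).Hom R :=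
    mem_normSys_of_forall_mem F R hRS hRn hψR le_rfl (fun q hq => hmapR q hq)
  have hval : ∀ x : R, (ψ.comp (Subgroup.inclusion hRext)) x ∈ S :=
    fun x => range_le_of_hom F hψR ⟨x, rfl⟩
  obtain ⟨g, hg⟩ := (hreal.2 R hRS _ hval).mp hψN
  refine ⟨normSys F R hRS hRn, G, inferInstance, ι, g, normSys_le F R hRS hRn, hM', ?_, ?_⟩
  · intro u
    have h1 := hg ⟨u, hUR u.2⟩
    have h1' : ι ⟨φ u, (F.le_of_mem hφ).2 u⟩ =
        ι ⟨(ψ.comp (Subgroup.inclusion hRext)) ⟨u, hUR u.2⟩, hval _⟩ := by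
      congr 1
      apply Subtype.ext
      exact (hψφ u u.2 (hUext u.2)).symm
    exact h1'.trans h1
  · intro u
    have hnorm : ((R.subgroupOf S).map ι).Normal := by
      constructor
      rintro _ ⟨q, hq, rfl⟩ g'
      obtain ⟨q', hq', hqq⟩ := Cfsg.Agent.Lib.helper87.model_conj_mem hM'
        (normSys_isNormal F R hRS hRn) g' q (Subgroup.mem_subgroupOf.mp hq)
      rw [← hqq]
      exact ⟨q', Subgroup.mem_subgroupOf.mpr hq', rfl⟩
    have hle : (R.subgroupOf S).map ι ≤ (T₀ : Subgroup G) := by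
      rintro _ ⟨q, -, rfl⟩
      rw [hT₀]
      exact ⟨q, rfl⟩
    have hpg : IsPGroup p ↥((R.subgroupOf S).map ι) := T₀.2.to_le hle
    exact Cfsg.Agent.Lib.helper39.le_pCore hnorm hpg
      ⟨⟨u, hUS u.2⟩, Subgroup.mem_subgroupOf.mpr (hUR u.2), rfl⟩

/-- **Commutators with a normal subgroup.** If `Q` is normal in `F` and a map `χ` of `F` sends
`w` into `Q`, then `w⁻¹ χ(w)` lies in the focal subgroup of the normalizer of `W(S)`. -/
theorem comm_mem_nFoc_of_normal (hmodel : ModelHyp.{u} p) (hW : IsCharPFunctor.{u} p W)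
    (hT : TransferHyp.{u} p W) [Finite S] (hS : IsPGroup p S)
    (F : FusionSystem S) (hF : F.IsSaturated p) {Q : Subgroup Ω} (hQ : F.IsNormal Q)
    {D : Subgroup Ω} {χ : D →* Ω} (hχ : χ ∈ F.Hom D) (w : D) (hw : χ w ∈ Q) :
    (w : Ω)⁻¹ * χ w ∈ nFoc F (inducedFunctor W S) := by
  classical
  obtain ⟨hQS, hext⟩ := (isNormal_iff_forall_normExt F Q).mp hQ
  have hQsc := Cfsg.Agent.Lib.helper87.stronglyClosed_of_isNormal' F hQ
  have hfinQ : Finite Q := finite_of_le hQS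
  have hn : S ≤ Subgroup.normalizer (Q : Set Ω) := by
    intro s hs
    apply Cfsg.Agent.Lib.helper88.mem_normalizer_of_conj_mem
    intro x hx
    exact hQsc.2 Q le_rfl (conjHom Q s) (F.conj_mem hQS hs) ⟨x, hx⟩
  obtain ⟨R, ψ, hψ, hDR, hQR, h1, h2⟩ := hext D χ hχ
  have hα : ψ.comp (Subgroup.inclusion hQR) ∈ F.Hom Q :=
    Cfsg.Agent.Lib.helper88.restrict_mem F hQR hψ
  have hαr : (ψ.comp (Subgroup.inclusion hQR)).range = Q :=
    range_eq_of_forall_mem F hα (fun x => h2 x x.2 (hQR x.2))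
  have hwQ : (w : Ω) ∈ Q := by
    have hmem : χ w ∈ (ψ.comp (Subgroup.inclusion hQR)).range := by rw [hαr]; exact hw
    obtain ⟨q, hq⟩ := hmem
    have e1 : ψ ⟨q, hQR q.2⟩ = ψ ⟨w, hDR w.2⟩ := by
      rw [h1 w w.2 (hDR w.2)]; exact hq
    have e2 := F.injective_of_mem hψ e1
    have e3 : (q : Ω) = w := congrArg Subtype.val e2
    rw [← e3]; exact q.2
  obtain ⟨E, G, _, ι, g, hEle, hM, hg, hcore⟩ := exists_model_aut hmodel hS F hF hQS hn hα hαr
  obtain ⟨hfin, hreal, ⟨T₀, hT₀⟩, hcon4⟩ := hM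
  have := hfin
  have hinj := hreal.1
  have hKS : inducedFunctor W S ≤ S := Cfsg.Agent.Lib.helper39.ind_le S
  have hKn : S ≤ Subgroup.normalizer ((inducedFunctor W S : Subgroup Ω) : Set Ω) := by
    intro s hs
    exact mem_normalizer_ind hW hS (Subgroup.le_normalizer hs)
  have hWT : inducedFunctor W (T₀ : Subgroup G) = (W ↥S).map ι := by
    have hpTop : IsPGroup p (⊤ : Subgroup S) := hS.to_subgroup _
    rw [hT₀, MonoidHom.range_eq_map,
      ← Cfsg.Agent.Lib.helper39.ind_map hW ι (⊤ : Subgroup S) hpTop hinj.injOn, ind_topW hW S hS]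
  have hKι : ∀ (k : Ω) (hk : k ∈ inducedFunctor W S),
      ι ⟨k, hKS hk⟩ ∈ inducedFunctor W (T₀ : Subgroup G) := by
    intro k hk
    rw [hWT]
    obtain ⟨k', hk', hkk⟩ := hk
    refine ⟨k', hk', ?_⟩
    congr 1
    exact Subtype.ext hkk
  have hwS : (w : Ω) ∈ S := hQS hwQ
  have hχS : χ w ∈ S := hQS hw
  have hgw : ι ⟨χ w, hχS⟩ = g * ι ⟨w, hwS⟩ * g⁻¹ := by
    have h3 := hg ⟨w, hwQ⟩
    have e : ι ⟨χ w, hχS⟩ = ι ⟨(ψ.comp (Subgroup.inclusion hQR)) ⟨w, hwQ⟩,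
        (F.le_of_mem hα).2 ⟨w, hwQ⟩⟩ := by
      congr 1
      apply Subtype.ext
      exact (h1 w w.2 (hQR hwQ)).symm
    exact e.trans h3
  have hmemC : (ι ⟨w, hwS⟩)⁻¹ * ι ⟨χ w, hχS⟩ ∈ pCore p G ⊓ commutator G := by
    refine ⟨Subgroup.mul_mem _ (Subgroup.inv_mem _ (hcore ⟨w, hwQ⟩)) (hcore ⟨χ w, hw⟩), ?_⟩
    rw [hgw, commutator_def]
    have e : (ι ⟨w, hwS⟩)⁻¹ * (g * ι ⟨w, hwS⟩ * g⁻¹) = ⁅(ι ⟨w, hwS⟩)⁻¹, g⁆ := by
      rw [commutatorElement_def]; group
    rw [e]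
    exact Subgroup.commutator_mem_commutator (Subgroup.mem_top _) (Subgroup.mem_top _)
  rw [hT G T₀ hcon4] at hmemC
  have hPV : (T₀ : Subgroup G) ≤ Subgroup.normalizer
      ((inducedFunctor W (T₀ : Subgroup G) : Subgroup G) : Set G) :=
    fun t ht => mem_normalizer_ind hW T₀.2 (Subgroup.le_normalizer ht)
  have hmemT : (ι ⟨w, hwS⟩)⁻¹ * ι ⟨χ w, hχS⟩ ∈ (T₀ : Subgroup G) := by
    rw [hT₀]
    exact Subgroup.mul_mem _ (Subgroup.inv_mem _ ⟨_, rfl⟩) ⟨_, rfl⟩
  have hclos := comm_normalizer_inf_le T₀ (inducedFunctor W (T₀ : Subgroup G)) hPV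
    ⟨hmemC.2, hmemT⟩
  have hle : Subgroup.closure {y : G | ∃ x ∈ (T₀ : Subgroup G),
      ∃ n ∈ Subgroup.normalizer ((inducedFunctor W (T₀ : Subgroup G) : Subgroup G) : Set G),
        n * x * n⁻¹ ∈ (T₀ : Subgroup G) ∧ y = x⁻¹ * (n * x * n⁻¹)} ≤
      ((nFoc F (inducedFunctor W S)).subgroupOf S).map ι := by
    rw [Subgroup.closure_le]
    rintro _ ⟨x, hx, n, hn', hnx, rfl⟩
    rw [hT₀] at hx hnx
    obtain ⟨s, rfl⟩ := hx
    obtain ⟨s', hs'⟩ := hnx
    obtain ⟨D₀, hD₀⟩ : ∃ D₀ : Subgroup Ω, D₀ =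
        ((ι.range).comap ((MulAut.conj n).toMonoidHom.comp ι)).map S.subtype := ⟨_, rfl⟩
    have hD₀S : D₀ ≤ S := by rw [hD₀]; exact Subgroup.map_subtype_le _
    have hD₀mem : ∀ d : S, (d : Ω) ∈ D₀ ↔ n * ι d * n⁻¹ ∈ ι.range := by
      intro d
      rw [hD₀]
      constructor
      · rintro ⟨d', hd', hdd⟩
        have e : d' = d := Subtype.ext hdd
        rw [← e]; exact hd'
      · intro h; exact ⟨d, h, rfl⟩
    obtain ⟨φ, hφ, hφι⟩ := Cfsg.Agent.Lib.helper87.exists_mem_hom_of_conj hreal hD₀S n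
      (fun x => (hD₀mem ⟨x, hD₀S x.2⟩).mp x.2)
    have hφF := hEle D₀ hφ
    have hφS := (F.le_of_mem hφF).2
    have hKD : inducedFunctor W S ≤ D₀ := by
      intro k hk
      apply (hD₀mem ⟨k, hKS hk⟩).mpr
      have h4 := (Subgroup.mem_normalizer_iff.mp hn' _).mp (hKι k hk)
      have h5 := Cfsg.Agent.Lib.helper39.ind_le _ h4
      rw [hT₀] at h5
      exact h5
    have hφK : ∀ (k : Ω) (_ : k ∈ inducedFunctor W S) (hD : k ∈ D₀),
        φ ⟨k, hD⟩ ∈ inducedFunctor W S := by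
      intro k hk hD
      have h4 := (Subgroup.mem_normalizer_iff.mp hn' _).mp (hKι k hk)
      rw [hWT] at h4
      obtain ⟨k', hk', hkk⟩ := h4
      have h5 := hφι ⟨k, hD⟩ (hφS _)
      have h6 : (⟨φ ⟨k, hD⟩, hφS _⟩ : S) = k' := hinj (h5.trans hkk.symm)
      have h7 : φ ⟨k, hD⟩ = (k' : Ω) := congrArg Subtype.val h6
      rw [h7]
      exact ⟨k', hk', rfl⟩
    have hsD : (s : Ω) ∈ D₀ := (hD₀mem s).mpr ⟨s', hs'⟩
    have hφs : φ ⟨s, hsD⟩ = (s' : Ω) := by
      have h5 := hφι ⟨s, hsD⟩ (hφS _)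
      have h6 : (⟨φ ⟨s, hsD⟩, hφS _⟩ : S) = s' := hinj (h5.trans hs'.symm)
      exact congrArg Subtype.val h6
    have hmem := mem_nFoc hφF hKD (fun d hd => ⟨hD₀S hd, hKn (hD₀S hd)⟩) hφK ⟨s, hsD⟩
    rw [hφs] at hmem
    refine ⟨s⁻¹ * s', Subgroup.mem_subgroupOf.mpr hmem, ?_⟩
    rw [map_mul, map_inv, hs']
  obtain ⟨t, ht, hteq⟩ := hle hclos
  have h7 : t = (⟨w, hwS⟩ : S)⁻¹ * ⟨χ w, hχS⟩ := hinj (by rw [hteq, map_mul, map_inv])
  have h8 := Subgroup.mem_subgroupOf.mp ht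
  rw [h7] at h8
  exact h8

/-- **A nontrivial normal subgroup.** -/
theorem focal_le_of_normal (hmodel : ModelHyp.{u} p) (hW : IsCharPFunctor.{u} p W)
    (hT : TransferHyp.{u} p W) [Finite S] (hS : IsPGroup p S)
    (F : FusionSystem S) (hF : F.IsSaturated p)
    (ih1 : ∀ (Ω' : Type u) [Group Ω'] (S' : Subgroup Ω') [Finite S'],
      Nat.card S' < Nat.card S → IsPGroup p S' →
      ∀ E : FusionSystem S', E.IsSaturated p → E.focalSubgroup ≤ nFoc E (inducedFunctor W S'))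
    (ih2 : ∀ F' : FusionSystem S, F'.IsSaturated p → (∀ P, F'.Hom P ⊆ F.Hom P) →
      (∃ (P : Subgroup Ω) (φ : P →* Ω), φ ∈ F.Hom P ∧ φ ∉ F'.Hom P) →
      F'.focalSubgroup ≤ nFoc F' (inducedFunctor W S))
    (hex : ∃ Q : Subgroup Ω, F.IsNormal Q ∧ Q ≠ ⊥) :
    F.focalSubgroup ≤ nFoc F (inducedFunctor W S) := by
  classical
  obtain ⟨Q₀, hQ₀, hQ₀0⟩ := hex
  have hb : ∀ Q : Subgroup Ω, F.IsNormal Q → Nat.card Q ≤ Nat.card S :=
    fun Q hQ => card_le_of_le_le le_rfl hQ.1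
  obtain ⟨Q, hQ, hQmax⟩ : ∃ Q : Subgroup Ω, F.IsNormal Q ∧
      ∀ Q' : Subgroup Ω, F.IsNormal Q' → Nat.card Q' ≤ Nat.card Q := by
    have hspec := Nat.findGreatest_spec
      (P := fun k => ∃ Q : Subgroup Ω, F.IsNormal Q ∧ Nat.card Q = k) (hb Q₀ hQ₀) ⟨Q₀, hQ₀, rfl⟩
    obtain ⟨Q, hQ, hQk⟩ := hspec
    refine ⟨Q, hQ, fun Q' hQ' => ?_⟩
    rw [hQk]
    exact Nat.le_findGreatest (hb Q' hQ') ⟨Q', hQ', rfl⟩
  have hQS : Q ≤ S := hQ.1
  have hQ0 : Q ≠ ⊥ := by
    intro h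
    have h1 := hQmax Q₀ hQ₀
    rw [h, Subgroup.card_bot] at h1
    have hfinQ₀ : Finite Q₀ := finite_of_le hQ₀.1
    exact hQ₀0 ((Subgroup.card_le_one_iff_eq_bot Q₀).mp h1)
  have hKS : inducedFunctor W S ≤ S := Cfsg.Agent.Lib.helper39.ind_le S
  have hKn : S ≤ Subgroup.normalizer ((inducedFunctor W S : Subgroup Ω) : Set Ω) := by
    intro s hs
    exact mem_normalizer_ind hW hS (Subgroup.le_normalizer hs)
  obtain ⟨-, hext⟩ := (isNormal_iff_forall_normExt F Q).mp hQ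
  have hQsc := Cfsg.Agent.Lib.helper87.stronglyClosed_of_isNormal' F hQ
  by_cases hQtop : Q = S
  · unfold FusionSystem.focalSubgroup
    rw [Subgroup.closure_le]
    rintro _ ⟨P, φ, x, hφ, rfl⟩
    obtain ⟨R, ψ, hψ, hPR, hQR, h1, h2⟩ := hext P φ hφ
    have hRS : R ≤ S := le_of_hom F hψ
    have hSR : S ≤ R := by rw [← hQtop]; exact hQR
    have hψS : ψ.comp (Subgroup.inclusion hSR) ∈ F.Hom S :=
      Cfsg.Agent.Lib.helper88.restrict_mem F hSR hψ
    have hrange : (ψ.comp (Subgroup.inclusion hSR)).range = S :=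
      range_eq_of_forall_mem F hψS (fun x => (F.le_of_mem hψ).2 _)
    have hpTop : IsPGroup p (⊤ : Subgroup S) := hS.to_subgroup _
    have e := Cfsg.Agent.Lib.helper39.ind_map hW (ψ.comp (Subgroup.inclusion hSR))
      (⊤ : Subgroup S) hpTop ((F.injective_of_mem hψS).injOn)
    rw [ind_topW hW S hS, ← MonoidHom.range_eq_map, hrange] at e
    have hψK : ∀ (k : Ω) (_ : k ∈ inducedFunctor W S) (hD : k ∈ R),
        ψ ⟨k, hD⟩ ∈ inducedFunctor W S := by
      intro k hk hD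
      obtain ⟨k', hk', hkk⟩ := hk
      rw [← e]
      refine ⟨k', hk', ?_⟩
      show ψ ⟨(k' : Ω), hSR k'.2⟩ = ψ ⟨k, hD⟩
      congr 1
      exact Subtype.ext hkk
    have hmem := mem_nFoc hψ (hKS.trans hSR) (fun d hd => ⟨hRS hd, hKn (hRS hd)⟩) hψK
      ⟨x, hPR x.2⟩
    rw [h1 x x.2 (hPR x.2)] at hmem
    exact hmem
  · obtain ⟨L, hQL, hLS, hLn, hcardL, hstep⟩ :=
      exists_quotient_step hW hS F hF ih1 hQsc hQ0 hQtop
    have hLnn : ¬ F.IsNormal L := fun h => absurd (hQmax L h) (by omega)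
    have hLT := nFoc_le_of_not_isNormal hS F hF ih2 hLS hLn hLnn
    obtain ⟨A, _, lam, hlam⟩ := exists_lam (S := S) (nFoc F (inducedFunctor W S))
      (fun x hx s hs => comm_mem_nFoc F hKS hKn hx hs)
    have hK := hstep (preimageAlong lam (imageAlong lam Q)) (by
      intro q hq
      exact (Cfsg.Agent.Lib.helper87.mem_preimageAlong lam _ q).mpr
        ⟨hQS hq, ⟨⟨q, hQS hq⟩, Subgroup.mem_subgroupOf.mpr hq, rfl⟩⟩) (by
      intro t ht
      have htT := hLT ht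
      have htS := nFoc_le F _ htT
      refine (Cfsg.Agent.Lib.helper87.mem_preimageAlong lam _ t).mpr ⟨htS, ?_⟩
      rw [(hlam ⟨t, htS⟩).mpr htT]
      exact Subgroup.one_mem _)
    intro y hy
    obtain ⟨hyS, hyK⟩ := (Cfsg.Agent.Lib.helper87.mem_preimageAlong lam _ y).mp (hK hy)
    obtain ⟨q, hq, hqy⟩ := hyK
    have hqQ : (q : Ω) ∈ Q := Subgroup.mem_subgroupOf.mp hq
    have h3 : lam (q⁻¹ * ⟨y, hyS⟩) = 1 := by rw [map_mul, map_inv, hqy, inv_mul_cancel]
    have h4 : ((q : Ω))⁻¹ * y ∈ nFoc F (inducedFunctor W S) := (hlam _).mp h3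
    have hqf : (q : Ω) ∈ F.focalSubgroup := by
      have e : (q : Ω) = y * ((q : Ω)⁻¹ * y)⁻¹ := by group
      rw [e]
      exact Subgroup.mul_mem _ hy (Subgroup.inv_mem _ (nFoc_le_focal F _ h4))
    have h5 : lam q = 1 := by
      refine lam_eq_one_of_mem_focal hS F hF lam Q (fun D χ hχ w hw => ?_) q hqQ hqf
      have h7 := comm_mem_nFoc_of_normal hmodel hW hT hS F hF hQ hχ w hw
      have h8 : lam ((⟨w, (F.le_of_mem hχ).1 w.2⟩ : S)⁻¹ * ⟨χ w, (F.le_of_mem hχ).2 w⟩) = 1 :=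
        (hlam _).mpr h7
      rw [map_mul, map_inv] at h8
      exact (inv_mul_eq_one.mp h8).symm
    have h6 := (hlam q).mp h5
    have e : y = (q : Ω) * ((q : Ω)⁻¹ * y) := by group
    rw [e]
    exact Subgroup.mul_mem _ h6 h4

end ctl

/-- **Control of transfer: the inclusion.** -/
theorem focal_le_nFoc {p : ℕ} [Fact p.Prime] {W : ∀ (Q : Type u) [Group Q], Subgroup Q}
    (hmodel : ModelHyp.{u} p) (hW : IsCharPFunctor.{u} p W) (hT : TransferHyp.{u} p W) :
    ∀ (n m : ℕ) (Ω : Type u) [Group Ω] (S : Subgroup Ω) [Finite S], Nat.card S = n →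
      IsPGroup p S → ∀ F : FusionSystem S, F.IsSaturated p → morCount F = m →
        F.focalSubgroup ≤ nFoc F (inducedFunctor W S) := by
  intro n
  induction n using Nat.strong_induction_on with
  | _ n ihn =>
    intro m
    induction m using Nat.strong_induction_on with
    | _ m ihm =>
      intro Ω _ S _ hcard hS F hF hm
      have ih1 : ∀ (Ω' : Type u) [Group Ω'] (S' : Subgroup Ω') [Finite S'],
          Nat.card S' < Nat.card S → IsPGroup p S' →
          ∀ E : FusionSystem S', E.IsSaturated p →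
            E.focalSubgroup ≤ nFoc E (inducedFunctor W S') := by
        intro Ω' _ S' _ hlt hS' E hE
        exact ihn (Nat.card S') (by rw [← hcard]; exact hlt) (morCount E) Ω' S' rfl hS' E hE rfl
      have ih2 : ∀ F' : FusionSystem S, F'.IsSaturated p → (∀ P, F'.Hom P ⊆ F.Hom P) →
          (∃ (P : Subgroup Ω) (φ : P →* Ω), φ ∈ F.Hom P ∧ φ ∉ F'.Hom P) →
          F'.focalSubgroup ≤ nFoc F' (inducedFunctor W S) := by
        intro F' hF' hle hne
        exact ihm (morCount F') (by rw [← hm]; exact morCount_lt hle hne) Ω S hcard hS F' hF' rfl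
      by_cases hex : ∃ Q : Subgroup Ω, F.IsNormal Q ∧ Q ≠ ⊥
      · exact focal_le_of_normal hmodel hW hT hS F hF ih1 ih2 hex
      · refine focal_le_of_no_normal hW hS F hF
          (fun N _ hlt hN E hE => ih1 Ω N hlt hN E hE) ih2 (fun Q hQ => ?_)
        by_contra h
        exact hex ⟨Q, hQ, h⟩

/-- **Control of transfer.** For a functor `W` satisfying the local transfer condition, the
normalizer system of `W(S)` in a saturated fusion system `F` over `S` has the same focal subgroup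
as `F`. -/
theorem focal_normalizerSystem_eq {p : ℕ} [Fact p.Prime]
    {W : ∀ (Q : Type u) [Group Q], Subgroup Q} (hmodel : ModelHyp.{u} p)
    (hW : IsCharPFunctor.{u} p W) (hT : TransferHyp.{u} p W) {Ω : Type u} [Group Ω]
    {S : Subgroup Ω} [Finite S] (hS : IsPGroup p S) (F : FusionSystem S) (hF : F.IsSaturated p)
    (N : FusionSystem (normalizerIn S (inducedFunctor W S)))
    (hN : F.IsNormalizerSystem (inducedFunctor W S) N) : N.focalSubgroup = F.focalSubgroup := by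
  apply le_antisymm
  · unfold FusionSystem.focalSubgroup
    apply Subgroup.closure_mono
    rintro _ ⟨P, φ, x, hφ, rfl⟩
    rw [hN P] at hφ
    exact ⟨P, φ, x, hφ.1, rfl⟩
  · exact (focal_le_nFoc hmodel hW hT _ _ Ω S rfl hS F hF rfl).trans
      (nFoc_le_focal_of_isNormalizerSystem F _ N hN)

end Cfsg.Agent.Lib.helper90
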