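import Mathlib
import Cfsg.Prelude.Def_FusionSystem
import Cfsg.Prelude.Def_FusionComponents
import Cfsg.Agent.Lib.helper90.FusIsoA
import Cfsg.Agent.Lib.helper90.FusIsoB
import Cfsg.Agent.Lib.helper90.FusIsoC

/-!
Automorphisms of a fusion system (given as morphisms in both directions) as isomorphisms in
relational form; the layer is characteristic (helper90).
-/

set_option autoImplicit false

namespace Cfsg.Agent.Lib.helper90

open Cfsg Cfsg.FusionSystem

section autos

variable {Ω : Type*} [Group Ω] {Ω' : Type*} [Group Ω']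

theorem imageAlong_eq_imgSub {S : Subgroup Ω} {S' : Subgroup Ω'} (e : S ≃* S') (P : Subgroup Ω) :
    imageAlong (S'.subtype.comp e.toMonoidHom) P = imgSub e P := by
  unfold imgSub imageAlong
  rw [Subgroup.map_map]

theorem mapCorr_of_inducedAlong {S : Subgroup Ω} {S' : Subgroup Ω'} (e : S ≃* S')
    {P : Subgroup Ω} {φ : P →* Ω}
    {φ' : ↥(imageAlong (S'.subtype.comp e.toMonoidHom) P) →* Ω'}
    (h : InducedAlong (S'.subtype.comp e.toMonoidHom) φ φ') : MapCorr e φ φ' := by
  obtain ⟨hPS, hφS, hP', hind⟩ := h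
  have hPc : SubCorr e P (imageAlong (S'.subtype.comp e.toMonoidHom) P) := by
    rw [imageAlong_eq_imgSub]
    exact subCorr_imgSub e hPS
  refine ⟨hPc, fun x hx hx' => ⟨⟨φ ⟨x, hx⟩, hφS _⟩, rfl, ?_⟩⟩
  exact hind ⟨x, hx⟩

/-- An isomorphism of base groups that is a morphism of fusion systems in both directions is an
isomorphism of fusion systems in relational form. -/
theorem sysCorr_of_isMorphism {S : Subgroup Ω} {S' : Subgroup Ω'} (e : S ≃* S')
    {F : FusionSystem S} {F' : FusionSystem S'}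
    (h : F.IsMorphism F' (S'.subtype.comp e.toMonoidHom))
    (h' : F'.IsMorphism F (S.subtype.comp e.symm.toMonoidHom)) : SysCorr e F F' :=
  ⟨subCorr_self e, fun _ _ hφ _ _ hc => mem_of_isMorphism_of_mapCorr e h hφ hc,
    fun _ _ hφ' _ _ hc => mem_of_isMorphism_of_mapCorr e.symm h' hφ' hc.symm⟩

/-- The layer lies in each of its images under automorphisms of the system. -/
theorem layer_le_image {S : Subgroup Ω} [Finite S] {p : ℕ} [Fact p.Prime]
    (hS : IsPGroup p S) (F : FusionSystem S) (α : S ≃* S) (hFα : SysCorr α F F)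
    {T : Subgroup Ω} (E : FusionSystem T) (hE : E.IsLayerOf F p) {T₁ : Subgroup Ω}
    (E₁ : FusionSystem T₁) (hE₁ : SysCorr α.symm E E₁) : E.IsSubsystemOf E₁ := by
  have hn₁ : E₁.IsNormalIn F p := hFα.symm.isNormalIn hE₁ hS hE.1
  have hcomp : ∀ (U : Subgroup Ω) (C : FusionSystem U), C.IsComponentIn F p →
      C.IsSubsystemOf E₁ := by
    intro U C hC
    have hUS := le_of_isSubnormalIn hC.1
    have hfinU : Finite U :=
      Finite.of_injective (Subgroup.inclusion hUS) (Subgroup.inclusion_injective hUS)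
    obtain ⟨C₂, hC₂⟩ := exists_sysCorr α hUS C
    have hC₂comp : C₂.IsComponentIn F p := hFα.isComponentIn hC₂ hS hC
    have hsub := hE.2.1 _ C₂ hC₂comp
    exact hE₁.isSubsystemOf hC₂.symm hsub
  exact hE.2.2 _ E₁ hn₁ hcomp

/-- **The layer is characteristic**: an automorphism of the system carries the layer to
itself. -/
theorem layer_characteristic {S : Subgroup Ω} [Finite S] {p : ℕ} [Fact p.Prime]
    (hS : IsPGroup p S) (F : FusionSystem S) (α : S ≃* S) (hFα : SysCorr α F F)
    {T : Subgroup Ω} (E : FusionSystem T) (hE : E.IsLayerOf F p) : SysCorr α E E := by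
  have hTS : T ≤ S := hE.1.1.2.2.2.1.1
  have hfinT : Finite T :=
    Finite.of_injective (Subgroup.inclusion hTS) (Subgroup.inclusion_injective hTS)
  obtain ⟨E₁, hE₁⟩ := exists_sysCorr α.symm hTS E
  obtain ⟨E₂, hE₂⟩ := exists_sysCorr α hTS E
  have hsub₁ : E.IsSubsystemOf E₁ := layer_le_image hS F α hFα E hE E₁ hE₁
  have hsub₂ : E.IsSubsystemOf E₂ := layer_le_image hS F α.symm hFα.symm E hE E₂ hE₂.symm.symm
  have hT1 : T ≤ imgSub α.symm T := Cfsg.Agent.Lib.helper88.le_of_subsystem hsub₁
  have hTc := hE₁.1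
  have hfin1 : Finite ↥(imgSub α.symm T) := hTc.finite
  have hTeq : T = imgSub α.symm T := by
    have hcard : Nat.card ↥(imgSub α.symm T) = Nat.card T :=
      Nat.card_congr (subEquiv hTc).symm.toEquiv
    exact Subgroup.eq_of_le_of_card_ge hT1 hcard.le
  have hTT : SubCorr α T T := by
    have h0 : SubCorr α.symm T T := by
      have h1 := hTc
      rwa [← hTeq] at h1
    exact SubCorr.of_symm h0
  refine ⟨hTT, fun P φ hφ P' φ' hc => hE₁.pull (hsub₁ P hφ) hc.symm, fun P' φ' hφ' P φ hc => ?_⟩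
  exact hE₂.pull (hsub₂ P' hφ') hc

end autos

end Cfsg.Agent.Lib.helper90
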