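import Cfsg.Agent.Lib.helper88.GT5
import Cfsg.Agent.Lib.helper28.Fitting
import Cfsg.Agent.S3082
import Cfsg.Agent.S5083

/-!
The Glauberman–Thompson criterion for fusion systems relative to a strongly closed subgroup
(helper90): for `p` odd, `F` saturated over `S` and `D` strongly closed in `F`, if some automorphism
of `F` is not a `p`-element then some automorphism of `N_F(Z(J(D)))` is not a `p`-element
(`gt_closed`).

This is the analogue for `D` of helper88's `gt_fusion` (the case `D = S`), with the same induction;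
the input from finite groups is the Glauberman–Thompson theorem for strongly closed subgroups
(helper57, S3082), applied in a model.
-/

set_option autoImplicit false

namespace Cfsg.Agent.Lib.helper90

open Cfsg Cfsg.FusionSystem Cfsg.Agent.Lib.helper88

universe u

section realized

variable {Ω : Type*} [Group Ω] {S : Subgroup Ω}

/-- If no automorphism of `N_F(V)` is a non-`p`-element, `V` normalized by `S`, and `G` realizes
`F` on a Sylow `p`-subgroup, then the normalizer in `G` of the image `Z` of `V` has a normal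
`p`-complement. -/
theorem hasNPC_normalizer_of_not_normNonInner_gen [Finite S] {p : ℕ} [Fact p.Prime]
    (F : FusionSystem S) {G : Type*} [Group G] [Finite G] {ι : S →* G} (hR : F.IsRealizedBy ι)
    (T : Sylow p G) (hT : (T : Subgroup G) = ι.range) {V : Subgroup Ω} (hWS : V ≤ S)
    (hSN : S ≤ Subgroup.normalizer (V : Set Ω)) (Z : Subgroup G)
    (hZW : ∀ x : S, (x : Ω) ∈ V ↔ ι x ∈ Z) (hZT : Z ≤ ι.range)
    (h : ¬ NormNonInner p F V) :
    Cfsg.HasNormalPComplement p ↥(Subgroup.normalizer (Z : Set G)) := by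
  have hinj := hR.1
  have hTH : (T : Subgroup G) ≤ Subgroup.normalizer (Z : Set G) := by
    intro t ht
    rw [hT] at ht
    obtain ⟨s, rfl⟩ := ht
    apply mem_normalizer_of_conj_mem
    intro z hz
    obtain ⟨v, rfl⟩ := hZT hz
    have hv : (v : Ω) ∈ V := (hZW v).mpr hz
    have h1 : (s : Ω) * v * (s : Ω)⁻¹ ∈ V := (Subgroup.mem_normalizer_iff.mp (hSN s.2) _).mp hv
    have h2 := (hZW (s * v * s⁻¹)).mp h1
    rw [map_mul, map_mul, map_inv] at h2
    exact h2
  refine ⟨T.subtype hTH, ?_⟩
  rw [Cfsg.Agent.S0071.result (T.subtype hTH)]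
  intro Q hQ g hg hcop
  set R : Subgroup G := Q.map (Subgroup.normalizer
    (Z : Set G)).subtype with hRdef
  set P : Subgroup Ω := FusionSystem.preimageAlong ι R with hPdef
  have hPS : P ≤ S := Cfsg.Agent.Lib.helper87.preimageAlong_le ι R
  have hmemP : ∀ x : Ω, x ∈ P ↔ ∃ hx : x ∈ S, ι ⟨x, hx⟩ ∈ R :=
    fun x => Cfsg.Agent.Lib.helper87.mem_preimageAlong ι R x
  have hRT : R ≤ ι.range := by
    rintro _ ⟨q, hq, rfl⟩
    have h1 := hQ hq
    rw [Sylow.coe_subtype, Subgroup.mem_subgroupOf] at h1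
    rw [← hT]
    exact h1
  have hgR : ∀ r ∈ R, (g : G) * r * (g : G)⁻¹ ∈ R := by
    rintro _ ⟨q, hq, rfl⟩
    exact ⟨g * q * g⁻¹, (Subgroup.mem_normalizer_iff.mp hg q).mp hq, rfl⟩
  have hgZ : ∀ z ∈ (Z), (g : G) * z * (g : G)⁻¹ ∈ (Z) := fun z hz =>
    (Subgroup.mem_normalizer_iff.mp g.2 z).mp hz
  have hPW : P ⊔ (V) ≤ S := sup_le hPS hWS
  have hconj : ∀ x : ↥(P ⊔ (V)), (g : G) * ι ⟨x, hPW x.2⟩ * (g : G)⁻¹ ∈ ι.range := by
    have hM : P ⊔ (V) ≤ FusionSystem.preimageAlong ι
        (ι.range.comap (MulAut.conj (g : G)).toMonoidHom) := by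
      apply sup_le
      · intro x hx
        obtain ⟨hxS, hxR⟩ := (hmemP x).mp hx
        rw [Cfsg.Agent.Lib.helper87.mem_preimageAlong]
        exact ⟨hxS, hRT (hgR _ hxR)⟩
      · intro x hx
        rw [Cfsg.Agent.Lib.helper87.mem_preimageAlong]
        exact ⟨hWS hx, hZT (hgZ _ ((hZW ⟨x, hWS hx⟩).mp hx))⟩
    intro x
    obtain ⟨hxS, hx⟩ := (Cfsg.Agent.Lib.helper87.mem_preimageAlong ι _ x).mp (hM x.2)
    exact hx
  obtain ⟨ψ, hψ, hψι⟩ := Cfsg.Agent.Lib.helper87.exists_mem_hom_of_conj hR hPW (g : G) hconj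
  have hψS := (F.le_of_mem hψ).2
  have hψP : ∀ (x : Ω) (hx : x ∈ P), ψ ⟨x, (le_sup_left : P ≤ P ⊔ (V)) hx⟩ ∈ P := by
    intro x hx
    rw [hmemP]
    refine ⟨hψS _, ?_⟩
    rw [hψι]
    exact hgR _ ((hmemP x).mp hx).2
  have hψW : ∀ (x : Ω) (hx : x ∈ (V)), ψ ⟨x, (le_sup_right : (V) ≤ P ⊔ (V)) hx⟩ ∈ (V) := by
    intro x hx
    have h1 := (hZW ⟨ψ ⟨x, (le_sup_right : (V) ≤ P ⊔ (V)) hx⟩, hψS _⟩)
    rw [h1, hψι]
    exact hgZ _ ((hZW ⟨x, hWS hx⟩).mp hx)
  have ha : ψ.comp (Subgroup.inclusion (le_sup_left : P ≤ P ⊔ (V))) ∈ F.Hom P :=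
    restrict_mem F le_sup_left hψ
  obtain ⟨α, hα⟩ := Cfsg.Agent.Lib.helper89.exists_aut_of_mem F ha (fun x => hψP x x.2)
  have hαa : P.subtype.comp α.toMonoidHom =
      ψ.comp (Subgroup.inclusion (le_sup_left : P ≤ P ⊔ (V))) := by
    ext x
    exact hα x
  have hαN : P.subtype.comp α.toMonoidHom ∈ F.normalizerHom (V) P := by
    rw [Cfsg.Agent.Lib.helper89.mem_normalizerHom_iff]
    refine ⟨hαa ▸ ha, fun x hx => ⟨hPS hx, hSN (hPS hx)⟩,
      fun x => ⟨hPS (α x).2, hSN (hPS (α x).2)⟩, P ⊔ (V), ψ, hψ, le_sup_left, le_sup_right,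
      fun x hx hR' => (hα ⟨x, hx⟩).symm, fun q hq hR' => hψW q hq⟩
  have hpk : ∃ k : ℕ, α ^ (p ^ k) = 1 := by
    by_contra hk
    push Not at hk
    exact h ⟨P, α, hαN, hk⟩
  obtain ⟨k, hk⟩ := hpk
  have hsemi : ∀ x : P, (ι.comp (Subgroup.inclusion hPS)) (α x) =
      (MulAut.conj (g : G)) ((ι.comp (Subgroup.inclusion hPS)) x) := by
    intro x
    have h1 := hψι ⟨x, (le_sup_left : P ≤ P ⊔ (V)) x.2⟩ (hψS _)
    have h2 : (⟨ψ ⟨x, (le_sup_left : P ≤ P ⊔ (V)) x.2⟩, hψS _⟩ : S) =
        Subgroup.inclusion hPS (α x) := Subtype.ext (hα x).symm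
    rw [h2] at h1
    exact h1
  have hord : α ^ orderOf g = 1 := by
    apply pow_eq_one_of_semiconj_inj (ι.comp (Subgroup.inclusion hPS))
      (hinj.comp (Subgroup.inclusion_injective hPS)) α (MulAut.conj (g : G)) hsemi
    rw [← map_pow]
    have h1 : (g : G) ^ orderOf g = 1 := by
      rw [← Subgroup.coe_pow, pow_orderOf_eq_one]
      rfl
    rw [h1, map_one]
  have hα1 : α = 1 := eq_one_of_pow_eq_one_of_coprime hord hk (Nat.Coprime.pow_right k hcop)
  rw [Subgroup.mem_centralizer_iff]
  intro q hq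
  have hqR : (q : G) ∈ R := ⟨q, hq, rfl⟩
  obtain ⟨s, hs⟩ := hRT hqR
  have hsP : (s : Ω) ∈ P := (hmemP s).mpr ⟨s.2, by rw [hs]; exact hqR⟩
  have h1 := hsemi ⟨s, hsP⟩
  rw [hα1] at h1
  have h2 : (ι.comp (Subgroup.inclusion hPS)) ⟨s, hsP⟩ = (q : G) := hs
  rw [MulAut.one_apply, h2] at h1
  apply Subtype.ext
  have h3 : (q : G) = (g : G) * (q : G) * (g : G)⁻¹ := h1
  show (q : G) * (g : G) = (g : G) * (q : G)
  exact eq_mul_of_mul_inv_eq h3.symm ▸ rfl

/-- The image in a realizing group of a subgroup strongly closed in the system is strongly closed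
in the image of `S`. -/
theorem isStronglyClosed_map_of_realized [Finite S] (F : FusionSystem S) {G : Type*} [Group G]
    {ι : S →* G} (hR : F.IsRealizedBy ι) {D : Subgroup Ω} (hD : F.StronglyClosed D) :
    Cfsg.IsStronglyClosed ((D.subgroupOf S).map ι) ι.range := by
  have hDS : D ≤ S := hD.1
  refine ⟨?_, ?_⟩
  · rintro _ ⟨d, -, rfl⟩
    exact ⟨d, rfl⟩
  · rintro _ ⟨d, hd, rfl⟩ g hg
    have hdD : (d : Ω) ∈ D := Subgroup.mem_subgroupOf.mp hd
    have hPS : Subgroup.zpowers (d : Ω) ≤ S := by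
      rw [Subgroup.zpowers_le]; exact d.2
    have hPD : Subgroup.zpowers (d : Ω) ≤ D := by
      rw [Subgroup.zpowers_le]; exact hdD
    have hconj : ∀ x : Subgroup.zpowers (d : Ω), g * ι ⟨x, hPS x.2⟩ * g⁻¹ ∈ ι.range := by
      intro x
      obtain ⟨k, hk⟩ := Subgroup.mem_zpowers_iff.mp x.2
      have e : (⟨(x : Ω), hPS x.2⟩ : S) = d ^ k := Subtype.ext hk.symm
      rw [e, map_zpow]
      have e2 : g * ι d ^ k * g⁻¹ = (g * ι d * g⁻¹) ^ k := by
        rw [conj_zpow]
      rw [e2]
      exact Subgroup.zpow_mem _ hg k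
    obtain ⟨ψ, hψ, hψι⟩ := Cfsg.Agent.Lib.helper87.exists_mem_hom_of_conj hR hPS g hconj
    have hψS := (F.le_of_mem hψ).2
    have h1 := hD.2 _ hPD ψ hψ ⟨(d : Ω), Subgroup.mem_zpowers _⟩
    have h2 := hψι ⟨(d : Ω), Subgroup.mem_zpowers _⟩ (hψS _)
    have e3 : (⟨((⟨(d : Ω), Subgroup.mem_zpowers _⟩ : Subgroup.zpowers (d : Ω)) : Ω), hPS
        (Subgroup.mem_zpowers _)⟩ : S) = d := Subtype.ext rfl
    rw [e3] at h2
    rw [← h2]
    exact ⟨⟨_, hψS _⟩, Subgroup.mem_subgroupOf.mpr h1, rfl⟩

/-- **Glauberman–Thompson for realized fusion systems, strongly closed form** (`p` odd). -/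
theorem normNonInner_of_realized_closed [Finite S] {p : ℕ} [Fact p.Prime] (hp : p ≠ 2)
    (F : FusionSystem S) {G : Type*} [Group G] [Finite G] {ι : S →* G} (hR : F.IsRealizedBy ι)
    (T : Sylow p G) (hT : (T : Subgroup G) = ι.range) {D : Subgroup Ω} (hD : F.StronglyClosed D)
    (h : NonInner p F) : NormNonInner p F (Cfsg.centerThompsonAOf D) := by
  by_contra hcon
  have hinj := hR.1
  have hDS : D ≤ S := hD.1
  have hfinD : Finite D := finite_of_le hDS
  have hSD : S ≤ Subgroup.normalizer (D : Set Ω) := by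
    intro g hg
    apply mem_normalizer_of_conj_mem
    intro x hx
    exact Cfsg.Agent.Lib.helper89.conj_mem_of_stronglyClosed F hD hg hx
  have hWS : Cfsg.centerThompsonAOf D ≤ S := (centerThompsonAOf_le D).trans hDS
  have hSW : S ≤ Subgroup.normalizer (Cfsg.centerThompsonAOf D : Set Ω) :=
    hSD.trans (normalizer_le_normalizer_centerThompsonAOf D)
  have hD' : Cfsg.IsStronglyClosed ((D.subgroupOf S).map ι) (T : Subgroup G) := by
    rw [hT]; exact isStronglyClosed_map_of_realized F hR hD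
  have hZW : ∀ x : S, (x : Ω) ∈ Cfsg.centerThompsonAOf D ↔
      ι x ∈ Cfsg.centerThompsonAOf ((D.subgroupOf S).map ι) := by
    have h1 : Cfsg.centerThompsonAOf D =
        (Cfsg.centerThompsonAOf (D.subgroupOf S)).map S.subtype := by
      rw [← centerThompsonAOf_map S.subtype_injective, Subgroup.map_subgroupOf_eq_of_le hDS]
    have h2 : Cfsg.centerThompsonAOf ((D.subgroupOf S).map ι) =
        (Cfsg.centerThompsonAOf (D.subgroupOf S)).map ι := centerThompsonAOf_map hinj _
    intro x
    rw [h1, h2]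
    constructor
    · rintro ⟨y, hy, hyx⟩
      have h3 : y = x := Subtype.ext hyx
      exact ⟨y, hy, by rw [h3]⟩
    · rintro ⟨y, hy, hyx⟩
      have h3 : y = x := hinj hyx
      exact ⟨y, hy, by rw [h3]; rfl⟩
  have hZT : Cfsg.centerThompsonAOf ((D.subgroupOf S).map ι) ≤ ι.range := by
    refine (centerThompsonAOf_le _).trans ?_
    rintro _ ⟨d, -, rfl⟩
    exact ⟨d, rfl⟩
  have h1 := hasNPC_normalizer_of_not_normNonInner_gen F hR T hT hWS hSW _ hZW hZT hcon
  have h2 := Cfsg.Agent.S3082.result hp T _ hD' (Or.inl h1)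
  exact not_nonInner_of_hasNPC F hR T hT h2 h

end realized

section main

/-- If `V` is normal in `F`, automorphisms of `F` are automorphisms of `N_F(V)`. -/
theorem normNonInner_of_isNormal {Ω : Type*} [Group Ω] {S : Subgroup Ω} [Finite S] {p : ℕ}
    {F : FusionSystem S} {V : Subgroup Ω} (hV : F.IsNormal V) (h : NonInner p F) :
    NormNonInner p F V := by
  obtain ⟨P, α, hα, hk⟩ := h
  refine ⟨P, α, ?_, hk⟩
  rw [Cfsg.Agent.Lib.helper89.mem_normalizerHom_iff]
  have hsc := Cfsg.Agent.Lib.helper86.stronglyClosed_of_isNormal F hV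
  have hVS : V ≤ S := hV.1
  have hfinV : Finite V := finite_of_le hVS
  have hSV : S ≤ Subgroup.normalizer (V : Set Ω) := by
    intro g hg
    apply mem_normalizer_of_conj_mem
    intro x hx
    exact Cfsg.Agent.Lib.helper89.conj_mem_of_stronglyClosed F hsc hg hx
  have hNS : normalizerIn S V = S := normalizerIn_eq_of_le_normalizer hSV
  refine ⟨hα, ?_, ?_, ((Cfsg.Agent.Lib.helper89.isNormal_iff_forall_normExt F V).mp hV).2 P _ hα⟩
  · rw [hNS]; exact (F.le_of_mem hα).1
  · intro x
    rw [hNS]; exact (F.le_of_mem hα).2 x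

/-- `Z(J(D))` is normal in `F` when the strongly closed subgroup `D` lies in `O_p(F)`. -/
theorem isNormal_centerThompsonAOf_of_le_core {Ω : Type*} [Group Ω] {S : Subgroup Ω} [Finite S]
    (F : FusionSystem S) {D : Subgroup Ω} (hD : F.StronglyClosed D) (hDQ : D ≤ F.core) :
    F.IsNormal (Cfsg.centerThompsonAOf D) := by
  have hDS := hD.1
  have hQn : F.IsNormal F.core := isNormal_core F
  rw [Cfsg.Agent.Lib.helper89.isNormal_iff_forall_normExt]
  refine ⟨(centerThompsonAOf_le D).trans hDS, fun P φ hφ => ?_⟩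
  obtain ⟨R, ψ, hψ, hPR, hQR, h1, h2⟩ :=
    ((Cfsg.Agent.Lib.helper89.isNormal_iff_forall_normExt F F.core).mp hQn).2 P φ hφ
  have hDR : D ≤ R := hDQ.trans hQR
  refine ⟨R, ψ, hψ, hPR, (centerThompsonAOf_le D).trans hDR, h1, fun q hq hR => ?_⟩
  have hinj := F.injective_of_mem hψ
  have hfinD : Finite D := finite_of_le hDS
  have hmapD : (D.subgroupOf R).map ψ = D := by
    have hle : (D.subgroupOf R).map ψ ≤ D := by
      rintro _ ⟨x, hx, rfl⟩
      have hxD : (x : Ω) ∈ D := Subgroup.mem_subgroupOf.mp hx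
      exact hD.2 D le_rfl (ψ.comp (Subgroup.inclusion hDR)) (restrict_mem F hDR hψ) ⟨x, hxD⟩
    apply Subgroup.eq_of_le_of_card_ge hle
    rw [Subgroup.card_map_of_injective hinj]
    exact (Nat.card_congr (Subgroup.subgroupOfEquivOfLe hDR).toEquiv).ge
  have e1 : Cfsg.centerThompsonAOf D =
      (Cfsg.centerThompsonAOf (D.subgroupOf R)).map R.subtype := by
    rw [← centerThompsonAOf_map R.subtype_injective, Subgroup.map_subgroupOf_eq_of_le hDR]
  have e2 : Cfsg.centerThompsonAOf D = (Cfsg.centerThompsonAOf (D.subgroupOf R)).map ψ := by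
    rw [← centerThompsonAOf_map hinj, hmapD]
  rw [e1] at hq
  obtain ⟨y, hy, hyq⟩ := hq
  have e3 : (⟨q, hR⟩ : R) = y := Subtype.ext hyq.symm
  rw [e3, e2]
  exact ⟨y, hy, rfl⟩

theorem mem_normalizer_inf {Ω : Type*} [Group Ω] {A B : Subgroup Ω} {x : Ω}
    (hA : x ∈ Subgroup.normalizer (A : Set Ω)) (hB : x ∈ Subgroup.normalizer (B : Set Ω)) :
    x ∈ Subgroup.normalizer ((A ⊓ B : Subgroup Ω) : Set Ω) := by
  rw [Subgroup.mem_normalizer_iff]
  intro h
  exact ⟨fun hh => ⟨(Subgroup.mem_normalizer_iff.mp hA h).mp hh.1,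
      (Subgroup.mem_normalizer_iff.mp hB h).mp hh.2⟩,
    fun hh => ⟨(Subgroup.mem_normalizer_iff.mp hA h).mpr hh.1,
      (Subgroup.mem_normalizer_iff.mp hB h).mpr hh.2⟩⟩

theorem gt_closed_aux {p : ℕ} [Fact p.Prime] (hp : p ≠ 2) (n : ℕ) :
    ∀ (d : ℕ) {Ω : Type u} [Group Ω] (S : Subgroup Ω) [Finite S], IsPGroup p S → Nat.card S = n →
      ∀ F : FusionSystem S, F.IsSaturated p → Nat.card S - Nat.card F.core = d →
        ∀ D : Subgroup Ω, F.StronglyClosed D → NonInner p F →
          NormNonInner p F (Cfsg.centerThompsonAOf D) := by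
  induction n using Nat.strong_induction_on with
  | _ n IH1 =>
  intro d
  induction d using Nat.strong_induction_on with
  | _ d IH2 =>
  intro Ω _ S _ hS hn F hF hd D hD hNI
  have hDS : D ≤ S := hD.1
  have hfinD : Finite D := finite_of_le hDS
  have hQn : F.IsNormal F.core := isNormal_core F
  have hQS : F.core ≤ S := hQn.1
  have hcardQ : Nat.card F.core ≤ Nat.card S := Subgroup.card_le_of_le hQS
  by_cases hDQ : D ≤ F.core
  · exact normNonInner_of_isNormal (isNormal_centerThompsonAOf_of_le_core F hD hDQ) hNI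
  have hSD : S ≤ Subgroup.normalizer (D : Set Ω) := by
    intro g hg
    apply mem_normalizer_of_conj_mem
    intro x hx
    exact Cfsg.Agent.Lib.helper89.conj_mem_of_stronglyClosed F hD hg hx
  -- a normal subgroup of `S` larger than the core whose normalizer system is not inner
  have step_normal : ∀ L : Subgroup Ω, L ≤ S → S ≤ Subgroup.normalizer (L : Set Ω) →
      NormNonInner p F L → Nat.card F.core < Nat.card L →
      NormNonInner p F (Cfsg.centerThompsonAOf D) := by
    intro L hLS hSL hNL hlt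
    have hfn : F.IsFullyNormalized L := fullyNormalized_of_le_normalizer F hLS hSL
    have hE := Cfsg.Agent.Lib.helper89.isNormalizerSystem_normalizerSystem F L hLS
    have hEsat := Cfsg.Agent.S5098.result p hS F hF L hfn _ hE
    have hT : normalizerIn S L = S := normalizerIn_eq_of_le_normalizer hSL
    haveI hfinT : Finite ↥(normalizerIn S L) := finite_of_le (normalizerIn_le S L)
    have hTp : IsPGroup p ↥(normalizerIn S L) := hS.to_le (normalizerIn_le S L)
    have hcardT : Nat.card ↥(normalizerIn S L) = n := by rw [hT]; exact hn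
    have hEn := isNormal_of_isNormalizerSystem F hLS _ hE
    have hLcore : L ≤ (Cfsg.Agent.Lib.helper89.normalizerSystem F L hLS).core := le_sSup hEn
    have hcore_le : (Cfsg.Agent.Lib.helper89.normalizerSystem F L hLS).core ≤ normalizerIn S L :=
      (isNormal_core _).1
    have h1 : Nat.card L ≤ Nat.card (Cfsg.Agent.Lib.helper89.normalizerSystem F L hLS).core := by
      haveI : Finite ↥(Cfsg.Agent.Lib.helper89.normalizerSystem F L hLS).core :=
        finite_of_le hcore_le
      exact Subgroup.card_le_of_le hLcore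
    have h2 : Nat.card (Cfsg.Agent.Lib.helper89.normalizerSystem F L hLS).core ≤
        Nat.card ↥(normalizerIn S L) := Subgroup.card_le_of_le hcore_le
    have hENI : NonInner p (Cfsg.Agent.Lib.helper89.normalizerSystem F L hLS) :=
      (nonInner_iff_of_isNormalizerSystem F L _ hE).mpr hNL
    have hDE : (Cfsg.Agent.Lib.helper89.normalizerSystem F L hLS).StronglyClosed D := by
      refine ⟨by rw [hT]; exact hDS, fun R hR φ hφ x => ?_⟩
      rw [hE R] at hφ
      exact hD.2 R hR φ hφ.1 x
    have h3 := IH2 (Nat.card ↥(normalizerIn S L) -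
      Nat.card (Cfsg.Agent.Lib.helper89.normalizerSystem F L hLS).core) (by omega)
      (normalizerIn S L) hTp hcardT _ hEsat rfl D hDE hENI
    exact NormNonInner.of_le (normalizerIn_le S L)
      (fun P φ hφ => by rw [hE P] at hφ; exact hφ.1) h3
  by_cases hcen : F.IsCentric F.core
  · -- constrained case: a model
    obtain ⟨G, _, ι, hM⟩ := exists_model hS F ⟨hF, F.core, hQn, hcen⟩
    obtain ⟨hfin, hR, ⟨T, hT⟩, -⟩ := hM
    exact normNonInner_of_realized_closed hp F hR T hT hD hNI
  by_cases hQ1 : F.core = ⊥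
  · -- trivial core: normalizer tower
    obtain ⟨U₀, hU₀S, hU₀ne, hU₀⟩ := hNI.exists_normNonInner
    obtain ⟨U₁, hfn₁, -, hne₁, hN₁⟩ := hU₀.exists_fullyNormalized hS hF hU₀S
    have hfinX : {U : Subgroup Ω | U ≠ ⊥ ∧ F.IsFullyNormalized U ∧ NormNonInner p F U}.Finite :=
      Set.Finite.subset finite_le (fun U hU => hU.2.1.1)
    obtain ⟨U, hUX, hmax⟩ := Set.exists_max_image _ (fun U => Nat.card (normalizerIn S U)) hfinX
      ⟨U₁, hne₁ hU₀ne, hfn₁, hN₁⟩
    obtain ⟨hUne, hUfn, hUN⟩ := hUX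
    have hUS : U ≤ S := hUfn.1
    haveI hfinU : Finite U := finite_of_le hUS
    by_cases hTS : normalizerIn S U = S
    · refine step_normal U hUS ?_ hUN ?_
      · intro x hx
        rw [← hTS] at hx
        exact hx.2
      · rw [hQ1, Subgroup.card_bot]
        exact (Subgroup.one_lt_card_iff_ne_bot _).mpr hUne
    · exfalso
      have hTle : normalizerIn S U ≤ S := normalizerIn_le S U
      haveI hfinT : Finite ↥(normalizerIn S U) := finite_of_le hTle
      have hTp : IsPGroup p ↥(normalizerIn S U) := hS.to_le hTle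
      have hcardT : Nat.card ↥(normalizerIn S U) < n := by
        rw [← hn]
        exact lt_of_le_of_ne (Subgroup.card_le_of_le hTle)
          (fun h => hTS (Subgroup.eq_of_le_of_card_ge hTle h.ge))
      have hE := Cfsg.Agent.Lib.helper89.isNormalizerSystem_normalizerSystem F U hUS
      have hEsat := Cfsg.Agent.S5098.result p hS F hF U hUfn _ hE
      have hENI : NonInner p (Cfsg.Agent.Lib.helper89.normalizerSystem F U hUS) :=
        (nonInner_iff_of_isNormalizerSystem F U _ hE).mpr hUN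
      obtain ⟨DT, hDTdef⟩ : ∃ DT : Subgroup Ω, DT = D ⊓ normalizerIn S U := ⟨_, rfl⟩
      have hDTle : DT ≤ normalizerIn S U := by rw [hDTdef]; exact inf_le_right
      have hDTD : DT ≤ D := by rw [hDTdef]; exact inf_le_left
      have hDE : (Cfsg.Agent.Lib.helper89.normalizerSystem F U hUS).StronglyClosed DT := by
        refine ⟨hDTle, fun R hR φ hφ x => ?_⟩
        have hφN := ((Cfsg.Agent.Lib.helper89.normalizerSystem F U hUS).le_of_mem hφ).2 x
        rw [hE R] at hφ
        rw [hDTdef]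
        exact ⟨hD.2 R (hR.trans hDTD) φ hφ.1 x, hφN⟩
      have h1 := IH1 _ hcardT _ (normalizerIn S U) hTp rfl _ hEsat rfl DT hDE hENI
      have h2 : NormNonInner p F (Cfsg.centerThompsonAOf DT) :=
        NormNonInner.of_le hTle (fun P φ hφ => by rw [hE P] at hφ; exact hφ.1) h1
      have hVT : Cfsg.centerThompsonAOf DT ≤ normalizerIn S U :=
        (centerThompsonAOf_le _).trans hDTle
      have hDTne : DT ≠ ⊥ := by
        haveI : Group.IsNilpotent S := hS.isNilpotent
        haveI hDn : (D.subgroupOf S).Normal := by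
          refine ⟨fun x hx g => ?_⟩
          rw [Subgroup.mem_subgroupOf] at hx ⊢
          exact Cfsg.Agent.Lib.helper89.conj_mem_of_stronglyClosed F hD g.2 hx
        have hne' : D.subgroupOf S ≠ ⊥ := by
          intro hbot
          apply hDQ
          intro x hx
          have h3 : (⟨x, hDS hx⟩ : S) ∈ D.subgroupOf S := Subgroup.mem_subgroupOf.mpr hx
          rw [hbot, Subgroup.mem_bot] at h3
          have h4 : x = 1 := congrArg Subtype.val h3
          rw [h4]
          exact Subgroup.one_mem _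
        have h3 := Cfsg.Agent.Lib.helper28.normal_inf_center_ne_bot (D.subgroupOf S) hne'
        obtain ⟨z, hz1⟩ := (Subgroup.ne_bot_iff_exists_ne_one).mp h3
        intro hbot
        have hzDT : (((z : S) : Ω)) ∈ DT := by
          rw [hDTdef]
          refine ⟨Subgroup.mem_subgroupOf.mp z.2.1, (z : S).2, ?_⟩
          apply mem_normalizer_of_conj_mem
          intro u hu
          have hc := Subgroup.mem_center_iff.mp z.2.2 ⟨u, hUS hu⟩
          have h4 : (u : Ω) * ((z : S) : Ω) = ((z : S) : Ω) * u := congrArg Subtype.val hc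
          have h5 : ((z : S) : Ω) * u * ((z : S) : Ω)⁻¹ = u := by
            rw [← h4]; group
          rw [h5]
          exact hu
        rw [hbot, Subgroup.mem_bot] at hzDT
        exact hz1 (Subtype.ext (Subtype.ext hzDT))
      haveI hfinDT : Finite DT := finite_of_le (hDTD.trans hDS)
      have hVne : Cfsg.centerThompsonAOf DT ≠ ⊥ :=
        centerThompsonAOf_ne_bot _ (hS.to_le (hDTD.trans hDS)) hDTne
      obtain ⟨V₁, hfnV, hcardV, hneV, hNV⟩ := h2.exists_fullyNormalized hS hF (hVT.trans hTle)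
      have h3 := hmax V₁ ⟨hneV hVne, hfnV, hNV⟩
      obtain ⟨g, hgN, hgT⟩ := exists_mem_normalizerIn_not_mem hS hTle hTS
      have hNTV : normalizerIn S (normalizerIn S U) ≤
          normalizerIn S (Cfsg.centerThompsonAOf DT) := by
        intro x hx
        refine ⟨hx.1, normalizer_le_normalizer_centerThompsonAOf _ ?_⟩
        rw [hDTdef]
        exact mem_normalizer_inf (hSD hx.1) hx.2
      have hTV : normalizerIn S U ≤ normalizerIn S (Cfsg.centerThompsonAOf DT) :=
        (le_normalizerIn hTle).trans hNTV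
      haveI : Finite ↥(normalizerIn S (Cfsg.centerThompsonAOf DT)) :=
        finite_of_le (normalizerIn_le S _)
      have h4 : Nat.card ↥(normalizerIn S U) <
          Nat.card ↥(normalizerIn S (Cfsg.centerThompsonAOf DT)) := by
        by_contra h5
        push Not at h5
        have h6 := Subgroup.eq_of_le_of_card_ge hTV h5
        apply hgT
        rw [h6]
        exact hNTV hgN
      have h7 : Nat.card ↥(normalizerIn S V₁) ≤ Nat.card ↥(normalizerIn S U) := h3
      omega
  · -- nontrivial, non-centric core: the factor system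
    by_contra hcon
    have hsc : F.StronglyClosed F.core :=
      Cfsg.Agent.Lib.helper86.stronglyClosed_of_isNormal F hQn
    haveI hQ'n : (F.core.subgroupOf S).Normal := by
      refine ⟨fun x hx g => ?_⟩
      rw [Subgroup.mem_subgroupOf] at hx ⊢
      exact Cfsg.Agent.Lib.helper89.conj_mem_of_stronglyClosed F hsc g.2 hx
    obtain ⟨E', hE'⟩ := Cfsg.Agent.S5132.result p hS F F.core hsc
    have hsm := Cfsg.Agent.S5134.result p hS F hF F.core hsc _ E' hE'
    have hE'sat : E'.IsSaturated p := Cfsg.Agent.S5133.result p hS F hF E' _ hsm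
    have hker : ∀ s : S, (QuotientGroup.mk' (F.core.subgroupOf S)) s = 1 ↔ (s : Ω) ∈ F.core :=
      hE'.2.1
    have hTp : IsPGroup p ↥(⊤ : Subgroup (S ⧸ F.core.subgroupOf S)) :=
      (hS.to_quotient (F.core.subgroupOf S)).to_subgroup ⊤
    haveI hfinQ : Finite ↥F.core := finite_of_le hQS
    have hcardlt : Nat.card ↥(⊤ : Subgroup (S ⧸ F.core.subgroupOf S)) < n := by
      rw [Subgroup.card_top, ← hn,
        Subgroup.card_eq_card_quotient_mul_card_subgroup (F.core.subgroupOf S)]
      have h1 : Nat.card ↥(F.core.subgroupOf S) = Nat.card ↥F.core :=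
        Nat.card_congr (Subgroup.subgroupOfEquivOfLe hQS).toEquiv
      have h2 : 1 < Nat.card ↥F.core := (Subgroup.one_lt_card_iff_ne_bot _).mpr hQ1
      rw [h1]
      exact (Nat.lt_mul_iff_one_lt_right Nat.card_pos).mpr h2
    -- the image of `D`
    obtain ⟨D', hD'def⟩ : ∃ D' : Subgroup (S ⧸ F.core.subgroupOf S),
        D' = (D.subgroupOf S).map (QuotientGroup.mk' (F.core.subgroupOf S)) := ⟨_, rfl⟩
    have hD'sc : E'.StronglyClosed D' := by
      refine ⟨le_top, fun R' hR' φ' hφ' y => ?_⟩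
      obtain ⟨-, φ, hφ, hP, hφS, hP', hind⟩ := (hE'.2.2.2 R' φ').mp hφ'
      have hyD' : (y : S ⧸ F.core.subgroupOf S) ∈ D' := hR' y.2
      rw [hD'def] at hyD'
      obtain ⟨dd, hdd, hdy⟩ := hyD'
      have hddD : (dd : Ω) ∈ D := Subgroup.mem_subgroupOf.mp hdd
      have hddP : (dd : Ω) ∈ FusionSystem.preimageAlong
          (QuotientGroup.mk' (F.core.subgroupOf S)) R' :=
        (Cfsg.Agent.Lib.helper87.mem_preimageAlong _ R' _).mpr ⟨dd.2, by rw [hdy]; exact y.2⟩
      have h1 := hind ⟨dd, hddP⟩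
      have e : (⟨(QuotientGroup.mk' (F.core.subgroupOf S)) ⟨(dd : Ω), hP hddP⟩,
          hP' ⟨dd, hddP⟩⟩ : R') = y := Subtype.ext hdy
      rw [e] at h1
      rw [h1, hD'def]
      refine ⟨⟨φ ⟨dd, hddP⟩, hφS _⟩, Subgroup.mem_subgroupOf.mpr ?_, rfl⟩
      have hZP : Subgroup.zpowers (dd : Ω) ≤ FusionSystem.preimageAlong
          (QuotientGroup.mk' (F.core.subgroupOf S)) R' := by
        rw [Subgroup.zpowers_le]; exact hddP
      have hZD : Subgroup.zpowers (dd : Ω) ≤ D := by
        rw [Subgroup.zpowers_le]; exact hddD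
      exact hD.2 _ hZD _ (restrict_mem F hZP hφ) ⟨dd, Subgroup.mem_zpowers _⟩
    have hB1 : ¬ NormNonInner p E' (Cfsg.centerThompsonAOf D') := by
      intro h1
      have h2 := h1.lift hsm
      have hLS := Cfsg.Agent.Lib.helper87.preimageAlong_le
        (QuotientGroup.mk' (F.core.subgroupOf S)) (Cfsg.centerThompsonAOf D')
      have hmemL := Cfsg.Agent.Lib.helper87.mem_preimageAlong
        (QuotientGroup.mk' (F.core.subgroupOf S)) (Cfsg.centerThompsonAOf D')
      haveI hfinL : Finite ↥(FusionSystem.preimageAlong (QuotientGroup.mk' (F.core.subgroupOf S))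
        (Cfsg.centerThompsonAOf D')) := finite_of_le hLS
      have hSL : S ≤ Subgroup.normalizer ((FusionSystem.preimageAlong
          (QuotientGroup.mk' (F.core.subgroupOf S)) (Cfsg.centerThompsonAOf D') : Subgroup Ω) :
            Set Ω) := by
        intro x hx
        apply mem_normalizer_of_conj_mem
        intro l hl
        obtain ⟨hlS, hlW⟩ := (hmemL l).mp hl
        rw [hmemL]
        refine ⟨S.mul_mem (S.mul_mem hx hlS) (S.inv_mem hx), ?_⟩
        have h3 : (⟨x * l * x⁻¹, S.mul_mem (S.mul_mem hx hlS) (S.inv_mem hx)⟩ : S) =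
            ⟨x, hx⟩ * ⟨l, hlS⟩ * ⟨x, hx⟩⁻¹ := rfl
        rw [h3, map_mul, map_mul, map_inv]
        have h4 : (QuotientGroup.mk' (F.core.subgroupOf S)) ⟨x, hx⟩ ∈ Subgroup.normalizer
            ((D' : Subgroup (S ⧸ F.core.subgroupOf S)) : Set (S ⧸ F.core.subgroupOf S)) := by
          apply mem_normalizer_of_conj_mem
          intro y hy
          exact Cfsg.Agent.Lib.helper89.conj_mem_of_stronglyClosed E' hD'sc (Subgroup.mem_top _) hy
        exact (Subgroup.mem_normalizer_iff.mp
          (normalizer_le_normalizer_centerThompsonAOf _ h4) _).mp hlW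
      have hQL : F.core ≤ FusionSystem.preimageAlong (QuotientGroup.mk' (F.core.subgroupOf S))
          (Cfsg.centerThompsonAOf D') :=
        Cfsg.Agent.Lib.helper87.le_preimageAlong _ hQS hker _
      have hD'ne : D' ≠ ⊥ := by
        intro hbot
        apply hDQ
        intro x hx
        have h3 : (QuotientGroup.mk' (F.core.subgroupOf S)) ⟨x, hDS hx⟩ ∈ D' := by
          rw [hD'def]
          exact ⟨⟨x, hDS hx⟩, Subgroup.mem_subgroupOf.mpr hx, rfl⟩
        rw [hbot, Subgroup.mem_bot] at h3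
        exact (hker ⟨x, hDS hx⟩).mp h3
      have hD'p : IsPGroup p D' := (hS.to_quotient (F.core.subgroupOf S)).to_subgroup D'
      have hWne := centerThompsonAOf_ne_bot D' hD'p hD'ne
      obtain ⟨⟨w, hw⟩, hw1⟩ := (Subgroup.ne_bot_iff_exists_ne_one).mp hWne
      obtain ⟨s, rfl⟩ := QuotientGroup.mk'_surjective (F.core.subgroupOf S) w
      have hsL : (s : Ω) ∈ FusionSystem.preimageAlong (QuotientGroup.mk' (F.core.subgroupOf S))
          (Cfsg.centerThompsonAOf D') := (hmemL s).mpr ⟨s.2, hw⟩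
      have hsQ : (s : Ω) ∉ F.core := by
        intro h3
        apply hw1
        apply Subtype.ext
        exact (hker s).mpr h3
      have hlt : Nat.card F.core < Nat.card ↥(FusionSystem.preimageAlong
          (QuotientGroup.mk' (F.core.subgroupOf S)) (Cfsg.centerThompsonAOf D')) := by
        by_contra h5
        push Not at h5
        have h6 := Subgroup.eq_of_le_of_card_ge hQL h5
        apply hsQ
        rw [h6]
        exact hsL
      exact hcon (step_normal _ hLS hSL h2 hlt)
    have hB2 : ¬ NonInner p E' := fun h1 =>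
      hB1 (IH1 _ hcardlt _ (⊤ : Subgroup (S ⧸ F.core.subgroupOf S)) hTp rfl E' hE'sat rfl D'
        hD'sc h1)
    exact hcen (isCentric_core_of_factor hS F hF hsm.1 hker hB2)

/-- **Glauberman–Thompson for fusion systems relative to a strongly closed subgroup** (`p` odd):
if `F` is saturated over the finite `p`-group `S`, `D` is strongly closed in `F` and some
automorphism of `F` is not a `p`-element, then some automorphism of the normalizer system
`N_F(Z(J(D)))` is not a `p`-element. -/
theorem gt_closed {Ω : Type u} [Group Ω] {S : Subgroup Ω} [Finite S] {p : ℕ} [Fact p.Prime]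
    (hp : p ≠ 2) (hS : IsPGroup p S) (F : FusionSystem S) (hF : F.IsSaturated p)
    {D : Subgroup Ω} (hD : F.StronglyClosed D) (h : NonInner p F) :
    NormNonInner p F (Cfsg.centerThompsonAOf D) :=
  gt_closed_aux hp _ _ S hS rfl F hF rfl D hD h

/-- `F` is the inner system iff the normalizer system of `Z(J(D))` is, for `D` strongly closed
and `p` odd. -/
theorem inner_iff_normalizer_inner_closed {Ω : Type u} [Group Ω] {S : Subgroup Ω} [Finite S]
    {p : ℕ} [Fact p.Prime] (hS : IsPGroup p S) (F : FusionSystem S) (hF : F.IsSaturated p)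
    (hp : p ≠ 2) (D : Subgroup Ω) (hD : F.StronglyClosed D) :
    (∀ P : Subgroup Ω, F.Hom P = (Cfsg.innerFusionSystem S).Hom P) ↔
      ∀ N : FusionSystem (normalizerIn S (Cfsg.centerThompsonAOf D)),
        F.IsNormalizerSystem (Cfsg.centerThompsonAOf D) N → ∀ P : Subgroup Ω,
          N.Hom P = (Cfsg.innerFusionSystem (normalizerIn S (Cfsg.centerThompsonAOf D))).Hom P := by
  have hDS : D ≤ S := hD.1
  have hfinD : Finite D := finite_of_le hDS
  have hSD : S ≤ Subgroup.normalizer (D : Set Ω) := by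
    intro g hg
    apply mem_normalizer_of_conj_mem
    intro x hx
    exact Cfsg.Agent.Lib.helper89.conj_mem_of_stronglyClosed F hD hg hx
  have hWS : Cfsg.centerThompsonAOf D ≤ S := (centerThompsonAOf_le D).trans hDS
  have hSN : S ≤ Subgroup.normalizer (Cfsg.centerThompsonAOf D : Set Ω) :=
    hSD.trans (normalizer_le_normalizer_centerThompsonAOf D)
  constructor
  · intro hin N hN P
    ext φ
    constructor
    · intro hφ
      have hP := (N.le_of_mem hφ).1
      rw [hN P] at hφ
      have h1 := hφ.1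
      rw [hin P] at h1
      obtain ⟨-, g, hg, h⟩ := h1
      exact ⟨hP, g, ⟨hg, hSN hg⟩, h⟩
    · rintro ⟨hP, g, hg, h⟩
      have h1 : φ = conjHom P g := by
        ext x
        exact h x
      rw [h1]
      exact N.conj_mem hP hg
  · intro hN
    have hpg : ∀ P : Subgroup Ω, P ≤ S → IsPGroup p (F.autGroup P) := by
      intro P hP
      by_contra hnp
      have h1 : NonInner p F := nonInner_of_not_isPGroup F hP hnp
      have h2 := gt_closed hp hS F hF hD h1
      have hE := Cfsg.Agent.Lib.helper89.isNormalizerSystem_normalizerSystem F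
        (Cfsg.centerThompsonAOf D) hWS
      have h3 := (nonInner_iff_of_isNormalizerSystem F _ _ hE).mpr h2
      obtain ⟨P₁, α, hα, hk⟩ := h3
      rw [hN _ hE P₁] at hα
      obtain ⟨-, g, hg, h⟩ := hα
      obtain ⟨k, hgk⟩ := hS ⟨g, hg.1⟩
      have hgk' : g ^ (p ^ k) = 1 := congrArg Subtype.val hgk
      apply hk k
      apply pow_eq_one_of_semiconj_inj P₁.subtype P₁.subtype_injective α (MulAut.conj g)
      · intro x
        exact h x
      · rw [← map_pow, hgk', map_one]
    have hFeq := Cfsg.Agent.S5083.result p hS F hF hpg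
    intro P
    rw [hFeq]

end main

end Cfsg.Agent.Lib.helper90
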