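import Cfsg.Agent.Lib.helper86.IvDefs
import Cfsg.Agent.Lib.helper11.IvLAB
import Cfsg.Agent.Lib.helper29.IvLNAB
import Cfsg.Agent.Lib.helper90.IvLAYERcore

/-!
# S3928, piece LAYER: the first non-central layer is bounded
(verbatim Skel statement; combines LAB (helper11) and LNAB (helper29) through `h90_iv_layer_core`)
-/

set_option autoImplicit false

namespace Cfsg.Agent.Lib.helper86.IV

/-- LAYER : the first non-central layer is bounded (uses LAB, LNAB). -/
theorem iv_layer {G : Type*} [Group G] [Finite G] (α : MulAut G) (h : IvHyp α) (m B : ℕ)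
    (hm : Nat.card (ivI α) ≤ m) (N : Subgroup G) [N.Normal] (hN : ∀ n ∈ N, α n ∈ N)
    (hmin : ∀ L : Subgroup G, L.Normal → (∀ n ∈ L, α n ∈ L) → L ≤ N → L = ⊥ ∨ L = N)
    (hB : N.index ≤ B)
    (hne : ∃ x ∈ ivI α, ∃ x' ∈ ivI α, x ≠ x' ∧ x⁻¹ * x' ∈ N) : Nat.card N ≤ ivE m B :=
  h90_iv_layer_core m B N (iv_layer_ab α h m B hm N hN hmin hB hne)
    (iv_layer_nab α h m B hm N hN hmin hB)

end Cfsg.Agent.Lib.helper86.IV
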