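import Cfsg.Agent.Lib.helper90.FocalCtl
import Cfsg.Agent.Lib.helper39.KInfTransfer

/-!
Glauberman's control of transfer by the lower K-infinity subgroup, for saturated fusion systems and
`p ≥ 5` (helper90): if `Aut_F(S)` is a `p`-group and `S ≠ 1`, then `foc(F) < S`.

* `transferHyp_kInfLower`: the local transfer condition for `K_∞` (from the group theorem of
  helper39, `kInfLower_controlsTransfer`).
* `InnTop F`: every map of `F` defined on `S` is conjugation by an element of `S`.
* `focal_ne_top_of_innTop`: induction on `|S|` through `N_F(K_∞(S))` and its quotient by `K_∞(S)`.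
-/

set_option autoImplicit false

namespace Cfsg.Agent.Lib.helper90

open Cfsg Cfsg.FusionSystem Cfsg.Agent.Lib.helper89

open scoped commutatorElement

universe u

section grp

variable {p : ℕ} [Fact p.Prime]

/-- For `p ≥ 5` the lower K-infinity subgroup satisfies the local transfer condition. -/
theorem transferHyp_kInfLower (hp : 5 ≤ p) : TransferHyp.{u} p kInfLower := by
  intro G _ _ P _
  obtain ⟨T, -, hTp, hidx, hT⟩ :=
    Cfsg.Agent.Lib.helper39.kInfLower_controlsTransfer (p := p) hp G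
  rw [Subgroup.relIndex_top_right] at hidx
  obtain ⟨T₁, hT₁⟩ := exists_sylow_eq_of_index hTp hidx
  obtain ⟨g, hg⟩ := MulAction.exists_smul_eq G T₁ P
  have hW := Cfsg.Agent.Lib.helper39.isCharPFunctor_kInfLower.{u} p
  have hTP : (P : Subgroup G) = T.map (MulAut.conj g).toMonoidHom := by
    rw [← hg, ← hT₁]
    ext x
    rw [Sylow.coe_subgroup_smul, Subgroup.mem_pointwise_smul_iff_inv_smul_mem]
    constructor
    · intro hx
      refine ⟨_, hx, ?_⟩
      show g * ((MulAut.conj g)⁻¹ • x) * g⁻¹ = x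
      simp [MulAut.smul_def]
      group
    · rintro ⟨t, ht, rfl⟩
      have : (MulAut.conj g)⁻¹ • ((MulAut.conj g).toMonoidHom t) = t := by
        simp [MulAut.smul_def]
        group
      rw [this]
      exact ht
  have hWP : inducedFunctor kInfLower (P : Subgroup G) =
      (inducedFunctor kInfLower T).map (MulAut.conj g).toMonoidHom := by
    rw [hTP]
    exact (Cfsg.Agent.Lib.helper39.ind_map hW (MulAut.conj g).toMonoidHom T hTp
      ((MulAut.conj g).injective.injOn)).symm
  have hQn : (pCore p G).Normal := Cfsg.Agent.Lib.helper39.pCore_normal p G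
  have hQT : pCore p G ≤ T := by rw [← hT₁]; exact Cfsg.Agent.Lib.helper39.pCore_le_sylow T₁
  show pCore p G ⊓ commutator G = pCore p G ⊓
    (commutator ↥(Subgroup.normalizer
      ((inducedFunctor kInfLower (P : Subgroup G) : Subgroup G) : Set G))).map
      (Subgroup.normalizer
        ((inducedFunctor kInfLower (P : Subgroup G) : Subgroup G) : Set G)).subtype
  rw [Subgroup.map_subtype_commutator, commutator_def]
  apply le_antisymm
  · rintro x ⟨hxQ, hxC⟩
    refine ⟨hxQ, ?_⟩
    have hx'Q : g⁻¹ * x * g ∈ pCore p G := by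
      have := hQn.conj_mem x hxQ g⁻¹
      rwa [inv_inv] at this
    have hx'C : g⁻¹ * x * g ∈ ⁅(⊤ : Subgroup G), (⊤ : Subgroup G)⁆ := by
      have hn : (⁅(⊤ : Subgroup G), (⊤ : Subgroup G)⁆).Normal := inferInstance
      have := hn.conj_mem x hxC g⁻¹
      rwa [inv_inv] at this
    have h1 : g⁻¹ * x * g ∈ T ⊓ ⁅(⊤ : Subgroup G), (⊤ : Subgroup G)⁆ := ⟨hQT hx'Q, hx'C⟩
    rw [hT] at h1
    have h2 : x ∈ (⁅(⊤ : Subgroup G) ⊓ Subgroup.normalizer
        ((inducedFunctor kInfLower T : Subgroup G) : Set G),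
        (⊤ : Subgroup G) ⊓ Subgroup.normalizer
        ((inducedFunctor kInfLower T : Subgroup G) : Set G)⁆).map
        (MulAut.conj g).toMonoidHom := by
      refine ⟨g⁻¹ * x * g, h1.2, ?_⟩
      show g * (g⁻¹ * x * g) * g⁻¹ = x
      group
    rw [Subgroup.map_commutator] at h2
    have hle : ((⊤ : Subgroup G) ⊓ Subgroup.normalizer
        ((inducedFunctor kInfLower T : Subgroup G) : Set G)).map (MulAut.conj g).toMonoidHom ≤
        Subgroup.normalizer ((inducedFunctor kInfLower (P : Subgroup G) : Subgroup G) : Set G) := by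
      rintro _ ⟨n, ⟨-, hn⟩, rfl⟩
      rw [hWP]
      exact Cfsg.Agent.Lib.helper39.map_mem_normalizer (MulAut.conj g).toMonoidHom hn
    exact Subgroup.commutator_mono hle hle h2
  · exact inf_le_inf_left _ (Subgroup.commutator_mono le_top le_top)

end grp

section fus

variable {p : ℕ} [Fact p.Prime]

/-- Every map of `F` defined on `S` is conjugation by an element of `S`. -/
def InnTop {Ω : Type u} [Group Ω] {S : Subgroup Ω} (F : FusionSystem S) : Prop :=
  ∀ φ ∈ F.Hom S, ∃ s ∈ S, ∀ x : S, φ x = s * (x : Ω) * s⁻¹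

theorem innTop_of_isPGroup_autGroup {Ω : Type u} [Group Ω] {S : Subgroup Ω} [Finite S]
    (hS : IsPGroup p S) (F : FusionSystem S) (hF : F.IsSaturated p)
    (haut : IsPGroup p ↥(F.autGroup S)) : InnTop F := by
  intro φ hφ
  obtain ⟨α, hα, hαφ⟩ := exists_autGroup_of_hom_top F hφ
  have hfn : F.IsFullyNormalized S := fullyNormalized_of_normal F le_rfl Subgroup.le_normalizer
  obtain ⟨-, R, hR⟩ :=
    (Cfsg.Agent.Lib.helper88.fullyAutomized_receptive_of_fullyNormalized hS F hF hfn).1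
  have hRtop : (⊤ : Subgroup ↥(F.autGroup S)) = (R : Subgroup ↥(F.autGroup S)) :=
    R.is_maximal' (haut.to_subgroup ⊤) le_top
  have h1 : (⟨α, hα⟩ : F.autGroup S) ∈ (autInducedBy S S).subgroupOf (F.autGroup S) := by
    rw [← hR, ← hRtop]
    exact Subgroup.mem_top _
  obtain ⟨s, hs, hsx⟩ := (Cfsg.Agent.Lib.helper88.mem_autInducedBy_iff S S α).mp
    (Subgroup.mem_subgroupOf.mp h1)
  exact ⟨s, hs, fun x => by rw [← hαφ x]; exact hsx x⟩

/-- For `p ≥ 5`: a saturated fusion system over `S ≠ 1` all of whose maps defined on `S` are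
conjugations by elements of `S` has focal subgroup different from `S`. -/
theorem focal_ne_top_of_innTop (hp : 5 ≤ p) (hmodel : ModelHyp.{u} p) :
    ∀ (n : ℕ) (Ω : Type u) [Group Ω] (S : Subgroup Ω) [Finite S], Nat.card S = n →
      IsPGroup p S → S ≠ ⊥ → ∀ F : FusionSystem S, F.IsSaturated p → InnTop F →
        F.focalSubgroup ≠ S := by
  intro n
  induction n using Nat.strong_induction_on with
  | _ n ihn =>
    intro Ω _ S _ hcard hS hS0 F hF hinn hfoc
    classical
    have hW := Cfsg.Agent.Lib.helper39.isCharPFunctor_kInfLower.{u} p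
    have hT := transferHyp_kInfLower.{u} (p := p) hp
    obtain ⟨U, hUdef⟩ : ∃ U : Subgroup Ω, U = inducedFunctor kInfLower S := ⟨_, rfl⟩
    have hUS : U ≤ S := by rw [hUdef]; exact Cfsg.Agent.Lib.helper39.ind_le S
    have hUn : S ≤ Subgroup.normalizer (U : Set Ω) := by
      intro s hs
      rw [hUdef]
      exact mem_normalizer_ind hW hS (Subgroup.le_normalizer hs)
    have hU0 : U ≠ ⊥ := by rw [hUdef]; exact ind_ne_bot hW hS hS0
    have h1 := focal_le_nFoc hmodel hW hT _ _ Ω S rfl hS F hF rfl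
    rw [← hUdef] at h1
    have hnF : S ≤ nFoc F U := by
      intro s hs
      apply h1
      rw [hfoc]
      exact hs
    by_cases hUtop : U = S
    · have hle : nFoc F U ≤ ⁅S, S⁆ := by
        unfold nFoc
        rw [Subgroup.closure_le]
        rintro _ ⟨D, φ, x, hφ, hUD, hDN, h, rfl⟩
        have hSD : S ≤ D := by rw [← hUtop]; exact hUD
        have hφS := Cfsg.Agent.Lib.helper88.restrict_mem F hSD hφ
        obtain ⟨s, hs, hsx⟩ := hinn _ hφS
        have hxS : (x : Ω) ∈ S := (le_of_hom F hφ) x.2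
        have h3 : φ x = s * (x : Ω) * s⁻¹ := hsx ⟨x, hxS⟩
        have e : (x : Ω)⁻¹ * φ x = ⁅(x : Ω)⁻¹, s⁆ := by
          rw [commutatorElement_def, h3]; group
        show (x : Ω)⁻¹ * φ x ∈ ⁅S, S⁆
        rw [e]
        exact Subgroup.commutator_mem_commutator (S.inv_mem hxS) hs
      have hnil : Group.IsNilpotent S := hS.isNilpotent
      have h2 : (⊤ : Subgroup S) ≤ ⁅(⊤ : Subgroup S), (⊤ : Subgroup S)⁆ := by
        intro y _
        have hy : (y : Ω) ∈ ⁅S, S⁆ := hle (hnF y.2)
        rw [← Subgroup.map_subtype_commutator, commutator_def] at hy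
        obtain ⟨y', hy', hyy⟩ := hy
        have e : y' = y := Subtype.ext hyy
        rw [← e]; exact hy'
      have h3 := Cfsg.Agent.Lib.helper86.eq_bot_of_le_commutator_top (⊤ : Subgroup S) h2
      apply hS0
      rw [eq_bot_iff]
      intro s hs
      have h4 : (⟨s, hs⟩ : S) ∈ (⊤ : Subgroup S) := Subgroup.mem_top _
      rw [h3, Subgroup.mem_bot] at h4
      exact Subgroup.mem_bot.mpr (congrArg Subtype.val h4)
    · have hsatU := normSys_saturated hS F hF U hUS hUn
      have hUnorm := normSys_isNormal F U hUS hUn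
      have hUsc := Cfsg.Agent.Lib.helper87.stronglyClosed_of_isNormal' _ hUnorm
      have hinnU : InnTop (normSys F U hUS hUn) :=
        fun φ hφ => hinn φ (normSys_le F U hUS hUn S hφ)
      have hfocU : S ≤ (normSys F U hUS hUn).focalSubgroup := by
        refine hnF.trans ?_
        unfold nFoc
        rw [Subgroup.closure_le]
        rintro _ ⟨D, φ, x, hφ, hUD, hDN, h, rfl⟩
        exact Subgroup.subset_closure ⟨D, φ, x,
          mem_normSys_of_forall_mem F U hUS hUn hφ hUD (fun q hq => h q hq (hUD hq)), rfl⟩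
      have hnorm : (U.subgroupOf S).Normal := by
        constructor
        intro n hn g
        rw [Subgroup.mem_subgroupOf] at hn ⊢
        exact hUsc.2 U le_rfl (conjHom U (g : Ω))
          ((normSys F U hUS hUn).conj_mem hUS g.2) ⟨n, hn⟩
      obtain ⟨E, hE⟩ := Cfsg.Agent.S5132.result p hS (normSys F U hUS hUn) U hUsc
      obtain ⟨θ, hθ⟩ : ∃ θ : ↥S →* ↥S ⧸ U.subgroupOf S,
          θ = QuotientGroup.mk' (U.subgroupOf S) := ⟨_, rfl⟩
      rw [← hθ] at hE
      have hsurj := Cfsg.Agent.S5134.result p hS (normSys F U hUS hUn) hsatU U hUsc θ E hE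
      have hEsat := Cfsg.Agent.S5133.result p hS (normSys F U hUS hUn) hsatU E θ hsurj
      obtain ⟨-, hker, -, hiff⟩ := hE
      have hθsurj : Function.Surjective θ := by rw [hθ]; exact QuotientGroup.mk'_surjective _
      have hpQ : IsPGroup p (↥S ⧸ U.subgroupOf S) := hS.to_quotient _
      have hpTop : IsPGroup p (⊤ : Subgroup (↥S ⧸ U.subgroupOf S)) := hpQ.to_subgroup _
      have hU'0 : U.subgroupOf S ≠ ⊥ := by
        intro h
        apply hU0
        rw [eq_bot_iff]
        intro q hq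
        have h1 : (⟨q, hUS hq⟩ : S) ∈ U.subgroupOf S := Subgroup.mem_subgroupOf.mpr hq
        rw [h, Subgroup.mem_bot] at h1
        exact Subgroup.mem_bot.mpr (congrArg Subtype.val h1)
      have hcardlt : Nat.card (⊤ : Subgroup (↥S ⧸ U.subgroupOf S)) < Nat.card S := by
        rw [Subgroup.card_top, Subgroup.card_eq_card_quotient_mul_card_subgroup (U.subgroupOf S)]
        have h1 : 1 < Nat.card (U.subgroupOf S) := (Subgroup.one_lt_card_iff_ne_bot _).mpr hU'0
        have h2 : 0 < Nat.card (↥S ⧸ U.subgroupOf S) := Nat.card_pos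
        nlinarith
      have hTop0 : (⊤ : Subgroup (↥S ⧸ U.subgroupOf S)) ≠ ⊥ := by
        intro h
        apply hUtop
        apply le_antisymm hUS
        intro s hs
        have h1 : θ ⟨s, hs⟩ ∈ (⊤ : Subgroup (↥S ⧸ U.subgroupOf S)) := Subgroup.mem_top _
        rw [h, Subgroup.mem_bot] at h1
        exact (hker _).mp h1
      have hinnE : InnTop E := by
        intro φ' hφ'
        obtain ⟨-, φ, hφ, hDS, hφS, hD', hind⟩ := (hiff ⊤ φ').mp hφ'
        have hSD : S ≤ preimageAlong θ (⊤ : Subgroup (↥S ⧸ U.subgroupOf S)) := fun s hs =>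
          (Cfsg.Agent.Lib.helper87.mem_preimageAlong θ ⊤ s).mpr ⟨hs, Subgroup.mem_top _⟩
        obtain ⟨s, hs, hsx⟩ := hinnU _
          (Cfsg.Agent.Lib.helper88.restrict_mem (normSys F U hUS hUn) hSD hφ)
        refine ⟨θ ⟨s, hs⟩, Subgroup.mem_top _, fun x' => ?_⟩
        obtain ⟨x₀, hx₀⟩ := hθsurj (x' : ↥S ⧸ U.subgroupOf S)
        have e1 := hind ⟨x₀, hSD x₀.2⟩
        have e2 : (⟨θ ⟨(x₀ : Ω), hDS (hSD x₀.2)⟩, hD' ⟨x₀, hSD x₀.2⟩⟩ :
            (⊤ : Subgroup (↥S ⧸ U.subgroupOf S))) = x' := Subtype.ext hx₀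
        rw [e2] at e1
        rw [e1]
        have e3 : φ ⟨x₀, hSD x₀.2⟩ = s * (x₀ : Ω) * s⁻¹ := hsx x₀
        have e4 : (⟨φ ⟨x₀, hSD x₀.2⟩, hφS _⟩ : S) = ⟨s, hs⟩ * x₀ * (⟨s, hs⟩ : S)⁻¹ :=
          Subtype.ext e3
        rw [e4, map_mul, map_mul, map_inv, hx₀]
      have hIH := ihn (Nat.card (⊤ : Subgroup (↥S ⧸ U.subgroupOf S)))
        (by rw [← hcard]; exact hcardlt) (↥S ⧸ U.subgroupOf S) ⊤ rfl hpTop hTop0 E hEsat hinnE
      apply hIH
      apply le_antisymm (focal_le E)
      intro y _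
      obtain ⟨y₀, rfl⟩ := hθsurj y
      have hle : (normSys F U hUS hUn).focalSubgroup ≤ preimageAlong θ E.focalSubgroup := by
        show Subgroup.closure _ ≤ _
        rw [Subgroup.closure_le]
        rintro _ ⟨P, φ, x, hφ, rfl⟩
        obtain ⟨φ', hφ', hPS, hφS, hP', hind⟩ := hsurj.1.2 P φ hφ
        refine (Cfsg.Agent.Lib.helper87.mem_preimageAlong θ _ _).mpr
          ⟨S.mul_mem (S.inv_mem (hPS x.2)) (hφS x), ?_⟩
        have e : θ ⟨(x : Ω)⁻¹ * φ x, S.mul_mem (S.inv_mem (hPS x.2)) (hφS x)⟩ =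
            (θ ⟨x, hPS x.2⟩)⁻¹ * θ ⟨φ x, hφS x⟩ := by
          rw [← map_inv, ← map_mul]; rfl
        rw [e, ← hind x]
        exact Subgroup.subset_closure ⟨_, φ', ⟨θ ⟨x, hPS x.2⟩, hP' x⟩, hφ', rfl⟩
      obtain ⟨_, h⟩ := (Cfsg.Agent.Lib.helper87.mem_preimageAlong θ _ _).mp (hle (hfocU y₀.2))
      exact h

/-- **Glauberman (fusion form).** For `p ≥ 5`, a saturated fusion system `F` over `S ≠ 1` with
`Aut_F(S)` a `p`-group has `foc(F) < S`. -/
theorem focal_lt_of_isPGroup_autGroup (hp : 5 ≤ p) (hmodel : ModelHyp.{u} p) {Ω : Type u}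
    [Group Ω] {S : Subgroup Ω} [Finite S] (hS : IsPGroup p S) (F : FusionSystem S)
    (hF : F.IsSaturated p) (hS1 : S ≠ ⊥) (haut : IsPGroup p ↥(F.autGroup S)) :
    F.focalSubgroup < S :=
  lt_of_le_of_ne (focal_le F) (focal_ne_top_of_innTop hp hmodel _ Ω S rfl hS hS1 F hF
    (innTop_of_isPGroup_autGroup hS F hF haut))

end fus

end Cfsg.Agent.Lib.helper90
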