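import Mathlib
import Cfsg.Agent.Lib.helper68.HallPet
import Cfsg.Agent.Lib.helper90.PearlJJ1

/-!
S5238 block G, sub-block J (architect helper52), piece J10 (racing copy, prefixed name):
a proper subgroup of a group of order `p ^ n`, `n ≤ p + 1`, is generated by at most `p` elements.
-/

set_option autoImplicit false

namespace Cfsg.Agent.Lib.helper52.PearlJ

open Cfsg.Agent.Lib.helper68

/-- J10 (S/M), racing copy. -/
theorem h90_jp_nontop_small {G : Type*} [Group G] [Finite G] (p : ℕ) [Fact p.Prime] (n : ℕ)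
    (hG : Nat.card G = p ^ n) (hn : n ≤ p + 1) (H : Subgroup G) (hH : H ≠ ⊤) :
    ∃ T : Finset G, T.card ≤ p ∧ Subgroup.closure (T : Set G) = H := by
  have hp : p.Prime := Fact.out
  have hGp : IsPGroup p G := IsPGroup.of_card hG
  have hd : Nat.card H ∣ p ^ n := by
    rw [← hG]
    exact Subgroup.card_subgroup_dvd_card H
  obtain ⟨j, hjn, hj⟩ := (Nat.dvd_prime_pow hp).mp hd
  have hjn' : j ≠ n := by
    rintro rfl
    exact hH (Subgroup.eq_top_of_card_eq H (by rw [hj, hG]))
  have hle : Nat.card H ≤ p ^ p * Nat.card (⊥ : Subgroup G) := by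
    rw [Subgroup.card_bot, mul_one, hj]
    exact Nat.pow_le_pow_right hp.pos (by omega)
  obtain ⟨T, hTc, hT⟩ := h90_jp_greedy p hGp p H ⊥ bot_le hle
  exact ⟨T, hTc, by rwa [sup_bot_eq] at hT⟩

end Cfsg.Agent.Lib.helper52.PearlJ
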