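import Mathlib

/-!
# S2279 piece W (helper90): `result_of_main`

Both conjuncts of S2279 from the main statement `SL_n(F) = ⟨u, g u g⁻¹⟩`.
-/

set_option autoImplicit false

namespace Cfsg.Agent.Lib.helper45.RU

/-- conjugation by an invertible matrix commutes with powers -/
theorem h90_conj_pow_aux {R : Type*} [Ring R] (G Gi A : R) (h2 : Gi * G = 1) (h1 : G * Gi = 1)
    (k : ℕ) : (G * A * Gi) ^ k = G * A ^ k * Gi := by
  induction k with
  | zero => rw [pow_zero, pow_zero, mul_one, h1]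
  | succ k ih =>
    rw [pow_succ, ih, pow_succ]
    calc G * A ^ k * Gi * (G * A * Gi) = G * A ^ k * (Gi * G) * A * Gi := by
          simp only [mul_assoc]
      _ = G * (A ^ k * A) * Gi := by rw [h2, mul_one]; simp only [mul_assoc]

/-- W -/
theorem result_of_main {F : Type*} [Field F] [Fintype F] (n : ℕ) (hn : 4 ≤ n)
    (hmain : ∃ u g : Matrix.SpecialLinearGroup (Fin n) F,
      (IsNilpotent ((u : Matrix (Fin n) (Fin n) F) - 1) ∧
        ((u : Matrix (Fin n) (Fin n) F) - 1) ^ (n - 1) ≠ 0) ∧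
      Subgroup.closure ({u, g * u * g⁻¹} : Set (Matrix.SpecialLinearGroup (Fin n) F)) = ⊤) :
    (∃ u v : Matrix.SpecialLinearGroup (Fin n) F, (IsNilpotent ((u : Matrix (Fin n) (Fin n) F) - 1) ∧ ((u : Matrix (Fin n) (Fin n) F) - 1) ^ (n - 1) ≠ 0) ∧ (IsNilpotent ((v : Matrix (Fin n) (Fin n) F) - 1) ∧ ((v : Matrix (Fin n) (Fin n) F) - 1) ^ (n - 1) ≠ 0) ∧
      Subgroup.closure ({u, v} : Set (Matrix.SpecialLinearGroup (Fin n) F)) = ⊤) ∧
    ((Fintype.card F).Prime → ∃ u g : Matrix.SpecialLinearGroup (Fin n) F, (IsNilpotent ((u : Matrix (Fin n) (Fin n) F) - 1) ∧ ((u : Matrix (Fin n) (Fin n) F) - 1) ^ (n - 1) ≠ 0) ∧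
      Subgroup.closure ({u, g * u * g⁻¹} : Set (Matrix.SpecialLinearGroup (Fin n) F)) = ⊤) := by
  obtain ⟨u, g, ⟨hnil, hpow⟩, hcl⟩ := hmain
  refine ⟨⟨u, g * u * g⁻¹, ⟨hnil, hpow⟩, ?_, hcl⟩, fun _ => ⟨u, g, ⟨hnil, hpow⟩, hcl⟩⟩
  have h1 : (g : Matrix (Fin n) (Fin n) F) *
      ((g⁻¹ : Matrix.SpecialLinearGroup (Fin n) F) : Matrix (Fin n) (Fin n) F) = 1 := by
    rw [← Matrix.SpecialLinearGroup.coe_mul, mul_inv_cancel, Matrix.SpecialLinearGroup.coe_one]
  have h2 : ((g⁻¹ : Matrix.SpecialLinearGroup (Fin n) F) : Matrix (Fin n) (Fin n) F) *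
      (g : Matrix (Fin n) (Fin n) F) = 1 := by
    rw [← Matrix.SpecialLinearGroup.coe_mul, inv_mul_cancel, Matrix.SpecialLinearGroup.coe_one]
  have h3 : ((g * u * g⁻¹ : Matrix.SpecialLinearGroup (Fin n) F) : Matrix (Fin n) (Fin n) F) - 1
      = (g : Matrix (Fin n) (Fin n) F) * ((u : Matrix (Fin n) (Fin n) F) - 1) *
        ((g⁻¹ : Matrix.SpecialLinearGroup (Fin n) F) : Matrix (Fin n) (Fin n) F) := by
    rw [Matrix.SpecialLinearGroup.coe_mul, Matrix.SpecialLinearGroup.coe_mul, mul_sub, sub_mul,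
      mul_one, h1]
  rw [h3]
  constructor
  · obtain ⟨k, hk⟩ := hnil
    exact ⟨k, by rw [h90_conj_pow_aux _ _ _ h2 h1, hk, mul_zero, zero_mul]⟩
  · intro h0
    rw [h90_conj_pow_aux _ _ _ h2 h1] at h0
    apply hpow
    calc ((u : Matrix (Fin n) (Fin n) F) - 1) ^ (n - 1)
        = (((g⁻¹ : Matrix.SpecialLinearGroup (Fin n) F) : Matrix (Fin n) (Fin n) F) *
            (g : Matrix (Fin n) (Fin n) F)) * ((u : Matrix (Fin n) (Fin n) F) - 1) ^ (n - 1) *
          (((g⁻¹ : Matrix.SpecialLinearGroup (Fin n) F) : Matrix (Fin n) (Fin n) F) *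
            (g : Matrix (Fin n) (Fin n) F)) := by rw [h2, one_mul, mul_one]
      _ = ((g⁻¹ : Matrix.SpecialLinearGroup (Fin n) F) : Matrix (Fin n) (Fin n) F) *
          ((g : Matrix (Fin n) (Fin n) F) * ((u : Matrix (Fin n) (Fin n) F) - 1) ^ (n - 1) *
            ((g⁻¹ : Matrix.SpecialLinearGroup (Fin n) F) : Matrix (Fin n) (Fin n) F)) *
          (g : Matrix (Fin n) (Fin n) F) := by simp only [mul_assoc]
      _ = 0 := by rw [h0, mul_zero, zero_mul]

end Cfsg.Agent.Lib.helper45.RU
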