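import Mathlib
import Cfsg.Prelude.Def_Classical
import Cfsg.Agent.Lib.helper72.SUODefs

/-!
S2334 split, piece EMB: the block-diagonal embedding `embMat M 1` of a unitary matrix of
determinant one has determinant one and preserves the Hermitian form in dimension `m + m + 1`.
-/

set_option autoImplicit false

namespace Cfsg.Agent.Lib.helper72.SUO

open Matrix Cfsg Cfsg.Agent.Lib.helper99 Cfsg.Agent.Lib.helper44.SUW

theorem h90_embMat_mulVec_inl {K : Type*} [Field K] {m : ℕ}
    (M : Matrix (Fin (m + m)) (Fin (m + m)) K) (c : K) (u : Fin (m + m + 1) → K)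
    (j : Fin (m + m)) :
    (embMat M c *ᵥ u) (finSumFinEquiv (Sum.inl j)) =
      (M *ᵥ (fun i => u (finSumFinEquiv (Sum.inl i)))) j := by
  unfold embMat
  simp only [Matrix.mulVec, dotProduct, Matrix.submatrix_apply, Equiv.symm_apply_apply]
  rw [← Fintype.sum_equiv finSumFinEquiv
    (fun x => Matrix.fromBlocks M 0 0 (c • (1 : Matrix (Fin 1) (Fin 1) K)) (Sum.inl j) x *
      u (finSumFinEquiv x)) _ (fun x => by simp)]
  rw [Fintype.sum_sum_type]
  simp

theorem h90_embMat_mulVec_inr {K : Type*} [Field K] {m : ℕ}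
    (M : Matrix (Fin (m + m)) (Fin (m + m)) K) (c : K) (u : Fin (m + m + 1) → K)
    (j : Fin 1) :
    (embMat M c *ᵥ u) (finSumFinEquiv (Sum.inr j)) = c * u (finSumFinEquiv (Sum.inr j)) := by
  unfold embMat
  simp only [Matrix.mulVec, dotProduct, Matrix.submatrix_apply, Equiv.symm_apply_apply]
  rw [← Fintype.sum_equiv finSumFinEquiv
    (fun x => Matrix.fromBlocks M 0 0 (c • (1 : Matrix (Fin 1) (Fin 1) K)) (Sum.inr j) x *
      u (finSumFinEquiv x)) _ (fun x => by simp)]
  rw [Fintype.sum_sum_type]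
  have hj : j = 0 := Subsingleton.elim _ _
  subst hj
  simp

theorem h90_hermForm_split {K : Type*} [Field K] {q m : ℕ} (u v : Fin (m + m + 1) → K) :
    Cfsg.hermForm (m + m + 1) K q u v =
      Cfsg.hermForm (m + m) K q (fun i => u (finSumFinEquiv (Sum.inl i)))
        (fun i => v (finSumFinEquiv (Sum.inl i))) +
      ∑ j : Fin 1, u (finSumFinEquiv (Sum.inr j)) * (v (finSumFinEquiv (Sum.inr j))) ^ q := by
  unfold Cfsg.hermForm
  rw [← Fintype.sum_equiv finSumFinEquiv
    (fun x => u (finSumFinEquiv x) * (v (finSumFinEquiv x)) ^ q) _ (fun x => rfl)]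
  rw [Fintype.sum_sum_type]

/-- EMB (M) -/
theorem embMat_mem {K : Type*} [Field K] [Fintype K] {q m : ℕ} (hK : Fintype.card K = q ^ 2)
    (M : Matrix (Fin (m + m)) (Fin (m + m)) K) (hdet : M.det = 1)
    (hM : ∀ u v : Fin (m + m) → K,
      Cfsg.hermForm (m + m) K q (M *ᵥ u) (M *ᵥ v) = Cfsg.hermForm (m + m) K q u v) :
    (embMat M 1).det = 1 ∧ ∀ u v : Fin (m + m + 1) → K,
      Cfsg.hermForm (m + m + 1) K q (embMat M 1 *ᵥ u) (embMat M 1 *ᵥ v) =
        Cfsg.hermForm (m + m + 1) K q u v := by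
  refine ⟨?_, fun u v => ?_⟩
  · unfold embMat
    rw [Matrix.det_submatrix_equiv_self, Matrix.det_fromBlocks_zero₂₁, hdet, one_smul,
      Matrix.det_one, one_mul]
  · rw [h90_hermForm_split (embMat M 1 *ᵥ u) (embMat M 1 *ᵥ v), h90_hermForm_split u v]
    have h1 : (fun i => (embMat M 1 *ᵥ u) (finSumFinEquiv (Sum.inl i))) =
        M *ᵥ (fun i => u (finSumFinEquiv (Sum.inl i))) := by
      funext i
      exact h90_embMat_mulVec_inl M 1 u i
    have h2 : (fun i => (embMat M 1 *ᵥ v) (finSumFinEquiv (Sum.inl i))) =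
        M *ᵥ (fun i => v (finSumFinEquiv (Sum.inl i))) := by
      funext i
      exact h90_embMat_mulVec_inl M 1 v i
    rw [h1, h2, hM]
    congr 1
    refine Finset.sum_congr rfl (fun j _ => ?_)
    rw [h90_embMat_mulVec_inr, h90_embMat_mulVec_inr, one_mul, one_mul]

end Cfsg.Agent.Lib.helper72.SUO
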