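import Mathlib

set_option autoImplicit false

namespace Cfsg.Agent.Lib.helper90

/-- In a group, if a `p`-element `s` normalizes the cyclic subgroup generated by an element `x` with
`x ^ p = 1`, then `s` centralizes `x`. -/
theorem conj_eq_of_mem_zpowers {G : Type*} [Group G] {p : ℕ} [Fact p.Prime] {s x : G}
    (hs : ∃ j : ℕ, s ^ (p ^ j) = 1) (hx : x ^ p = 1) (h : s * x * s⁻¹ ∈ Subgroup.zpowers x) :
    s * x * s⁻¹ = x := by
  have hpp : p.Prime := Fact.out
  by_cases hx1 : x = 1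
  · rw [hx1]; group
  have ho : orderOf x = p := orderOf_eq_prime hx hx1
  have hfin : IsOfFinOrder x := isOfFinOrder_iff_pow_eq_one.mpr ⟨p, hpp.pos, hx⟩
  obtain ⟨k, hk⟩ := hfin.mem_powers_iff_mem_zpowers.mpr h
  have hk : x ^ k = s * x * s⁻¹ := hk
  obtain ⟨j, hj⟩ := hs
  have hiter : ∀ n : ℕ, s ^ n * x * (s ^ n)⁻¹ = x ^ (k ^ n) := by
    intro n
    induction n with
    | zero => simp
    | succ n ih =>
      calc s ^ (n + 1) * x * (s ^ (n + 1))⁻¹ = s * (s ^ n * x * (s ^ n)⁻¹) * s⁻¹ := by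
            rw [pow_succ']; group
        _ = s * x ^ (k ^ n) * s⁻¹ := by rw [ih]
        _ = (s * x * s⁻¹) ^ (k ^ n) := by rw [conj_pow]
        _ = (x ^ k) ^ (k ^ n) := by rw [hk]
        _ = x ^ (k ^ (n + 1)) := by rw [← pow_mul, pow_succ']
  have h1 := hiter (p ^ j)
  rw [hj, one_mul, inv_one, mul_one] at h1
  have h2 : k ^ (p ^ j) ≡ 1 [MOD p] := by
    have h3 := (pow_eq_pow_iff_modEq (x := x) (n := k ^ p ^ j) (m := 1)).mp
      (by rw [pow_one]; exact h1.symm)
    rwa [ho] at h3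
  have h3 : (k : ZMod p) = 1 := by
    have h4 := (ZMod.natCast_eq_natCast_iff _ _ _).mpr h2
    push_cast at h4
    rwa [ZMod.pow_card_pow] at h4
  have h5 : k ≡ 1 [MOD p] := by
    apply (ZMod.natCast_eq_natCast_iff _ _ _).mp
    push_cast
    exact h3
  rw [← hk]
  have h6 := (pow_eq_pow_iff_modEq (x := x) (n := k) (m := 1)).mpr (by rw [ho]; exact h5)
  rw [h6, pow_one]

/-- If `s` normalizes the cyclic subgroup generated by an element `x` with `x ^ 4 = 1`, then `s`
centralizes or inverts `x`. -/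
theorem conj_eq_or_inv_of_mem_zpowers {G : Type*} [Group G] {s x : G}
    (hx : x ^ 4 = 1) (h : s * x * s⁻¹ ∈ Subgroup.zpowers x) :
    s * x * s⁻¹ = x ∨ s * x * s⁻¹ = x⁻¹ := by
  have hfin : IsOfFinOrder x := isOfFinOrder_iff_pow_eq_one.mpr ⟨4, by norm_num, hx⟩
  obtain ⟨k, hk⟩ := hfin.mem_powers_iff_mem_zpowers.mpr h
  have hk : x ^ k = s * x * s⁻¹ := hk
  have hk' : x ^ (k % 4) = s * x * s⁻¹ := by
    rw [← hk]
    conv_rhs => rw [← Nat.mod_add_div k 4]
    rw [pow_add, pow_mul, hx, one_pow, mul_one]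
  have hone : s * x * s⁻¹ = 1 → s * x * s⁻¹ = x := by
    intro h1
    have h2 : x = 1 := by
      have h3 : x = s⁻¹ * (s * x * s⁻¹) * s := by group
      rw [h3, h1]; group
    rw [h2]; group
  have hlt : k % 4 < 4 := Nat.mod_lt _ (by norm_num)
  have hcases : k % 4 = 0 ∨ k % 4 = 1 ∨ k % 4 = 2 ∨ k % 4 = 3 := by omega
  rcases hcases with h0 | h0 | h0 | h0
  · rw [h0, pow_zero] at hk'
    exact Or.inl (hone hk'.symm)
  · rw [h0, pow_one] at hk'
    exact Or.inl hk'.symm
  · rw [h0] at hk'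
    left
    apply hone
    have h1 : (s * x * s⁻¹) ^ 2 = 1 := by
      rw [← hk', ← pow_mul]; exact hx
    have h2 : x ^ 2 = 1 := by
      rw [conj_pow] at h1
      have h3 : x ^ 2 = s⁻¹ * (s * x ^ 2 * s⁻¹) * s := by group
      rw [h3, h1]; group
    rw [← hk', h2]
  · rw [h0] at hk'
    right
    rw [← hk']
    exact eq_inv_of_mul_eq_one_left (by rw [← pow_succ]; exact hx)

/-- An automorphism of odd order that inverts `x` fixes `x`. -/
theorem fix_of_inv_of_odd {M : Type*} [Group M] (α : MulAut M) (hα : (orderOf α).Coprime 2)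
    (x : M) (h : α x = x⁻¹) : α x = x := by
  have h2 : (α ^ 2) x = x := by
    rw [pow_two, MulAut.mul_apply, h, map_inv, h, inv_inv]
  have hj : ∀ j : ℕ, ((α ^ 2) ^ j) x = x := by
    intro j
    induction j with
    | zero => simp
    | succ j ih => rw [pow_succ, MulAut.mul_apply, h2, ih]
  have hodd : Odd (orderOf α) := Nat.Coprime.odd_of_right hα
  obtain ⟨j, hj'⟩ := hodd
  have h3 : (α ^ orderOf α) x = x⁻¹ := by
    rw [hj', pow_succ, pow_mul, MulAut.mul_apply, h, map_inv, hj j]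
  rw [pow_orderOf_eq_one] at h3
  rw [h]
  exact h3.symm

end Cfsg.Agent.Lib.helper90
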