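import Mathlib
import Cfsg.Prelude.Def_FusionSystem
import Cfsg.Agent.Lib.helper88.FusionBasic
import Cfsg.Agent.Lib.helper88.Saturated2
import Cfsg.Agent.Lib.helper89.FusionSat
import Cfsg.Agent.Lib.helper89.FusionClosed
import Cfsg.Agent.Lib.helper90.SmallOrder

/-!
Fusion-system consequences of `coprime_family_trivial` (helper90): families of `p'`-automorphisms in
`Aut_F(P)` are trivial as soon as the maps of `F` between the cyclic subgroups of order `p` or `4` of
the hyperfocal subgroup respect the lower central series of `S`.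
-/

set_option autoImplicit false

namespace Cfsg.Agent.Lib.helper90

open Cfsg Cfsg.FusionSystem

/-- Powers of an automorphism are iterates. -/
theorem mulAut_pow_apply {M : Type*} [Group M] (α : MulAut M) (n : ℕ) (x : M) :
    (α ^ n) x = (⇑α)^[n] x := by
  induction n with
  | zero => simp
  | succ n ih => rw [pow_succ', MulAut.mul_apply, ih, Function.iterate_succ_apply']

/-- A subgroup of a finite group all of whose elements of order prime to `p` are trivial is a
`p`-group. -/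
theorem isPGroup_of_coprime_trivial {G : Type*} [Group G] [Finite G] {p : ℕ} [Fact p.Prime]
    (K : Subgroup G) (hK : ∀ k ∈ K, (orderOf k).Coprime p → k = 1) : IsPGroup p K := by
  have hpp : p.Prime := Fact.out
  obtain ⟨e, m, hm, hnm⟩ := Nat.exists_eq_pow_mul_and_not_dvd (Nat.card_pos (α := G)).ne' p
    hpp.ne_one
  intro k
  refine ⟨e, ?_⟩
  have h1 : ((k : G) ^ p ^ e) ^ m = 1 := by
    rw [← pow_mul, ← hnm]
    exact pow_card_eq_one'
  have h2 : orderOf ((k : G) ^ p ^ e) ∣ m := orderOf_dvd_of_pow_eq_one h1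
  have h3 : (orderOf ((k : G) ^ p ^ e)).Coprime p :=
    Nat.Coprime.coprime_dvd_left h2 ((Nat.Prime.coprime_iff_not_dvd hpp).mpr hm).symm
  have h4 := hK _ (K.pow_mem k.2 _) h3
  exact Subtype.ext h4

/-- A Sylow `p`-subgroup contained in a normal subgroup all of whose `p'`-elements are trivial
is normal. -/
theorem sylow_normal_of_coprime_trivial {G : Type*} [Group G] [Finite G] {p : ℕ} [Fact p.Prime]
    (R₀ : Sylow p G) (K : Subgroup G) [hKn : K.Normal] (hRK : (R₀ : Subgroup G) ≤ K)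
    (hK : ∀ k ∈ K, (orderOf k).Coprime p → k = 1) : (R₀ : Subgroup G).Normal := by
  have h1 : IsPGroup p K := isPGroup_of_coprime_trivial K hK
  have h2 : K = (R₀ : Subgroup G) := R₀.is_maximal' h1 hRK
  rw [← h2]
  exact hKn

/-- A finite group all of whose elements of order prime to `p` are trivial is a `p`-group. -/
theorem isPGroup_of_coprime_trivial_top {G : Type*} [Group G] [Finite G] {p : ℕ} [Fact p.Prime]
    (h : ∀ k : G, (orderOf k).Coprime p → k = 1) : IsPGroup p G := by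
  have h1 := isPGroup_of_coprime_trivial (⊤ : Subgroup G) (fun k _ hk => h k hk)
  intro g
  obtain ⟨e, he⟩ := h1 ⟨g, Subgroup.mem_top g⟩
  exact ⟨e, congrArg Subtype.val he⟩

/-- Smallness passes from a subgroup to the ambient group. -/
theorem small_coe {G : Type*} [Group G] {p : ℕ} {P : Subgroup G} {x : P}
    (h : x ^ p = 1 ∨ (p = 2 ∧ x ^ 4 = 1)) :
    (x : G) ^ p = 1 ∨ (p = 2 ∧ (x : G) ^ 4 = 1) := by
  rcases h with h | ⟨h2, h⟩
  · left
    have := congrArg (fun y : P => (y : G)) h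
    simpa using this
  · right
    refine ⟨h2, ?_⟩
    have := congrArg (fun y : P => (y : G)) h
    simpa using this


variable {Ω : Type*} [Group Ω] {S : Subgroup Ω}

/-- The restriction of an automorphism in `Aut_F(P)` to a cyclic subgroup. -/
theorem exists_restrict_zpowers (F : FusionSystem S) {P : Subgroup Ω} (hP : P ≤ S) {g : MulAut P}
    (hg : g ∈ F.autGroup P) (x : P) :
    ∃ φ ∈ F.Hom (Subgroup.zpowers (x : Ω)),
      φ ⟨(x : Ω), Subgroup.mem_zpowers _⟩ = ((g x : P) : Ω) := by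
  have hle : Subgroup.zpowers (x : Ω) ≤ P := by
    rw [Subgroup.zpowers_le]; exact x.2
  have h1 := (Cfsg.Agent.Lib.helper89.mem_autGroup_iff F hP g).mp hg
  exact ⟨_, Cfsg.Agent.Lib.helper88.restrict_mem F hle h1, rfl⟩

/-- The order of a nontrivial small element. -/
theorem card_zpowers_small {G : Type*} [Group G] {p : ℕ} [Fact p.Prime] {x : G}
    (hx : x ^ p = 1 ∨ (p = 2 ∧ x ^ 4 = 1)) (hx1 : x ≠ 1) :
    Nat.card (Subgroup.zpowers x) = p ∨ Nat.card (Subgroup.zpowers x) = 4 := by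
  have hpp : p.Prime := Fact.out
  rw [Nat.card_zpowers]
  rcases hx with h | ⟨h2, h⟩
  · exact Or.inl (orderOf_eq_prime h hx1)
  · have h1 : orderOf x ∣ 2 ^ 2 := orderOf_dvd_of_pow_eq_one (by norm_num; exact h)
    obtain ⟨k, hk, hk2⟩ := (Nat.dvd_prime_pow Nat.prime_two).mp h1
    have hk0 : k ≠ 0 := by
      rintro rfl
      rw [pow_zero, orderOf_eq_one_iff] at hk2
      exact hx1 hk2
    have hk' : k = 1 ∨ k = 2 := by omega
    rcases hk' with rfl | rfl
    · left; rw [hk2, h2]; norm_num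
    · right; rw [hk2]; norm_num

/-- A map of the system defined on a cyclic subgroup generated by a nontrivial small element is a
map between cyclic subgroups of order `p` or `4`. -/
theorem small_cyclic_homSet (F : FusionSystem S) {p : ℕ} [Fact p.Prime] {x : Ω}
    (hsm : x ^ p = 1 ∨ (p = 2 ∧ x ^ 4 = 1)) (hx1 : x ≠ 1) {φ : Subgroup.zpowers x →* Ω}
    (hφ : φ ∈ F.Hom (Subgroup.zpowers x)) :
    φ ∈ F.homSet (Subgroup.zpowers x) (Subgroup.zpowers (φ ⟨x, Subgroup.mem_zpowers x⟩)) ∧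
    (Nat.card (Subgroup.zpowers x) = p ∨ Nat.card (Subgroup.zpowers x) = 4) ∧
    (Nat.card (Subgroup.zpowers (φ ⟨x, Subgroup.mem_zpowers x⟩)) = p ∨
      Nat.card (Subgroup.zpowers (φ ⟨x, Subgroup.mem_zpowers x⟩)) = 4) := by
  have hinj := F.injective_of_mem hφ
  have hy1 : φ ⟨x, Subgroup.mem_zpowers x⟩ ≠ 1 := by
    intro h0
    have h1 : (⟨x, Subgroup.mem_zpowers x⟩ : Subgroup.zpowers x) = 1 := hinj (by rw [h0, map_one])
    exact hx1 (congrArg Subtype.val h1)
  have hysm : (φ ⟨x, Subgroup.mem_zpowers x⟩) ^ p = 1 ∨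
      (p = 2 ∧ (φ ⟨x, Subgroup.mem_zpowers x⟩) ^ 4 = 1) := by
    rcases hsm with h1 | ⟨h2, h1⟩
    · left
      rw [← map_pow]
      have h3 : (⟨x, Subgroup.mem_zpowers x⟩ : Subgroup.zpowers x) ^ p = 1 :=
        Subtype.ext (by simpa using h1)
      rw [h3, map_one]
    · right
      refine ⟨h2, ?_⟩
      rw [← map_pow]
      have h3 : (⟨x, Subgroup.mem_zpowers x⟩ : Subgroup.zpowers x) ^ 4 = 1 :=
        Subtype.ext (by simpa using h1)
      rw [h3, map_one]
  refine ⟨⟨hφ, fun y => ?_⟩, card_zpowers_small hsm hx1, card_zpowers_small hysm hy1⟩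
  obtain ⟨k, hk⟩ := Subgroup.mem_zpowers_iff.mp y.2
  have h3 : y = (⟨x, Subgroup.mem_zpowers x⟩ : Subgroup.zpowers x) ^ k :=
    Subtype.ext (by simp [hk])
  rw [h3, map_zpow]
  exact Subgroup.zpow_mem_zpowers _ k


/-- **Triviality of families of `p'`-automorphisms.** Suppose that every map of `F` between cyclic
subgroups of order `p` or `4` of the hyperfocal subgroup preserves the terms of the lower central series
of `S`. Let `𝒜 ⊆ Aut_F(P)` be a set of automorphisms of order prime to `p`, closed under conjugation in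
`Aut_F(P)`, which acts trivially on `R` modulo the next term of the lower central series, for every
`Aut_F(P)`-invariant subgroup `R` of `P` contained in the hyperfocal subgroup, of exponent `p` (or
`4`). Then `𝒜` is trivial. -/
theorem aut_family_trivial [Finite S] {p : ℕ} [Fact p.Prime]
    (hS : IsPGroup p S) (F : FusionSystem S)
    (hγ : ∀ x ∈ F.hyperfocalSubgroup p, (x ^ p = 1 ∨ (p = 2 ∧ x ^ 4 = 1)) → x ≠ 1 →
      ∀ φ ∈ F.Hom (Subgroup.zpowers x), φ ⟨x, Subgroup.mem_zpowers x⟩ ∈ F.hyperfocalSubgroup p →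
      ∀ n : ℕ, x ∈ S.lowerCentralSeries n → φ ⟨x, Subgroup.mem_zpowers x⟩ ∈ S.lowerCentralSeries n)
    {P : Subgroup Ω} (hP : P ≤ S) (𝒜 : Set (MulAut P)) (hA : 𝒜 ⊆ F.autGroup P)
    (hord : ∀ α ∈ 𝒜, (orderOf α).Coprime p)
    (hconj : ∀ g ∈ F.autGroup P, ∀ α ∈ 𝒜, g * α * g⁻¹ ∈ 𝒜)
    (hc : ∀ (R : Subgroup P) (i : ℕ), (∀ g ∈ F.autGroup P, ∀ x ∈ R, g x ∈ R) →
      (∀ x ∈ R, (x : Ω) ∈ S.lowerCentralSeries i) →
      (∀ x ∈ R, (x : Ω) ∈ F.hyperfocalSubgroup p) →
      (∀ x ∈ R, x ^ p = 1 ∨ (p = 2 ∧ x ^ 4 = 1)) →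
      (∀ g ∈ F.autGroup P, ∀ x ∈ R, (x : Ω) ∈ S.lowerCentralSeries (i + 1) →
        ((g x : P) : Ω) ∈ S.lowerCentralSeries (i + 1)) →
      ∀ α ∈ 𝒜, ∀ x ∈ R, ((x⁻¹ * α x : P) : Ω) ∈ S.lowerCentralSeries (i + 1)) :
    ∀ α ∈ 𝒜, α = 1 := by
  have hfinP : Finite P :=
    Finite.of_injective (Subgroup.inclusion hP) (Subgroup.inclusion_injective hP)
  have hPp : IsPGroup p P := hS.to_le hP
  have key := coprime_family_trivial hPp {f : P →* P | ∃ g ∈ F.autGroup P, f = g.toMonoidHom}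
    {f : P →* P | ∃ α ∈ 𝒜, f = α.toMonoidHom} ?_ ?_ ?_ ?_
  · intro α hα
    apply MulEquiv.ext
    intro x
    exact key α.toMonoidHom ⟨α, hα, rfl⟩ x
  · rintro f ⟨α, hα, rfl⟩
    exact ⟨α, hA hα, rfl⟩
  · rintro f ⟨α, hα, rfl⟩
    refine ⟨orderOf α, hord α hα, fun x => ?_⟩
    show (⇑α)^[orderOf α] x = x
    rw [← mulAut_pow_apply, pow_orderOf_eq_one]
    rfl
  · rintro f ⟨g, hg, rfl⟩ f' ⟨α, hα, rfl⟩
    refine ⟨(g * α * g⁻¹).toMonoidHom, ⟨_, hconj g hg α hα, rfl⟩, fun x => ?_⟩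
    show g (α x) = (g * α * g⁻¹) (g x)
    simp [MulAut.mul_apply]
  · intro R hbot hinv hsm hgen
    have hinv' : ∀ g ∈ F.autGroup P, ∀ x ∈ R, g x ∈ R :=
      fun g hg x hx => hinv g.toMonoidHom ⟨g, hg, rfl⟩ x hx
    have hhyp : ∀ x ∈ R, (x : Ω) ∈ F.hyperfocalSubgroup p := by
      have hle : Subgroup.closure {y | ∃ α ∈ {f : P →* P | ∃ α ∈ 𝒜, f = α.toMonoidHom},
          ∃ x ∈ R, y = x⁻¹ * α x} ≤ (F.hyperfocalSubgroup p).comap P.subtype := by
        rw [Subgroup.closure_le]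
        rintro _ ⟨_, ⟨α, hα, rfl⟩, x, hx, rfl⟩
        rw [SetLike.mem_coe, Subgroup.mem_comap]
        refine Subgroup.subset_closure ⟨P, ⟨α, hA hα⟩, x, hP, Subgroup.subset_closure ?_, ?_⟩
        · show Nat.Coprime (orderOf (⟨α, hA hα⟩ : F.autGroup P)) p
          rw [Subgroup.orderOf_mk]
          exact hord α hα
        · simp
      intro x hx
      exact hle (hgen hx)
    -- nilpotency of `S`
    have hnil : Group.IsNilpotent S := hS.isNilpotent
    obtain ⟨N, hN⟩ := (Subgroup.isNilpotent_iff_lowerCentralSeries S).mp hnil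
    have hex : ∃ n, ¬ ∀ x ∈ R, (x : Ω) ∈ S.lowerCentralSeries n := by
      refine ⟨N, fun h => hbot ?_⟩
      rw [eq_bot_iff]
      intro x hx
      have h1 := h x hx
      rw [hN, Subgroup.mem_bot] at h1
      exact Subgroup.mem_bot.mpr (Subtype.ext h1)
    classical
    have hn₀ : ¬ ∀ x ∈ R, (x : Ω) ∈ S.lowerCentralSeries (Nat.find hex) := Nat.find_spec hex
    have hn₀pos : Nat.find hex ≠ 0 := by
      intro h0
      apply hn₀
      rw [h0]
      intro x _
      exact hP x.2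
    obtain ⟨i, hi⟩ : ∃ i, Nat.find hex = i + 1 := Nat.exists_eq_succ_of_ne_zero hn₀pos
    have hi1 : ∀ x ∈ R, (x : Ω) ∈ S.lowerCentralSeries i := by
      have := Nat.find_min hex (m := i) (by omega)
      exact not_not.mp this
    rw [hi] at hn₀
    have hGi : ∀ g ∈ F.autGroup P, ∀ x ∈ R, (x : Ω) ∈ S.lowerCentralSeries (i + 1) →
        ((g x : P) : Ω) ∈ S.lowerCentralSeries (i + 1) := by
      intro g hg x hx hxΓ
      by_cases hx1 : (x : Ω) = 1
      · have hx1' : x = 1 := Subtype.ext hx1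
        rw [hx1', map_one]
        exact Subgroup.one_mem _
      · obtain ⟨φ, hφ, hφx⟩ := exists_restrict_zpowers F hP hg x
        have hsmΩ : (x : Ω) ^ p = 1 ∨ (p = 2 ∧ (x : Ω) ^ 4 = 1) := small_coe (hsm x hx)
        have := hγ (x : Ω) (hhyp x hx) hsmΩ hx1 φ hφ
          (by rw [hφx]; exact hhyp _ (hinv' g hg x hx)) (i + 1) hxΓ
        rwa [hφx] at this
    refine ⟨R ⊓ (S.lowerCentralSeries (i + 1)).comap P.subtype, inf_le_left, ?_, ?_, ?_⟩
    · intro h
      apply hn₀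
      intro x hx
      have hx' : x ∈ R ⊓ (S.lowerCentralSeries (i + 1)).comap P.subtype := by rw [h]; exact hx
      exact hx'.2
    · rintro _ ⟨g, hg, rfl⟩ x ⟨hx, hxΓ⟩
      exact ⟨hinv' g hg x hx, hGi g hg x hx hxΓ⟩
    · rintro _ ⟨α, hα, rfl⟩ x hx
      exact ⟨R.mul_mem (R.inv_mem hx) (hinv' α (hA hα) x hx),
        hc R i hinv' hi1 hhyp hsm hGi α hα x hx⟩

end Cfsg.Agent.Lib.helper90
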