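import Cfsg.Agent.Lib.helper87.SubgroupSystem
import Cfsg.Agent.Lib.helper88.GroupSat

set_option autoImplicit false

namespace Cfsg.Agent.Lib.helper90

open Cfsg Cfsg.Agent.Lib.helper87

variable {G : Type*} [Group G]

/-- **The extension step for normal subsystems of group fusion systems.** Let `P` be a Sylow
`p`-subgroup of the finite group `G`, `N ⊴ G`, `T = P ∩ N` and `D = C_P(T)`. Every `n ∈ N_N(T)` acts on
`T` like some `k ∈ N` that normalizes `D`. -/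
theorem exists_normalizing_same_action [Finite G] {p : ℕ} [Fact p.Prime] (P : Sylow p G)
    (N : Subgroup G) [hN : N.Normal] {n : G} (hnN : n ∈ N)
    (hn : n ∈ Subgroup.normalizer ((((P : Subgroup G) ⊓ N : Subgroup G)) : Set G)) :
    ∃ k ∈ N, k ∈ Subgroup.normalizer ((((P : Subgroup G) ⊓
        Subgroup.centralizer ((((P : Subgroup G) ⊓ N : Subgroup G)) : Set G) : Subgroup G)) : Set G) ∧
      ∀ t ∈ ((P : Subgroup G) ⊓ N : Subgroup G), k * t * k⁻¹ = n * t * n⁻¹ := by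
  classical
  obtain ⟨T, hTdef⟩ : ∃ T : Subgroup G, T = (P : Subgroup G) ⊓ N := ⟨_, rfl⟩
  rw [← hTdef] at hn ⊢
  obtain ⟨C₀, hC₀def⟩ : ∃ C₀ : Subgroup G, C₀ = Subgroup.centralizer (T : Set G) := ⟨_, rfl⟩
  rw [← hC₀def]
  obtain ⟨D, hDdef⟩ : ∃ D : Subgroup G, D = (P : Subgroup G) ⊓ C₀ := ⟨_, rfl⟩
  rw [← hDdef]
  have hmemC₀ : ∀ c : G, c ∈ C₀ ↔ ∀ t ∈ T, t * c = c * t := by
    intro c
    rw [hC₀def, Subgroup.mem_centralizer_iff]
    rfl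
  -- `P` normalizes `T`
  have hPH : (P : Subgroup G) ≤ Subgroup.normalizer (T : Set G) := by
    intro s hs
    apply Cfsg.Agent.Lib.helper88.mem_normalizer_of_conj_mem
    intro t ht
    rw [hTdef] at ht ⊢
    exact ⟨Subgroup.mul_mem _ (Subgroup.mul_mem _ hs ht.1) (Subgroup.inv_mem _ hs),
      hN.conj_mem t ht.2 s⟩
  -- `D` is a Sylow subgroup of `C₀`
  have hC₀H : C₀ ≤ Subgroup.normalizer (T : Set G) := by
    rw [hC₀def]; exact Subgroup.centralizer_le_normalizer _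
  have hnormC₀ : ∀ h ∈ Subgroup.normalizer (T : Set G), ∀ m ∈ C₀, h * m * h⁻¹ ∈ C₀ := by
    intro h hh m hm
    have h1 := normalizer_le_normalizer_centralizer T hh
    rw [hC₀def]
    exact (Subgroup.mem_normalizer_iff.mp h1 m).mp (hC₀def ▸ hm)
  have hsylN : ∃ R : Sylow p (Subgroup.normalizer (T : Set G)),
      (R : Subgroup (Subgroup.normalizer (T : Set G))) =
        (P : Subgroup G).subgroupOf (Subgroup.normalizer (T : Set G)) :=
    sylowIn_of_le hPH le_top (sylowIn_top P)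
  have hD : ∃ R : Sylow p ↥C₀, (R : Subgroup C₀) = D.subgroupOf C₀ := by
    rw [hDdef, hC₀def]
    exact sylowIn_inf_of_normalizes hPH hsylN (Subgroup.centralizer_le_normalizer _)
      (normalizer_le_normalizer_centralizer T)
  -- the subgroup `X = C_N(T) D`
  obtain ⟨X, hXdef⟩ : ∃ X : Subgroup G, X = (N ⊓ C₀) ⊔ D := ⟨_, rfl⟩
  have hDX : D ≤ X := by rw [hXdef]; exact le_sup_right
  have hDC₀ : D ≤ C₀ := by rw [hDdef]; exact inf_le_right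
  have hXC₀ : X ≤ C₀ := by rw [hXdef]; exact sup_le inf_le_right hDC₀
  have hDX' : ∃ R : Sylow p ↥X, (R : Subgroup X) = D.subgroupOf X := sylowIn_of_le hDX hXC₀ hD
  have hDp : IsPGroup p D := by
    rw [hDdef]; exact P.isPGroup'.to_le inf_le_left
  -- `n D n⁻¹ ≤ X`
  have hnD : D.map (MulAut.conj n).toMonoidHom ≤ X := by
    rintro _ ⟨d, hd, rfl⟩
    show n * d * n⁻¹ ∈ X
    have hdC : d ∈ C₀ := hDC₀ hd
    have h1 : n * d * n⁻¹ * d⁻¹ ∈ N ⊓ C₀ := by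
      refine ⟨?_, ?_⟩
      · have h2 : d * n⁻¹ * d⁻¹ ∈ N := hN.conj_mem n⁻¹ (N.inv_mem hnN) d
        have h3 := N.mul_mem hnN h2
        have e : n * (d * n⁻¹ * d⁻¹) = n * d * n⁻¹ * d⁻¹ := by group
        rw [e] at h3
        exact h3
      · exact C₀.mul_mem (hnormC₀ n hn d hdC) (C₀.inv_mem hdC)
    have h4 : n * d * n⁻¹ * d⁻¹ * d ∈ X := by
      rw [hXdef]
      exact Subgroup.mul_mem_sup h1 hd
    have e : n * d * n⁻¹ * d⁻¹ * d = n * d * n⁻¹ := by group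
    rw [e] at h4
    exact h4
  obtain ⟨x, hxX, hx⟩ := exists_conj_le_of_sylowIn hDX' hnD (isPGroup_map_conj n hDp)
  -- decompose `x⁻¹ = c * d`
  have hnormCN : ∀ r ∈ D, ∀ t ∈ N ⊓ C₀, r * t * r⁻¹ ∈ N ⊓ C₀ := by
    intro r hr t ht
    exact ⟨hN.conj_mem t ht.1 r, C₀.mul_mem (C₀.mul_mem (hDC₀ hr) ht.2) (C₀.inv_mem (hDC₀ hr))⟩
  have hxinv : x⁻¹ ∈ (N ⊓ C₀) ⊔ D := by rw [← hXdef]; exact X.inv_mem hxX
  obtain ⟨c, hc, d, hd, hcd⟩ := Cfsg.Agent.Lib.helper89.exists_mul_of_mem_sup hnormCN hxinv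
  have hxeq : x = d⁻¹ * c⁻¹ := by
    have : x = (x⁻¹)⁻¹ := (inv_inv x).symm
    rw [this, ← hcd, mul_inv_rev]
  refine ⟨c⁻¹ * n, N.mul_mem (N.inv_mem hc.1) hnN, ?_, ?_⟩
  · have hfinD : Finite D := inferInstance
    apply Cfsg.Agent.Lib.helper88.mem_normalizer_of_conj_mem
    intro d' hd'
    have h1 : x * (n * d' * n⁻¹) * x⁻¹ ∈ D := hx ⟨n * d' * n⁻¹, ⟨d', hd', rfl⟩, rfl⟩
    have h2 : d * (x * (n * d' * n⁻¹) * x⁻¹) * d⁻¹ ∈ D := D.mul_mem (D.mul_mem hd h1) (D.inv_mem hd)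
    have e : d * (x * (n * d' * n⁻¹) * x⁻¹) * d⁻¹ = c⁻¹ * n * d' * (c⁻¹ * n)⁻¹ := by
      rw [hxeq]; group
    rw [e] at h2
    exact h2
  · intro t ht
    have hnt : n * t * n⁻¹ ∈ T := (Subgroup.mem_normalizer_iff.mp hn t).mp ht
    have hcc : c⁻¹ ∈ C₀ := C₀.inv_mem hc.2
    have h1 := (hmemC₀ c⁻¹).mp hcc (n * t * n⁻¹) hnt
    calc c⁻¹ * n * t * (c⁻¹ * n)⁻¹ = c⁻¹ * (n * t * n⁻¹) * c := by group
      _ = n * t * n⁻¹ * c⁻¹ * c := by rw [← h1]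
      _ = n * t * n⁻¹ := by group

end Cfsg.Agent.Lib.helper90
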