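import Mathlib
import Cfsg.Prelude.Def_OddOrderLocal

/-!
# S1383 split, piece CY (`cyclic_cent`)

A `p'`-element normalizing a cyclic (indeed any abelian) `p`-group `C` and centralizing its
elements of order dividing `p` centralizes `C`.
-/

set_option autoImplicit false

namespace Cfsg.Agent.Lib.helper90.TV

open Cfsg Subgroup

variable {G : Type*} [Group G]

/-- Abelian version: a `p'`-element `k` normalizing an abelian `p`-group `C` and centralizing
all `x ∈ C` with `x ^ p = 1` centralizes `C`. -/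
theorem h90_abelian_cent [Finite G] (p : ℕ) [Fact p.Prime] (C : Subgroup G) (hC : IsPGroup p ↥C)
    (hCa : ∀ a ∈ C, ∀ b ∈ C, a * b = b * a) (k : G) (hk : k ∈ normalizer (C : Set G))
    (hcop : (orderOf k).Coprime p)
    (h1 : ∀ x ∈ C, x ^ p = 1 → k * x = x * k) : ∀ x ∈ C, k * x = x * k := by
  have hp : p.Prime := Fact.out
  -- conjugation by `k` preserves `C`
  have hconj : ∀ x ∈ C, k * x * k⁻¹ ∈ C := fun x hx =>
    (Subgroup.mem_normalizer_iff.mp hk x).mp hx
  by_contra hne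
  push Not at hne
  obtain ⟨x, hxC, hx⟩ := hne
  -- the commutator
  set y : G := k * x * k⁻¹ * x⁻¹ with hy
  have hyC : y ∈ C := C.mul_mem (hconj x hxC) (C.inv_mem hxC)
  have hy1 : y ≠ 1 := by
    intro h
    apply hx
    have : k * x * k⁻¹ = x := by
      have := congrArg (· * x) h
      simpa [hy] using this
    calc k * x = k * x * k⁻¹ * k := by group
      _ = x * k := by rw [this]
  -- order of `y` is `p ^ j`, `j ≥ 1`
  obtain ⟨j, hj⟩ : ∃ j, orderOf y = p ^ j := by
    obtain ⟨j, hj⟩ := (IsPGroup.iff_orderOf.mp hC) ⟨y, hyC⟩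
    refine ⟨j, ?_⟩
    rw [← hj]
    exact (Subgroup.orderOf_mk y hyC).symm
  have hj0 : j ≠ 0 := by
    rintro rfl
    rw [pow_zero, orderOf_eq_one_iff] at hj
    exact hy1 hj
  obtain ⟨i, rfl⟩ : ∃ i, j = i + 1 := ⟨j - 1, by omega⟩
  -- powers
  have hpowcomm : ∀ n : ℕ, k * x ^ n * k⁻¹ * (x ^ n)⁻¹ = y ^ n := by
    intro n
    have hc : Commute (k * x * k⁻¹) x⁻¹ := hCa _ (hconj x hxC) _ (C.inv_mem hxC)
    have e1 : k * x ^ n * k⁻¹ = (k * x * k⁻¹) ^ n := by
      rw [conj_pow]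
    rw [e1, ← inv_pow, ← hc.mul_pow]
  set x' : G := x ^ (p ^ i) with hx'
  set w : G := y ^ (p ^ i) with hw
  have hx'C : x' ∈ C := C.pow_mem hxC _
  have hwC : w ∈ C := C.pow_mem hyC _
  have hwx : k * x' * k⁻¹ * x'⁻¹ = w := hpowcomm _
  have hwp : w ^ p = 1 := by
    rw [hw, ← pow_mul, ← pow_succ, ← hj, pow_orderOf_eq_one]
  have hw1 : w ≠ 1 := by
    intro h
    have hdvd : orderOf y ∣ p ^ i := orderOf_dvd_of_pow_eq_one h
    rw [hj] at hdvd
    have := (Nat.pow_dvd_pow_iff_le_right hp.one_lt).mp hdvd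
    omega
  have hkw : k * w = w * k := h1 w hwC hwp
  have hkx' : k * x' * k⁻¹ = w * x' := by
    rw [← hwx]; group
  have hkwc : k * w * k⁻¹ = w := by
    rw [hkw]; group
  -- iterate
  have hiter : ∀ n : ℕ, k ^ n * x' * (k ^ n)⁻¹ = w ^ n * x' := by
    intro n
    induction n with
    | zero => simp
    | succ n ih =>
      have e : k ^ (n + 1) * x' * (k ^ (n + 1))⁻¹ = k * (k ^ n * x' * (k ^ n)⁻¹) * k⁻¹ := by
        rw [pow_succ']; group
      rw [e, ih]
      have e2 : k * (w ^ n * x') * k⁻¹ = (k * w * k⁻¹) ^ n * (k * x' * k⁻¹) := by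
        rw [conj_pow]; group
      rw [e2, hkwc, hkx', pow_succ, mul_assoc]
  have hm := hiter (orderOf k)
  rw [pow_orderOf_eq_one] at hm
  have hwm : w ^ orderOf k = 1 := by
    have : x' = w ^ orderOf k * x' := by simpa using hm
    exact (mul_eq_right.mp this.symm)
  have h1' : orderOf w ∣ orderOf k := orderOf_dvd_of_pow_eq_one hwm
  have h2' : orderOf w ∣ p := orderOf_dvd_of_pow_eq_one hwp
  have h3 : orderOf w ∣ 1 := by
    have := Nat.dvd_gcd h1' h2'
    rwa [Nat.Coprime.gcd_eq_one hcop] at this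
  exact hw1 (orderOf_eq_one_iff.mp (Nat.dvd_one.mp h3))

/-- **CY** (pure). A `p'`-element normalizing a cyclic `p`-group `C` and centralizing its elements
of order dividing `p` centralizes `C`. -/
theorem cyclic_cent [Finite G] (p : ℕ) [Fact p.Prime] (C : Subgroup G) (hC : IsPGroup p ↥C)
    (hCc : IsCyclic ↥C) (k : G) (hk : k ∈ normalizer (C : Set G)) (hcop : (orderOf k).Coprime p)
    (h1 : ∀ x ∈ C, x ^ p = 1 → k * x = x * k) : ∀ x ∈ C, k * x = x * k := by
  refine h90_abelian_cent p C hC ?_ k hk hcop h1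
  intro a ha b hb
  have hc : IsMulCommutative ↥C := IsCyclic.isMulCommutative
  have h : (⟨a, ha⟩ : ↥C) * ⟨b, hb⟩ = ⟨b, hb⟩ * ⟨a, ha⟩ := hc.is_comm.comm _ _
  exact congrArg Subtype.val h

end Cfsg.Agent.Lib.helper90.TV
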