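import Mathlib
import Cfsg.Prelude.Def_OddOrderLocal
import Cfsg.Agent.Lib.helper6.TV_X1

/-!
# S1383 split, piece X3 (`p3_eigen`)

`P` non-abelian of order `p ^ 3`, `Z = Z(P) ≤ A ≤ P`, `|A| = p ^ 2`; `h` normalizes `P` and `A`,
centralizes `Z`, has odd order prime to `p` and does not centralize `P`.  Then every
`g ∈ N_G(P)` commuting with `h` normalizes `A`.
-/

set_option autoImplicit false

namespace Cfsg.Agent.Lib.helper90.TV

open Cfsg Subgroup

/-- Abstract core: `P` of order `p ^ 3` with centre of order `p`, `P / Z(P)` of order `p ^ 2` and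
exponent `p`; `A ≥ Z(P)` of order `p ^ 2`; `α`, `β` commuting endomorphisms, `α` stabilizing `A`
and fixing `Z(P)` pointwise, `β` stabilizing `Z(P)`.  Then `β` stabilizes `A`, or `α ∘ α` is
trivial modulo `Z(P)`. -/
theorem h90_eigen_abstract {P : Type*} [Group P] [Finite P] (p : ℕ) [Fact p.Prime]
    (hP : Nat.card P = p ^ 3) (hna : ¬ IsMulCommutative P)
    (hZ : Nat.card (Subgroup.center P) = p) (hQ : Nat.card (P ⧸ Subgroup.center P) = p ^ 2)
    (hexp : ∀ x : P, x ^ p ∈ Subgroup.center P)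
    (A : Subgroup P) (hZA : Subgroup.center P ≤ A) (hA : Nat.card A = p ^ 2) (α β : P →* P)
    (hαA : ∀ x ∈ A, α x ∈ A) (hαβ : ∀ x, α (β x) = β (α x))
    (hαZ : ∀ z ∈ Subgroup.center P, α z = z)
    (hβZ : ∀ z ∈ Subgroup.center P, β z ∈ Subgroup.center P) :
    (∀ x ∈ A, β x ∈ A) ∨ (∀ x, ∃ w ∈ Subgroup.center P, α (α x) = w * x) := by
  have hp : p.Prime := Fact.out
  set Z := Subgroup.center P with hZdef
  set π : P →* P ⧸ Z := QuotientGroup.mk' Z with hπdef
  have hπ : ∀ x y : P, π x = π y ↔ x⁻¹ * y ∈ Z := fun x y => QuotientGroup.eq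
  have hπ1 : ∀ x : P, π x = 1 ↔ x ∈ Z := fun x => QuotientGroup.eq_one_iff x
  have hQc : ∀ a b : P ⧸ Z, Commute a b :=
    (IsPGroup.isMulCommutative_of_card_eq_prime_sq hQ).is_comm.comm
  have hQp : ∀ q : P ⧸ Z, q ^ p = 1 := by
    intro q
    obtain ⟨x, rfl⟩ := QuotientGroup.mk_surjective q
    have : π (x ^ p) = 1 := (hπ1 _).mpr (hexp x)
    rw [map_pow] at this
    exact this
  have hcen : ∀ z ∈ Z, ∀ w : P, w * z = z * w := fun z hz w => Subgroup.mem_center_iff.mp hz w
  -- pick `a ∈ A \ Z`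
  obtain ⟨a, haA, haZ⟩ : ∃ a ∈ A, a ∉ Z := by
    by_contra hcon
    push Not at hcon
    have hle : A ≤ Z := hcon
    have := Subgroup.card_le_of_le hle
    rw [hA, hZ] at this
    have := hp.one_lt
    nlinarith
  -- `A = Z ⊔ ⟨a⟩`
  have hT : Z ⊔ Subgroup.zpowers a = A := by
    have hle : Z ⊔ Subgroup.zpowers a ≤ A :=
      sup_le hZA (by rw [Subgroup.zpowers_le]; exact haA)
    apply Subgroup.eq_of_le_of_card_ge hle
    have h1 : Nat.card Z ∣ Nat.card ↥(Z ⊔ Subgroup.zpowers a) :=
      Subgroup.card_dvd_of_le le_sup_left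
    have h2 : Nat.card ↥(Z ⊔ Subgroup.zpowers a) ∣ Nat.card A := Subgroup.card_dvd_of_le hle
    rw [hZ] at h1
    rw [hA] at h2 ⊢
    obtain ⟨k, hk2, hk⟩ := (Nat.dvd_prime_pow hp).mp h2
    interval_cases k
    · exfalso
      rw [hk, pow_zero] at h1
      have := Nat.le_of_dvd one_pos h1
      have := hp.one_lt
      omega
    · exfalso
      have : Z = Z ⊔ Subgroup.zpowers a :=
        Subgroup.eq_of_le_of_card_ge le_sup_left (by rw [hk, hZ, pow_one])
      apply haZ
      rw [this]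
      exact Subgroup.mem_sup_right (Subgroup.mem_zpowers a)
    · rw [hk]
  -- the eigenvalue
  obtain ⟨l, hl⟩ : ∃ l : ℕ, π (α a) = π a ^ l := by
    have h1 : α a ∈ Z ⊔ Subgroup.zpowers a := by rw [hT]; exact hαA a haA
    have h2 : π (α a) ∈ (Z ⊔ Subgroup.zpowers a).map π := Subgroup.mem_map_of_mem π h1
    have h3 : Z.map π = ⊥ := by
      rw [Subgroup.map_eq_bot_iff, hπdef, QuotientGroup.ker_mk']
    rw [Subgroup.map_sup, MonoidHom.map_zpowers, h3, bot_sup_eq] at h2
    rw [← mem_powers_iff_mem_zpowers] at h2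
    obtain ⟨n, hn⟩ := (Submonoid.mem_powers_iff _ _).mp h2
    exact ⟨n, hn.symm⟩
  -- the eigen-subgroup
  let E : Subgroup P :=
    { carrier := {x | π (α x) = π x ^ l}
      one_mem' := by simp
      mul_mem' := by
        intro x y hx hy
        simp only [Set.mem_ofPred_eq] at hx hy ⊢
        rw [map_mul, map_mul, hx, hy, map_mul, (hQc (π x) (π y)).mul_pow]
      inv_mem' := by
        intro x hx
        simp only [Set.mem_ofPred_eq] at hx ⊢
        rw [map_inv, map_inv, hx, map_inv, inv_pow] }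
  have hEmem : ∀ x : P, x ∈ E ↔ π (α x) = π x ^ l := fun x => Iff.rfl
  have hZE : Z ≤ E := by
    intro z hz
    rw [hEmem, hαZ z hz, (hπ1 z).mpr hz, one_pow]
  have haE : a ∈ E := hl
  have hAE : A ≤ E := by
    rw [← hT]
    exact sup_le hZE (by rw [Subgroup.zpowers_le]; exact haE)
  by_cases hEA : E = A
  · left
    intro x hx
    have hxE : x ∈ E := hAE hx
    rw [← hEA, hEmem, hαβ]
    have hβπ : ∀ y y' : P, π y = π y' → π (β y) = π (β y') := by
      intro y y' h
      rw [hπ] at h ⊢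
      have := hβZ _ h
      simpa [map_mul, map_inv] using this
    have h1 : π (α x) = π (x ^ l) := by rw [map_pow]; exact hxE
    rw [hβπ _ _ h1, map_pow, map_pow]
  · right
    have hEtop : E = ⊤ := by
      have h1 : Nat.card A ∣ Nat.card E := Subgroup.card_dvd_of_le hAE
      have h2 : Nat.card E ∣ Nat.card P := Subgroup.card_subgroup_dvd_card E
      rw [hA] at h1
      rw [hP] at h2
      obtain ⟨k, hk3, hk⟩ := (Nat.dvd_prime_pow hp).mp h2
      have hk2 : 2 ≤ k := by
        rw [hk] at h1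
        exact (Nat.pow_dvd_pow_iff_le_right hp.one_lt).mp h1
      have hk23 : k = 2 ∨ k = 3 := by omega
      rcases hk23 with rfl | rfl
      · exfalso
        apply hEA
        exact (Subgroup.eq_of_le_of_card_ge hAE (by rw [hk, hA])).symm
      · exact Subgroup.eq_top_of_card_eq E (by rw [hk, hP])
    have hall : ∀ x : P, π (α x) = π x ^ l := fun x => by
      have : x ∈ E := by rw [hEtop]; trivial
      exact this
    have hrep : ∀ x : P, ∃ z ∈ Z, α x = x ^ l * z := by
      intro x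
      have h := hall x
      rw [← map_pow, eq_comm, hπ] at h
      exact ⟨(x ^ l)⁻¹ * α x, h, by group⟩
    -- commutators are central
    have hcomZ : ∀ u v : P, u * v * u⁻¹ * v⁻¹ ∈ Z := by
      intro u v
      rw [← hπ1]
      simp only [map_mul, map_inv]
      rw [(hQc (π u) (π v)).eq]
      group
    -- commutator power lemmas
    have hpowL : ∀ (u v : P) (n : ℕ),
        u ^ n * v * (u ^ n)⁻¹ * v⁻¹ = (u * v * u⁻¹ * v⁻¹) ^ n := by
      intro u v n
      induction n with
      | zero => simp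
      | succ n ih =>
        have e : u ^ (n + 1) * v * (u ^ (n + 1))⁻¹ * v⁻¹
            = u * (u ^ n * v * (u ^ n)⁻¹ * v⁻¹) * (v * u⁻¹ * v⁻¹) := by
          rw [pow_succ']; group
        have hdn : (u * v * u⁻¹ * v⁻¹) ^ n ∈ Z := Z.pow_mem (hcomZ u v) n
        rw [e, ih, hcen _ hdn u, pow_succ, mul_assoc]
        congr 1
        group
    have hpowR : ∀ (u v : P) (n : ℕ),
        u * v ^ n * u⁻¹ * (v ^ n)⁻¹ = (u * v * u⁻¹ * v⁻¹) ^ n := by
      intro u v n
      have h1 := hpowL v u n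
      have e1 : u * v ^ n * u⁻¹ * (v ^ n)⁻¹ = (v ^ n * u * (v ^ n)⁻¹ * u⁻¹)⁻¹ := by group
      have e2 : u * v * u⁻¹ * v⁻¹ = (v * u * v⁻¹ * u⁻¹)⁻¹ := by group
      rw [e1, h1, e2, inv_pow]
    -- conjugation by an element times a central element
    have k1 : ∀ z ∈ Z, ∀ u w : P, (u * z) * w * (u * z)⁻¹ = u * w * u⁻¹ := by
      intro z hz u w
      have := hcen z hz w
      calc (u * z) * w * (u * z)⁻¹ = u * (z * w) * z⁻¹ * u⁻¹ := by group
        _ = u * (w * z) * z⁻¹ * u⁻¹ := by rw [this]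
        _ = u * w * u⁻¹ := by group
    have k2 : ∀ z ∈ Z, ∀ z' ∈ Z, ∀ u v : P,
        (u * z) * (v * z') * (u * z)⁻¹ * (v * z')⁻¹ = u * v * u⁻¹ * v⁻¹ := by
      intro z hz z' hz' u v
      rw [k1 z hz]
      have := hcen z' hz' u⁻¹
      calc u * (v * z') * u⁻¹ * (v * z')⁻¹ = u * v * (z' * u⁻¹) * z'⁻¹ * v⁻¹ := by group
        _ = u * v * (u⁻¹ * z') * z'⁻¹ * v⁻¹ := by rw [this]
        _ = u * v * u⁻¹ * v⁻¹ := by group
    -- a non-commuting pair
    obtain ⟨x, y, hxy⟩ : ∃ x y : P, x * y ≠ y * x := by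
      by_contra hcon
      push Not at hcon
      exact hna ⟨⟨hcon⟩⟩
    set c := x * y * x⁻¹ * y⁻¹ with hc
    have hc1 : c ≠ 1 := by
      intro h
      apply hxy
      calc x * y = (x * y * x⁻¹ * y⁻¹) * (y * x) := by group
        _ = y * x := by rw [← hc, h, one_mul]
    have hcZ : c ∈ Z := hcomZ x y
    obtain ⟨zx, hzx, hαx⟩ := hrep x
    obtain ⟨zy, hzy, hαy⟩ := hrep y
    have hαc : α c = c ^ (l * l) := by
      have e1 : α c = α x * α y * (α x)⁻¹ * (α y)⁻¹ := by
        rw [hc]; simp only [map_mul, map_inv]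
      rw [e1, hαx, hαy, k2 zx hzx zy hzy, hpowL, hpowR, ← pow_mul]
    have hαc' : α c = c := hαZ c hcZ
    have hmod : l * l ≡ 1 [MOD p] := by
      have hoc : orderOf c = p := by
        have h1 : orderOf c ∣ p := by
          have := Subgroup.orderOf_dvd_natCard Z hcZ
          rwa [hZ] at this
        rcases (Nat.dvd_prime hp).mp h1 with h | h
        · exact absurd (orderOf_eq_one_iff.mp h) hc1
        · exact h
      have : c ^ (l * l) = c ^ 1 := by rw [pow_one, ← hαc, hαc']
      rw [pow_eq_pow_iff_modEq, hoc] at this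
      exact this
    intro x
    have h1 : π (α (α x)) = π x := by
      rw [hall, hall, ← pow_mul]
      have ho : orderOf (π x) ∣ p := orderOf_dvd_of_pow_eq_one (hQp _)
      have : π x ^ (l * l) = π x ^ 1 := by
        rw [pow_eq_pow_iff_modEq]
        exact hmod.of_dvd ho
      rw [this, pow_one]
    have h2 : x⁻¹ * α (α x) ∈ Z := (hπ _ _).mp h1.symm
    exact ⟨x⁻¹ * α (α x), h2, by rw [← hcen _ h2 x]; group⟩

variable {G : Type*} [Group G]

/-- conjugation by a normalizing element, as an endomorphism of `↥P` -/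
def h90conj (P : Subgroup G) (h : G) (hh : h ∈ normalizer (P : Set G)) : ↥P →* ↥P where
  toFun x := ⟨h * x * h⁻¹, (Subgroup.mem_normalizer_iff.mp hh x).mp x.2⟩
  map_one' := by ext; simp
  map_mul' x y := by ext; simp

theorem h90conj_coe (P : Subgroup G) (h : G) (hh : h ∈ normalizer (P : Set G)) (x : ↥P) :
    ((h90conj P h hh x : ↥P) : G) = h * x * h⁻¹ := rfl

theorem h90_mem_center_iff (P : Subgroup G) (x : ↥P) :
    x ∈ Subgroup.center ↥P ↔ (x : G) ∈ P ⊓ centralizer (P : Set G) := by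
  constructor
  · intro hx
    refine Subgroup.mem_inf.mpr ⟨x.2, ?_⟩
    rw [Subgroup.mem_centralizer_iff]
    intro y hy
    have := Subgroup.mem_center_iff.mp hx ⟨y, hy⟩
    exact congrArg Subtype.val this
  · intro hx'
    have hxc := (Subgroup.mem_inf.mp hx').2
    rw [Subgroup.mem_center_iff]
    intro y
    apply Subtype.ext
    exact (Subgroup.mem_centralizer_iff.mp hxc) y y.2

theorem h90_iter_conj (k x w : G) (hkx : k * x * k⁻¹ = w * x) (hkw : k * w = w * k) (n : ℕ) :
    k ^ n * x * (k ^ n)⁻¹ = w ^ n * x := by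
  have hkwc : k * w * k⁻¹ = w := by rw [hkw]; group
  induction n with
  | zero => simp
  | succ n ih =>
    have e : k ^ (n + 1) * x * (k ^ (n + 1))⁻¹ = k * (k ^ n * x * (k ^ n)⁻¹) * k⁻¹ := by
      rw [pow_succ']; group
    rw [e, ih]
    have e2 : k * (w ^ n * x) * k⁻¹ = (k * w * k⁻¹) ^ n * (k * x * k⁻¹) := by
      rw [conj_pow]; group
    rw [e2, hkwc, hkx, pow_succ, mul_assoc]

theorem h90_cent_of_conj (p : ℕ) (k x w : G) (hkx : k * x * k⁻¹ = w * x) (hkw : k * w = w * k)
    (m : ℕ) (hk : k ^ m = 1) (hw : w ^ p = 1) (hcop : m.Coprime p) : k * x = x * k := by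
  have hm := h90_iter_conj k x w hkx hkw m
  rw [hk] at hm
  have hwm : w ^ m = 1 := by
    have : x = w ^ m * x := by simpa using hm
    exact mul_eq_right.mp this.symm
  have h1 : orderOf w ∣ m := orderOf_dvd_of_pow_eq_one hwm
  have h2 : orderOf w ∣ p := orderOf_dvd_of_pow_eq_one hw
  have h3 : orderOf w ∣ 1 := by
    have := Nat.dvd_gcd h1 h2
    rwa [Nat.Coprime.gcd_eq_one hcop] at this
  have hw1 : w = 1 := orderOf_eq_one_iff.mp (Nat.dvd_one.mp h3)
  rw [hw1, one_mul] at hkx
  calc k * x = k * x * k⁻¹ * k := by group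
    _ = x * k := by rw [hkx]

/-- **X3** (pure). `P` non-abelian of order `p ^ 3`, `Z = Z(P) ≤ A ≤ P` with `|A| = p ^ 2`.
Let `h` normalize `P` and `A`, centralize `Z`, have odd order prime to `p`, and NOT centralize `P`.
Then every `g ∈ N_G(P)` commuting with `h` normalizes `A`. -/
theorem p3_eigen [Finite G] (p : ℕ) [Fact p.Prime] (P A : Subgroup G) (hP : Nat.card P = p ^ 3)
    (hPna : ¬ IsMulCommutative ↥P) (hZA : P ⊓ centralizer (P : Set G) ≤ A) (hAP : A ≤ P)
    (hA : Nat.card A = p ^ 2) (h g : G) (hhP : h ∈ normalizer (P : Set G))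
    (hgP : g ∈ normalizer (P : Set G)) (hhA : h ∈ normalizer (A : Set G)) (hhg : h * g = g * h)
    (hhZ : ∀ z ∈ P ⊓ centralizer (P : Set G), h * z = z * h)
    (hodd : Odd (orderOf h)) (hcop : (orderOf h).Coprime p)
    (hnc : ¬ ∀ x ∈ P, h * x = x * h) : g ∈ normalizer (A : Set G) := by
  have hp : p.Prime := Fact.out
  obtain ⟨hZcard, hQcard, -⟩ := Cfsg.Agent.Lib.helper6.TV.helper6_p3_core p P hP hPna
  obtain ⟨hZc, hexp, -⟩ := Cfsg.Agent.Lib.helper6.TV.p3_struct p P hP hPna
  have key : ∀ g' : G, g' ∈ normalizer (P : Set G) → h * g' = g' * h →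
      ∀ x ∈ A, g' * x * g'⁻¹ ∈ A := by
    intro g' hg'P hhg'
    have hmain := h90_eigen_abstract (P := ↥P) p hP hPna hZcard hQcard
      (fun x => (h90_mem_center_iff P _).mpr (by simpa using hexp x x.2))
      (A.subgroupOf P)
      (fun z hz => Subgroup.mem_subgroupOf.mpr (hZA ((h90_mem_center_iff P z).mp hz)))
      (by rw [Nat.card_congr (Subgroup.subgroupOfEquivOfLe hAP).toEquiv]; exact hA)
      (h90conj P h hhP) (h90conj P g' hg'P)
      (fun x hx => Subgroup.mem_subgroupOf.mpr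
        ((Subgroup.mem_normalizer_iff.mp hhA x).mp (Subgroup.mem_subgroupOf.mp hx)))
      (by
        intro x
        apply Subtype.ext
        show h * (g' * x * g'⁻¹) * h⁻¹ = g' * (h * x * h⁻¹) * g'⁻¹
        calc h * (g' * x * g'⁻¹) * h⁻¹ = (h * g') * x * (h * g')⁻¹ := by group
          _ = (g' * h) * x * (g' * h)⁻¹ := by rw [hhg']
          _ = g' * (h * x * h⁻¹) * g'⁻¹ := by group)
      (by
        intro z hz
        apply Subtype.ext
        show h * z * h⁻¹ = z
        rw [hhZ _ ((h90_mem_center_iff P z).mp hz)]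
        group)
      (by
        intro z hz
        rw [h90_mem_center_iff]
        obtain ⟨hzP, hzc⟩ := Subgroup.mem_inf.mp ((h90_mem_center_iff P z).mp hz)
        refine Subgroup.mem_inf.mpr ⟨(h90conj P g' hg'P z).2, ?_⟩
        rw [Subgroup.mem_centralizer_iff]
        intro w hw
        show w * (g' * z * g'⁻¹) = g' * z * g'⁻¹ * w
        have hw' : g'⁻¹ * w * g' ∈ P := by
          have := (Subgroup.mem_normalizer_iff.mp (inv_mem hg'P) w).mp hw
          simpa using this
        have := (Subgroup.mem_centralizer_iff.mp hzc) _ hw'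
        calc w * (g' * z * g'⁻¹) = g' * (g'⁻¹ * w * g' * z) * g'⁻¹ := by group
          _ = g' * (z * (g'⁻¹ * w * g')) * g'⁻¹ := by rw [this]
          _ = g' * z * g'⁻¹ * w := by group)
    rcases hmain with h1 | h2
    · intro x hx
      have := h1 ⟨x, hAP hx⟩ (Subgroup.mem_subgroupOf.mpr hx)
      exact Subgroup.mem_subgroupOf.mp this
    · exfalso
      apply hnc
      intro x hx
      obtain ⟨w, hw, hwx⟩ := h2 ⟨x, hx⟩
      have hwx' : h * (h * x * h⁻¹) * h⁻¹ = w * x := congrArg Subtype.val hwx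
      have hwZ : (w : G) ∈ P ⊓ centralizer (P : Set G) := (h90_mem_center_iff P w).mp hw
      have hhw : h * w = w * h := hhZ _ hwZ
      have hkx : (h * h) * x * (h * h)⁻¹ = w * x := by
        rw [← hwx']; group
      have hkw : (h * h) * (w : G) = w * (h * h) := by
        rw [mul_assoc, hhw, ← mul_assoc, hhw, mul_assoc]
      have hk : (h * h) ^ orderOf h = 1 := by
        rw [(Commute.refl h).mul_pow, pow_orderOf_eq_one, one_mul]
      have hwp : (w : G) ^ p = 1 := by
        have := Subgroup.orderOf_dvd_natCard _ hwZ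
        rw [hZc] at this
        exact orderOf_dvd_iff_pow_eq_one.mp this
      have hc2 : (h * h) * x = x * (h * h) :=
        h90_cent_of_conj p (h * h) x w hkx hkw (orderOf h) hk hwp hcop
      obtain ⟨t, ht⟩ := hodd
      have hh : (h * h) ^ (t + 1) = h := by
        rw [← pow_two, ← pow_mul]
        have : 2 * (t + 1) = orderOf h + 1 := by omega
        rw [this, pow_succ, pow_orderOf_eq_one, one_mul]
      have hc3 : Commute ((h * h) ^ (t + 1)) x := (show Commute (h * h) x from hc2).pow_left _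
      rw [hh] at hc3
      exact hc3
  rw [Subgroup.mem_normalizer_iff]
  intro x
  constructor
  · exact key g hgP hhg x
  · intro hx
    have hhg' : h * g⁻¹ = g⁻¹ * h := by
      calc h * g⁻¹ = g⁻¹ * (g * h) * g⁻¹ := by group
        _ = g⁻¹ * (h * g) * g⁻¹ := by rw [hhg]
        _ = g⁻¹ * h := by group
    have := key g⁻¹ (inv_mem hgP) hhg' _ hx
    simpa [mul_assoc] using this

end Cfsg.Agent.Lib.helper90.TV
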