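import Cfsg.Agent.Lib.helper81.WTDefs
import Cfsg.Agent.Lib.helper46.WTSUPPT

/-!
# S4414, piece SUPP: supports transform under the group
(canonical Skel name; the proof is the landed prefixed copy `helper46_supp_smul`)
-/

set_option autoImplicit false

namespace Cfsg.Agent.Lib.helper81.WT

open scoped TensorProduct

universe u v w

/-- [SUPP] supports transform under the group; uses PE -/
theorem supp_smul {S : Type u} [Group S] [Finite S] {F : Type w} [Field F] [Finite F] [CharP F 2]
    {V : Type v} [AddCommGroup V] [Module F V]
    (R : Representation F S V) (Y : Subgroup S) [Y.Normal] [Fintype ↥Y]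
    (g : S) (v : V) : supp R Y (R g v) = cj Y g '' supp R Y v :=
  helper46_supp_smul R Y g v

end Cfsg.Agent.Lib.helper81.WT
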