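import Mathlib

set_option autoImplicit false

namespace Cfsg.Agent.Lib.helper90

/-- PIECE G of B-G Theorem 3.6 (the `p`-group kernel step): if `H / N₀` has a chain
`N₀ ≤ L ≤ M ≤ H` with factors `p'`, `p`, `p'`, where `N₀ ≤ V`, `V` is the largest normal
`p`-subgroup of `H`, `C_H(V) ≤ V`, and every `p'`-element of `H` centralizing `V / N₀`
centralizes `V`, then `H / V` is a `p'`-group. -/
theorem coprime_relIndex_of_chain {G : Type*} [Group G] [Finite G] {p : ℕ} [Fact p.Prime]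
    (H V N₀ L M : Subgroup G) (hVH : V ≤ H) (hVn : H ≤ Subgroup.normalizer (V : Set G))
    (hVp : IsPGroup p V)
    (hVmax : ∀ T : Subgroup G, T ≤ H → H ≤ Subgroup.normalizer (T : Set G) → IsPGroup p T →
      T ≤ V)
    (hCV : H ⊓ Subgroup.centralizer (V : Set G) ≤ V) (hN₀V : N₀ ≤ V)
    (hB : ∀ b ∈ H, (orderOf b).Coprime p → (∀ v ∈ V, b * v * b⁻¹ * v⁻¹ ∈ N₀) →
      b ∈ Subgroup.centralizer (V : Set G))
    (h : N₀ ≤ L ∧ L ≤ M ∧ M ≤ H ∧ H ≤ Subgroup.normalizer (L : Set G) ∧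
      H ≤ Subgroup.normalizer (M : Set G) ∧ (N₀.relIndex L).Coprime p ∧
      (∃ m : ℕ, L.relIndex M = p ^ m) ∧ (M.relIndex H).Coprime p) :
    (V.relIndex H).Coprime p := by
  obtain ⟨hN₀L, hLM, hMH, hLn, hMn, hc1, ⟨m, hm⟩, hc2⟩ := h
  have hp : p.Prime := Fact.out
  have hLH : L ≤ H := hLM.trans hMH
  -- (1) `V ⊓ L ≤ N₀`
  have h1 : V ⊓ L ≤ N₀ := by
    rw [← Subgroup.relIndex_eq_one]
    have hle : N₀ ≤ V ⊓ L := le_inf hN₀V hN₀L
    have hd1 : N₀.relIndex (V ⊓ L) ∣ N₀.relIndex L :=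
      Dvd.intro _ (Subgroup.relIndex_mul_relIndex N₀ (V ⊓ L) L hle inf_le_right)
    have hd2 : N₀.relIndex (V ⊓ L) ∣ Nat.card V :=
      (Dvd.intro _ (Subgroup.relIndex_mul_relIndex N₀ (V ⊓ L) V hle inf_le_left)).trans
        (Subgroup.relIndex_dvd_card N₀ V)
    obtain ⟨k, hk⟩ := IsPGroup.iff_card.mp hVp
    rw [hk] at hd2
    have hcop : (N₀.relIndex (V ⊓ L)).Coprime (p ^ k) := (hc1.coprime_dvd_left hd1).pow_right k
    exact hcop.eq_one_of_dvd hd2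
  -- (2) `p'`-elements of `L` are trivial
  have h2 : ∀ b ∈ L, (orderOf b).Coprime p → b = 1 := by
    intro b hb hbc
    have hbH : b ∈ H := hLH hb
    have hcomm : ∀ v ∈ V, b * v * b⁻¹ * v⁻¹ ∈ N₀ := by
      intro v hv
      apply h1
      refine ⟨?_, ?_⟩
      · have h3 : b * v * b⁻¹ ∈ V := ((Subgroup.mem_normalizer_iff.mp (hVn hbH)) v).mp hv
        exact V.mul_mem h3 (V.inv_mem hv)
      · have h3 : v * b⁻¹ * v⁻¹ ∈ L :=
          ((Subgroup.mem_normalizer_iff.mp (hLn (hVH hv))) b⁻¹).mp (L.inv_mem hb)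
        have e : b * v * b⁻¹ * v⁻¹ = b * (v * b⁻¹ * v⁻¹) := by group
        rw [e]; exact L.mul_mem hb h3
    have hbV : b ∈ V := hCV ⟨hbH, hB b hbH hbc hcomm⟩
    obtain ⟨k, hk⟩ := hVp ⟨b, hbV⟩
    have hk' : b ^ p ^ k = 1 := by simpa using congrArg Subtype.val hk
    have hd : orderOf b ∣ p ^ k := orderOf_dvd_of_pow_eq_one hk'
    have h4 : orderOf b = 1 := (hbc.pow_right k).eq_one_of_dvd hd
    exact orderOf_eq_one_iff.mp h4
  -- (3) `L` is a `p`-group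
  have hLp : IsPGroup p L := by
    rintro ⟨x, hx⟩
    obtain ⟨k, m', hm', hn⟩ :=
      Nat.exists_eq_pow_mul_and_not_dvd (orderOf_pos x).ne' p hp.ne_one
    refine ⟨k, Subtype.ext ?_⟩
    show x ^ p ^ k = 1
    apply h2 _ (L.pow_mem hx _)
    have hd : orderOf (x ^ p ^ k) ∣ m' := by
      apply orderOf_dvd_of_pow_eq_one
      rw [← pow_mul, ← hn]; exact pow_orderOf_eq_one x
    exact Nat.Coprime.coprime_dvd_left hd ((Nat.Prime.coprime_iff_not_dvd hp).mpr hm').symm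
  -- (4) `M` is a `p`-group, so `M ≤ V`
  have hMp : IsPGroup p M := by
    obtain ⟨k, hk⟩ := IsPGroup.iff_card.mp hLp
    apply IsPGroup.of_card (n := k + m)
    have h3 := Subgroup.relIndex_mul_relIndex ⊥ L M bot_le hLM
    rw [Subgroup.relIndex_bot_left, Subgroup.relIndex_bot_left, hk, hm] at h3
    rw [← h3, pow_add]
  have hMV : M ≤ V := hVmax M hMH hMn hMp
  have hd : V.relIndex H ∣ M.relIndex H :=
    Dvd.intro_left _ (Subgroup.relIndex_mul_relIndex M V H hMV hVH)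
  exact hc2.coprime_dvd_left hd

end Cfsg.Agent.Lib.helper90
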